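import Groth.Agent.L24.RootD.Coord
import Mathlib.Data.Set.Card

/-!
The Weyl group and systems of simple roots.
-/

set_option autoImplicit false
set_option linter.unusedSectionVars false

open Function Set RootPairing
open Submodule (span)
open scoped Pointwise

namespace Groth.L24.RootD

variable {ι R M N : Type*} [CommRing R] [AddCommGroup M] [Module R M] [AddCommGroup N] [Module R N]
  {P : RootPairing ι R M N}

local notation "pos" => _root_.RootD.posOf

theorem root_smul (g : P.Aut) (i : ι) : P.root (g • i) = g • P.root i :=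
  Equiv.root_indexEquiv_eq_smul P i g

theorem reflection_smul_idx (i j : ι) : Equiv.reflection P i • j = P.reflectionPerm i j := rfl

theorem root_reflection_smul (i j : ι) :
    P.root (Equiv.reflection P i • j) = P.reflection i (P.root j) :=
  P.root_reflectionPerm i j

theorem smul_neg_idx (g : P.Aut) (i : ι) :
    g • P.reflectionPerm i i = P.reflectionPerm (g • i) (g • i) := by
  apply P.root.injective
  rw [root_smul, root_neg, smul_neg, root_neg, root_smul]

theorem smul_linear (g : P.Aut) (r : R) (x : M) : g • r • x = r • g • x := smul_comm g r x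

theorem smul_zsmul_M (g : P.Aut) (z : ℤ) (x : M) : g • z • x = z • g • x :=
  map_zsmul (DistribSMul.toAddMonoidHom M g) z x

theorem coroot'_smul (g : P.Aut) (x : M) (i : ι) :
    P.coroot' (g • i) (g • x) = P.coroot' i x := by
  have h := LinearMap.congr_fun
    (Hom.weight_coweight_transpose_apply P P (P.coroot (g • i)) g.toHom) x
  rw [Hom.coroot_coweightMap_apply] at h
  have e : g.toHom.indexEquiv.symm (g • i) = i := g.toHom.indexEquiv.symm_apply_apply i
  rw [e] at h
  exact h

theorem pairingIn_smul [CharZero R] [P.IsCrystallographic] (g : P.Aut) (i j : ι) :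
    P.pairingIn ℤ (g • i) (g • j) = P.pairingIn ℤ i j := by
  apply FaithfulSMul.algebraMap_injective ℤ R
  rw [algebraMap_pairingIn, algebraMap_pairingIn, ← root_coroot'_eq_pairing, root_smul,
    coroot'_smul, root_coroot'_eq_pairing]

theorem isIndiv_smul (g : P.Aut) {i : ι} (h : _root_.RootD.IsIndiv P i) :
    _root_.RootD.IsIndiv P (g • i) := by
  intro j hj
  apply h (g⁻¹ • j)
  rw [root_smul, ← smul_linear, hj, root_smul, inv_smul_smul]

theorem natSpan_smul (g : P.Aut) {S : Set ι} {x : M} (h : x ∈ _root_.RootD.natSpan P S) :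
    g • x ∈ _root_.RootD.natSpan P ((fun i => g • i) '' S) := by
  obtain ⟨l, hl, rfl⟩ := mem_natSpan_iff.1 h
  refine mem_natSpan_iff.2 ⟨l.map (g • ·), fun a ha => ?_, ?_⟩
  · obtain ⟨b, hb, rfl⟩ := Multiset.mem_map.1 ha
    exact ⟨b, hl b hb, rfl⟩
  · show _ = DistribSMul.toAddMonoidHom M g (rsum P l)
    simp [rsum, map_multiset_sum, Multiset.map_map, root_smul]

theorem mem_smul_image {g : P.Aut} {S : Set ι} {x : ι} :
    x ∈ (fun i => g • i) '' S ↔ g⁻¹ • x ∈ S := by
  rw [Set.mem_image]
  constructor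
  · rintro ⟨y, hy, rfl⟩; rwa [inv_smul_smul]
  · exact fun h => ⟨_, h, smul_inv_smul g x⟩

theorem smul_isClosedSub (g : P.Aut) {S : Set ι} (hS : _root_.RootD.IsClosedSub P S) :
    _root_.RootD.IsClosedSub P ((fun i => g • i) '' S) := by
  intro i j k hi hj hk
  rw [mem_smul_image] at hi hj ⊢
  refine hS hi hj ?_
  rw [root_smul, root_smul, root_smul, hk, smul_add]

theorem image_image_smul (g h : P.Aut) (S : Set ι) :
    (fun i => g • i) '' ((fun i => h • i) '' S) = (fun i => (g * h) • i) '' S := by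
  rw [Set.image_image]
  exact Set.image_congr fun i _ => (mul_smul g h i).symm

theorem conj_reflection (u : P.Aut) (i : ι) :
    u * Equiv.reflection P i * u⁻¹ = Equiv.reflection P (u • i) := by
  apply Equiv.weightHom_injective P
  ext x
  show (u * Equiv.reflection P i * u⁻¹) • x = Equiv.reflection P (u • i) • x
  rw [mul_smul, mul_smul, Equiv.reflection_smul, Equiv.reflection_smul, reflection_apply,
    reflection_apply, smul_sub, smul_inv_smul, smul_linear, root_smul]
  congr 2
  conv_rhs => rw [← smul_inv_smul u x, coroot'_smul]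

theorem reflection_mul_self (i : ι) : Equiv.reflection P i * Equiv.reflection P i = 1 := by
  conv_lhs => arg 1; rw [← Equiv.reflection_inv P i]
  exact inv_mul_cancel _

/-- The product of a word in reflections. -/
noncomputable abbrev wd (P : RootPairing ι R M N) (l : List ι) : P.Aut :=
  (l.map fun a => Equiv.reflection P a).prod

theorem wd_append (l m : List ι) : wd P (l ++ m) = wd P l * wd P m := by simp [wd]

theorem wd_cons (a : ι) (m : List ι) : wd P (a :: m) = Equiv.reflection P a * wd P m := by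
  simp [wd]

theorem wd_nil : wd P [] = 1 := rfl

theorem wd_singleton (a : ι) : wd P [a] = Equiv.reflection P a := mul_one _

theorem wd_reverse (l : List ι) : wd P l.reverse = (wd P l)⁻¹ := by
  induction l with
  | nil => exact inv_one.symm
  | cons a l ih =>
    rw [List.reverse_cons, wd_append, wd_singleton, wd_cons, ih, mul_inv_rev, Equiv.reflection_inv]

theorem wd_mem {T : Set ι} {l : List ι} (hl : ∀ a ∈ l, a ∈ T) :
    wd P l ∈ Subgroup.closure ((fun i : ι => Equiv.reflection P i) '' T) := by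
  refine Subgroup.list_prod_mem _ fun x hx => ?_
  obtain ⟨a, ha, rfl⟩ := List.mem_map.1 hx
  exact Subgroup.subset_closure ⟨a, hl a ha, rfl⟩

theorem exists_word {T : Set ι} {g : P.Aut}
    (hg : g ∈ Subgroup.closure ((fun i : ι => Equiv.reflection P i) '' T)) :
    ∃ l : List ι, (∀ a ∈ l, a ∈ T) ∧ wd P l = g := by
  induction hg using Subgroup.closure_induction with
  | mem x hx =>
    obtain ⟨i, hi, rfl⟩ := hx
    exact ⟨[i], by simpa using hi, wd_singleton i⟩
  | one => exact ⟨[], by simp, rfl⟩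
  | mul x y _ _ hx hy =>
    obtain ⟨l, hl, rfl⟩ := hx
    obtain ⟨m, hm, rfl⟩ := hy
    exact ⟨l ++ m, fun a ha => (List.mem_append.1 ha).elim (hl a) (hm a), wd_append l m⟩
  | inv x _ hx =>
    obtain ⟨l, hl, rfl⟩ := hx
    exact ⟨l.reverse, fun a ha => hl a (List.mem_reverse.1 ha), wd_reverse l⟩

/-- A word in `T` of least length. -/
def MinWord (P : RootPairing ι R M N) (T : Set ι) (l : List ι) : Prop :=
  (∀ a ∈ l, a ∈ T) ∧ ∀ l' : List ι, (∀ a ∈ l', a ∈ T) → wd P l' = wd P l → l.length ≤ l'.length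

theorem exists_minWord {T : Set ι} {g : P.Aut}
    (hg : g ∈ Subgroup.closure ((fun i : ι => Equiv.reflection P i) '' T)) :
    ∃ l : List ι, MinWord P T l ∧ wd P l = g := by
  classical
  have hex : ∃ n, ∃ l : List ι, ((∀ a ∈ l, a ∈ T) ∧ wd P l = g) ∧ l.length = n := by
    obtain ⟨l, hl⟩ := exists_word hg
    exact ⟨l.length, l, hl, rfl⟩
  obtain ⟨l, ⟨hl, hg'⟩, hn⟩ := Nat.find_spec hex
  exact ⟨l, ⟨hl, fun l' hl' h => hn ▸ Nat.find_min' hex ⟨l', ⟨hl', h.trans hg'⟩, rfl⟩⟩, hg'⟩

section Finite

variable [CharZero R] [IsDomain R] [P.IsCrystallographic] [Finite ι] {Δ : Set ι}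

theorem smul_isPosSys (g : P.Aut) {S : Set ι} (hS : _root_.RootD.IsPosSys P S) :
    _root_.RootD.IsPosSys P ((fun i => g • i) '' S) := by
  refine isPosSys_of_closed (fun i hi hi' => ?_) (fun i => ?_)
    (smul_isClosedSub g (isClosedSub_of_isPosSys hS))
  · rw [mem_smul_image] at hi hi'
    rw [smul_neg_idx] at hi'
    exact hS.disjoint hi hi'
  · rw [mem_smul_image, mem_smul_image, smul_neg_idx]
    exact hS.cover _

namespace IsSimple

theorem smul (hΔ : IsSimple P Δ) (g : P.Aut) : IsSimple P ((fun i => g • i) '' Δ) := by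
  refine ⟨?_, fun i => ?_⟩
  · let f : M →ₗ[ℤ] M := (DistribSMul.toAddMonoidHom M g).toIntLinearMap
    have hf : LinearMap.ker f = ⊥ := LinearMap.ker_eq_bot.2 (MulAction.injective g)
    have h : LinearIndepOn ℤ (f ∘ P.root) Δ := LinearIndependent.map' hΔ.linInd f hf
    have e : (f ∘ P.root) = P.root ∘ (fun i => g • i) := funext fun i => (root_smul g i).symm
    rw [e] at h
    exact h.image_of_comp _
  · rcases hΔ.mem_or (g⁻¹ • i) with h | h <;> have h' := natSpan_smul g h
    · left
      rwa [← root_smul, smul_inv_smul] at h'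
    · right
      rwa [smul_neg, ← root_smul, smul_inv_smul] at h'

theorem exists_flip (hΔ : IsSimple P Δ) {a : ι} (ha : a ∈ pos P Δ)
    (hind : _root_.RootD.IsIndiv P a) : ∀ l : List ι, (∀ b ∈ l, b ∈ Δ) → wd P l • a ∉ pos P Δ →
      ∃ p b q, l = p ++ b :: q ∧ wd P q • a = b := by
  intro l
  induction l with
  | nil => intro _ h; rw [wd_nil, one_smul] at h; exact absurd ha h
  | cons b t ih =>
    intro hl h
    by_cases ht : wd P t • a ∈ pos P Δ
    · refine ⟨[], b, t, rfl, ?_⟩
      by_contra hne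
      apply h
      rw [wd_cons, mul_smul, reflection_smul_idx]
      exact hΔ.reflection_mem_pos (hl b List.mem_cons_self) ht (isIndiv_smul _ hind) hne
    · obtain ⟨p, c, q, rfl, hq⟩ := ih (fun x hx => hl x (List.mem_cons_of_mem _ hx)) ht
      exact ⟨b :: p, c, q, rfl, hq⟩

theorem neg_last (hΔ : IsSimple P Δ) {T : Set ι} (hT : T ⊆ Δ) {l : List ι} {a : ι}
    (hmin : MinWord P T (l ++ [a])) :
    wd P l • a ∈ pos P Δ := by
  by_contra h
  have ha : a ∈ Δ := hT (hmin.1 a (by simp))
  obtain ⟨p, b, q, rfl, hq⟩ := hΔ.exists_flip (hΔ.subset_pos ha) (hΔ.indiv ha) l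
    (fun x hx => hT (hmin.1 x (by simp [hx]))) h
  have hconj := conj_reflection (wd P q) a
  rw [hq] at hconj
  have e : wd P (p ++ q) = wd P ((p ++ b :: q) ++ [a]) := by
    rw [wd_append, wd_append, wd_append, wd_cons, ← hconj]
    simp only [wd_singleton, mul_assoc, inv_mul_cancel_left, reflection_mul_self, mul_one]
  have := hmin.2 (p ++ q) (fun x hx => hmin.1 x (by
    rcases List.mem_append.1 hx with h' | h' <;> simp [h'])) e
  simp at this

theorem eq_one_of_image_subset (hΔ : IsSimple P Δ) {T : Set ι} (hT : T ⊆ Δ) {g : P.Aut}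
    (hg : g ∈ Subgroup.closure ((fun i : ι => Equiv.reflection P i) '' T))
    (h : ∀ i ∈ T, g • i ∈ pos P Δ) : g = 1 := by
  obtain ⟨l, hmin, rfl⟩ := exists_minWord hg
  rcases List.eq_nil_or_concat l with rfl | ⟨l, a, rfl⟩
  · rfl
  · rw [List.concat_eq_append] at hmin h
    have h1 := hΔ.neg_last hT hmin
    have h2 := h a (hmin.1 a (by simp))
    rw [wd_append, mul_smul] at h2
    rw [wd_singleton, reflection_smul_idx] at h2
    rw [smul_neg_idx] at h2
    exact absurd h2 (hΔ.disjoint_pos h1)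

theorem csum_reflection_lt (hΔ : IsSimple P Δ) {a k : ι} (ha : a ∈ Δ)
    (hp : 0 < P.pairingIn ℤ k a) {c d : ι →₀ ℤ} (hc : ↑c.support ⊆ Δ) (hck : comb P c = P.root k)
    (hd : ↑d.support ⊆ Δ) (hdk : comb P d = P.root (P.reflectionPerm a k)) : csum d < csum c := by
  classical
  have e : d = c - Finsupp.single a (P.pairingIn ℤ k a) := by
    refine hΔ.comb_eq hd (fun x hx => ?_)
      (by simp [map_sub, hck, hdk, root_reflectionPerm_int, -root_reflectionPerm])
    rcases Finset.mem_union.1 (Finsupp.support_sub hx) with h' | h'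
    · exact hc h'
    · have := Finsupp.support_single_subset h'
      rw [Finset.mem_singleton] at this
      exact this ▸ ha
  have : csum d = csum c - csum (Finsupp.single a (P.pairingIn ℤ k a)) := e ▸ map_sub _ _ _
  rw [csum_single] at this
  omega

theorem exists_conj_simple (hΔ : IsSimple P Δ) {k : ι} (hk : k ∈ pos P Δ)
    (hind : _root_.RootD.IsIndiv P k) :
    ∃ g ∈ Subgroup.closure ((fun i : ι => Equiv.reflection P i) '' Δ), ∃ a ∈ Δ, g • a = k := by
  obtain ⟨c, hc, hck, -⟩ := hΔ.exists_comb k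
  induction hn : (csum c).toNat using Nat.strong_induction_on generalizing k c with
  | _ n ih =>
    by_cases hkΔ : k ∈ Δ
    · exact ⟨1, one_mem _, k, hkΔ, one_smul _ k⟩
    obtain ⟨a, ha, hp⟩ := hΔ.exists_pairing_pos hk
    have hk' := hΔ.reflection_mem_pos ha hk hind fun e => hkΔ (e ▸ ha)
    obtain ⟨d, hd, hdk, -⟩ := hΔ.exists_comb (P.reflectionPerm a k)
    have hlt := hΔ.csum_reflection_lt ha hp hc hck hd hdk
    have hd0 := hΔ.csum_pos_of_pos hk' hd hdk
    obtain ⟨g, hg, b, hb, hgb⟩ := ih (csum d).toNat (by omega) hk'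
      (isIndiv_smul (Equiv.reflection P a) hind) d hd hdk rfl
    refine ⟨Equiv.reflection P a * g, mul_mem (Subgroup.subset_closure ⟨a, ha, rfl⟩) hg, b, hb, ?_⟩
    rw [mul_smul, hgb, reflection_smul_idx, reflectionPerm_self]

theorem exists_conj_simple' (hΔ : IsSimple P Δ) {k : ι} (hind : _root_.RootD.IsIndiv P k) :
    ∃ g ∈ Subgroup.closure ((fun i : ι => Equiv.reflection P i) '' Δ), ∃ a ∈ Δ, g • a = k := by
  rcases hΔ.cover_pos k with h | h
  · exact hΔ.exists_conj_simple h hind
  · obtain ⟨g, hg, a, ha, hga⟩ := hΔ.exists_conj_simple h (isIndiv_smul (Equiv.reflection P k) hind)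
    refine ⟨g * Equiv.reflection P a, mul_mem hg (Subgroup.subset_closure ⟨a, ha, rfl⟩), a, ha, ?_⟩
    rw [mul_smul, reflection_smul_idx, smul_neg_idx, hga]
    exact neg_neg_idx k

end IsSimple

theorem exists_indiv_reflection_eq (k : ι) :
    ∃ j, _root_.RootD.IsIndiv P j ∧ Equiv.reflection P j = Equiv.reflection P k := by
  by_cases hk : _root_.RootD.IsIndiv P k
  · exact ⟨k, hk, rfl⟩
  obtain ⟨j, hj⟩ : ∃ j, (2 : R) • P.root j = P.root k := by
    by_contra hh
    exact hk fun j hj => hh ⟨j, hj⟩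
  refine ⟨j, fun m hm => ?_, ?_⟩
  · have : P.root k = (4 : ℤ) • P.root m := by
      rw [← hj, ← hm, two_smul, two_smul]
      abel
    rcases multiple_of_root this with h | h | h | h <;> omega
  · have := torsionFree_N P
    have hco := smul_coroot_eq_of_root_eq_smul j k (2 : R) hj.symm
    apply Equiv.weightHom_injective P
    ext x
    show Equiv.reflection P j • x = Equiv.reflection P k • x
    rw [Equiv.reflection_smul, Equiv.reflection_smul, reflection_apply, reflection_apply]
    simp only [coroot', ← hco, map_smul, LinearMap.smul_apply, smul_eq_mul, ← hj, smul_smul]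
    congr 2
    ring

theorem closure_indiv_eq_weylGroup :
    Subgroup.closure ((fun i : ι => Equiv.reflection P i) '' {i : ι | _root_.RootD.IsIndiv P i}) =
      P.weylGroup := by
  refine le_antisymm (Subgroup.closure_mono (Set.image_subset_range _ _)) ?_
  refine (Subgroup.closure_le _).2 ?_
  rintro - ⟨k, rfl⟩
  obtain ⟨j, hj, h⟩ := exists_indiv_reflection_eq (P := P) k
  exact h ▸ Subgroup.subset_closure ⟨j, hj, rfl⟩

namespace IsSimple

theorem closure_eq_weylGroup (hΔ : IsSimple P Δ) :
    Subgroup.closure ((fun i : ι => Equiv.reflection P i) '' Δ) = P.weylGroup := by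
  refine le_antisymm (Subgroup.closure_mono (Set.image_subset_range _ _)) ?_
  rw [← closure_indiv_eq_weylGroup, Subgroup.closure_le]
  rintro - ⟨k, hk, rfl⟩
  obtain ⟨g, hg, a, ha, rfl⟩ := hΔ.exists_conj_simple' hk
  show Equiv.reflection P (g • a) ∈ _
  rw [← conj_reflection]
  exact mul_mem (mul_mem hg (Subgroup.subset_closure ⟨a, ha, rfl⟩)) (inv_mem hg)

theorem eq_one_of_weyl (hΔ : IsSimple P Δ) {g : P.Aut} (hg : g ∈ P.weylGroup)
    (h : ∀ i ∈ Δ, g • i ∈ pos P Δ) : g = 1 :=
  hΔ.eq_one_of_image_subset Set.Subset.rfl (hΔ.closure_eq_weylGroup ▸ hg) h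

end IsSimple

theorem exists_image_subset {S P' : Set ι} (hS : _root_.RootD.IsPosSys P S)
    (hcov : ∀ i : ι, i ∈ P' ∨ P.reflectionPerm i i ∈ P') (hcl : _root_.RootD.IsClosedSub P P') :
    ∃ g ∈ P.weylGroup, (fun i : ι => g • i) '' S ⊆ P' := by
  induction hn : (S \ P').ncard using Nat.strong_induction_on generalizing S with
  | _ n ih =>
    by_cases hsub : S ⊆ P'
    · exact ⟨1, one_mem _, by simpa using hsub⟩
    obtain ⟨a, haS, haP⟩ : ∃ a ∈ simples P S, a ∉ P' := by
      by_contra hh
      push Not at hh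
      exact hsub fun k hk => mem_of_closed_of_mem_natSpan hcl (natSpan_mono hh
        (mem_natSpan_simples (isClosedSub_of_isPosSys hS) hS.disjoint hk))
    have hΔ := isSimple_simples hS
    have hneg : P.reflectionPerm a a ∈ P' := (hcov a).resolve_left haP
    let s := Equiv.reflection P a
    have hss : (fun i : ι => s • i) '' S \ P' ⊂ S \ P' := by
      constructor
      · rintro x ⟨⟨y, hy, rfl⟩, hx⟩
        rw [← posOf_simples hS] at hy
        rcases hΔ.eq_single_or_reflection_mem_pos haS hy with h | h | h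
        · exact absurd (P.root.injective h ▸ hneg) hx
        · refine absurd (hcl hneg hneg ?_) hx
          simp only [s, root_reflection_smul, h, map_add, root_reflectionPerm]
        · rw [posOf_simples hS] at h
          exact ⟨h, hx⟩
      · intro hh
        obtain ⟨⟨y, hy, hya⟩, -⟩ := hh (show a ∈ S \ P' from ⟨haS.1, haP⟩)
        have : y = P.reflectionPerm a a := by
          have := congrArg (Equiv.reflection P a • ·) hya
          simpa [s, reflection_smul_idx] using this
        exact hS.disjoint haS.1 (this ▸ hy)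
    obtain ⟨g, hg, hgs⟩ := ih _ (hn ▸ Set.ncard_lt_ncard hss (Set.toFinite _))
      (smul_isPosSys s hS) rfl
    exact ⟨g * s, mul_mem hg (P.reflection_mem_weylGroup a), by rw [← image_image_smul]; exact hgs⟩

theorem isPosSys_eq_of_subset {S S' : Set ι} (hS : _root_.RootD.IsPosSys P S)
    (hS' : _root_.RootD.IsPosSys P S') (h : S ⊆ S') : S = S' :=
  Set.Subset.antisymm h fun k hk =>
    (hS.cover k).resolve_right fun h' => hS'.disjoint hk (h h')

theorem exists_image_eq {S S' : Set ι} (hS : _root_.RootD.IsPosSys P S)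
    (hS' : _root_.RootD.IsPosSys P S') :
    ∃ g ∈ P.weylGroup, (fun i : ι => g • i) '' S = S' := by
  obtain ⟨g, hg, h⟩ := exists_image_subset hS hS'.cover (isClosedSub_of_isPosSys hS')
  exact ⟨g, hg, isPosSys_eq_of_subset (smul_isPosSys g hS) hS' h⟩

theorem IsSimple.exists_image_eq {Δ' : Set ι} (hΔ : IsSimple P Δ) (hΔ' : IsSimple P Δ') :
    ∃ g ∈ P.weylGroup, (fun i : ι => g • i) '' Δ = Δ' := by
  obtain ⟨g, hg, h⟩ := RootD.exists_image_eq hΔ.isPosSys hΔ'.isPosSys
  refine ⟨g, hg, ?_⟩
  rw [eq_simples_of_subset hΔ'.isPosSys hΔ' hΔ'.subset_pos]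
  exact eq_simples_of_subset hΔ'.isPosSys (hΔ.smul g) (h ▸ Set.image_mono hΔ.subset_pos)

theorem IsSimple.eq_one_of_image_eq (hΔ : IsSimple P Δ) {g : P.Aut} (hg : g ∈ P.weylGroup)
    (h : (fun i : ι => g • i) '' Δ = Δ) : g = 1 :=
  hΔ.eq_one_of_weyl hg fun i hi => hΔ.subset_pos (h ▸ Set.mem_image_of_mem _ hi)

theorem IsSimple.existsUnique_weyl {Δ' : Set ι} (hΔ : IsSimple P Δ) (hΔ' : IsSimple P Δ') :
    ∃! g : P.weylGroup, (fun i : ι => (g : P.Aut) • i) '' Δ = Δ' := by
  obtain ⟨g, hg, h⟩ := hΔ.exists_image_eq hΔ'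
  refine ⟨⟨g, hg⟩, h, ?_⟩
  rintro ⟨u, hu⟩ hu'
  have e : (fun i : ι => (g⁻¹ * u) • i) '' Δ = Δ := by
    rw [← image_image_smul, hu', ← h, image_image_smul, inv_mul_cancel]
    simp
  exact Subtype.ext (inv_mul_eq_one.1 (hΔ.eq_one_of_image_eq (mul_mem (inv_mem hg) hu) e)).symm

theorem eq_zero_of_mem_rootSpan {x : M} (hx : x ∈ P.rootSpan R) (h : ∀ j, P.coroot' j x = 0) :
    x = 0 := by
  have : Fintype ι := Fintype.ofFinite ι
  refine Submodule.disjoint_def.1 P.disjoint_rootSpan_ker_rootForm x hx ?_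
  ext y
  rw [rootForm_apply_apply, LinearMap.zero_apply]
  simp [h]

theorem weyl_sub_mem {g : P.Aut} (hg : g ∈ P.weylGroup) (x : M) : g • x - x ∈ P.rootSpan R := by
  induction hg using weylGroup.induction generalizing x with
  | mem i =>
    rw [Equiv.reflection_smul, reflection_apply, sub_sub_cancel_left]
    exact neg_mem (Submodule.smul_mem _ _ (Submodule.subset_span (Set.mem_range_self i)))
  | one => simp
  | mul g h _ _ hg hh =>
    rw [mul_smul, ← sub_add_sub_cancel (g • h • x) (h • x) x]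
    exact add_mem (hg _) (hh _)

theorem weylGroupToPerm_inj : Function.Injective P.weylGroupToPerm := by
  rw [injective_iff_map_eq_one]
  rintro ⟨g, hg⟩ h
  have hfix : ∀ i : ι, g • i = i := fun i => _root_.Equiv.congr_fun h i
  refine Subtype.ext (Equiv.weightHom_injective P ?_)
  ext x
  show g • x = (1 : P.Aut) • x
  rw [one_smul, ← sub_eq_zero]
  refine eq_zero_of_mem_rootSpan (weyl_sub_mem hg x) fun j => ?_
  rw [map_sub, sub_eq_zero]
  conv_lhs => rw [← hfix j, coroot'_smul]

end Finite

end Groth.L24.RootD
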