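import Groth.Agent.L24.RootD.Weyl
import Mathlib.Algebra.Order.Group.PiLex
import Mathlib.Algebra.Module.Torsion.Basic
import Mathlib.LinearAlgebra.Dimension.Free
import Mathlib.LinearAlgebra.FreeModule.PID

/-!
Existence of systems of positive roots; systems of roots cut out by subspaces.
-/

set_option autoImplicit false
set_option linter.unusedSectionVars false

open Function Set RootPairing
open Submodule (span)

namespace Groth.L24.RootD

variable {ι R M N : Type*} [CommRing R] [AddCommGroup M] [Module R M] [AddCommGroup N] [Module R N]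
  {P : RootPairing ι R M N} [CharZero R] [IsDomain R] [P.IsCrystallographic] [Finite ι]

local notation "pos" => _root_.RootD.posOf

/-- A rational multiple of the root lies in the span of the given roots. -/
def InSat (P : RootPairing ι R M N) (L : Set ι) (k : ι) : Prop :=
  ∃ m : ℕ, 0 < m ∧ m • P.root k ∈ span ℤ (P.root '' L)

theorem inSat_of_zsmul {L : Set ι} {k : ι} {z : ℤ} (hz : z ≠ 0)
    (h : z • P.root k ∈ span ℤ (P.root '' L)) : InSat P L k := by
  refine ⟨z.natAbs, Int.natAbs_pos.2 hz, ?_⟩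
  rw [← natCast_zsmul]
  rcases Int.natAbs_eq z with e | e
  · rwa [← e]
  · have : (z.natAbs : ℤ) • P.root k = -(z • P.root k) := by
      conv_rhs => rw [e, neg_smul, neg_neg]
    exact this ▸ neg_mem h

theorem exists_order (P : RootPairing ι R M N) [P.IsCrystallographic] (L : Set ι) :
    ∃ (n : ℕ) (ψ : span ℤ (Set.range P.root) →+ Lex (Fin n → ℤ)),
      ∀ k, ψ (P.rootSpanMem ℤ k) = 0 ↔ InSat P L k := by
  let L' : Submodule ℤ (span ℤ (Set.range P.root)) := span ℤ (P.rootSpanMem ℤ '' L)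
  have hmap : L'.map (span ℤ (Set.range P.root)).subtype = span ℤ (P.root '' L) := by
    rw [Submodule.map_span, Set.image_image]
    rfl
  let q : span ℤ (Set.range P.root) →ₗ[ℤ] _ := L'.mkQ
  let q' := (Submodule.torsion ℤ ((span ℤ (Set.range P.root)) ⧸ L')).mkQ
  have : Module.Finite ℤ ((span ℤ (Set.range P.root)) ⧸ L') := inferInstance
  let b := Module.finBasis ℤ
    (((span ℤ (Set.range P.root)) ⧸ L') ⧸ Submodule.torsion ℤ ((span ℤ (Set.range P.root)) ⧸ L'))
  refine ⟨_, ⟨⟨fun x => toLex (b.equivFun (q' (q x))), by simp [q, q']⟩, fun x y => by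
    simp [q, q']⟩, fun k => ?_⟩
  have key : ∀ (z : ℤ), z • P.rootSpanMem ℤ k ∈ L' ↔ z • P.root k ∈ span ℤ (P.root '' L) := by
    intro z
    rw [← hmap, Submodule.mem_map]
    constructor
    · exact fun h => ⟨_, h, rfl⟩
    · rintro ⟨y, hy, e⟩
      have : y = z • P.rootSpanMem ℤ k := Subtype.ext e
      exact this ▸ hy
  show toLex (b.equivFun (q' (q (P.rootSpanMem ℤ k)))) = 0 ↔ _
  rw [toLex_eq_zero, map_eq_zero_iff _ b.equivFun.injective, Submodule.mkQ_apply,
    Submodule.Quotient.mk_eq_zero, Submodule.mem_torsion_iff]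
  constructor
  · rintro ⟨⟨z, hz⟩, h⟩
    refine inSat_of_zsmul (nonZeroDivisors.ne_zero hz) ((key z).1 ?_)
    rw [← Submodule.Quotient.mk_eq_zero, Submodule.Quotient.mk_smul]
    exact h
  · rintro ⟨m, hm, h⟩
    refine ⟨⟨(m : ℤ), mem_nonZeroDivisors_of_ne_zero (by omega)⟩, ?_⟩
    show (m : ℤ) • q (P.rootSpanMem ℤ k) = 0
    rw [← map_smul, Submodule.mkQ_apply, Submodule.Quotient.mk_eq_zero, key, natCast_zsmul]
    exact h

/-- The saturation hypothesis. -/
def Sat (P : RootPairing ι R M N) (R' : Set ι) : Prop :=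
  ∀ k : ι, (∃ n : ℕ, 0 < n ∧ n • P.root k ∈ span ℤ (P.root '' R')) → k ∈ R'

theorem Sat.neg_mem {R' : Set ι} (h : Sat P R') {k : ι} (hk : k ∈ R') :
    P.reflectionPerm k k ∈ R' := by
  refine h _ ⟨1, one_pos, ?_⟩
  rw [one_smul, root_neg]
  exact Submodule.neg_mem _ (Submodule.subset_span (Set.mem_image_of_mem _ hk))

/-- A system of positive roots within a saturated set of roots. -/
structure PosIn (P : RootPairing ι R M N) (R' A : Set ι) : Prop where
  subset : A ⊆ R'
  disj : Disj P A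
  cover : ∀ k ∈ R', k ∈ A ∨ P.reflectionPerm k k ∈ A
  closed : _root_.RootD.IsClosedSub P A

/-- Extension of a system of positive roots in a saturated set of roots, using an order. -/
theorem PosIn.extend {R' A T : Set ι} (hsat : Sat P R') (hT : R' ⊆ T) (hA : PosIn P R' A)
    (hTsat : Sat P T) {G : Type*} [AddCommGroup G] [LinearOrder G] [IsOrderedAddMonoid G]
    (ψ : span ℤ (Set.range P.root) →+ G) (hψ : ∀ k, ψ (P.rootSpanMem ℤ k) = 0 ↔ InSat P R' k) :
    let S := {k | k ∈ T ∧ 0 < ψ (P.rootSpanMem ℤ k)} ∪ A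
    PosIn P T S ∧ S ∩ R' = A ∧ simples P S ∩ R' = simples P A ∧ A ⊆ S := by
  intro S
  have hzero : ∀ k, ψ (P.rootSpanMem ℤ k) = 0 ↔ k ∈ R' := fun k => by
    rw [hψ]
    exact ⟨hsat k, fun h => ⟨1, one_pos, by
      rw [one_smul]; exact Submodule.subset_span (Set.mem_image_of_mem _ h)⟩⟩
  have hA0 : ∀ k ∈ A, ψ (P.rootSpanMem ℤ k) = 0 := fun k hk => (hzero k).2 (hA.subset hk)
  have hadd : ∀ {i j k : ι}, P.root k = P.root i + P.root j →
      ψ (P.rootSpanMem ℤ k) = ψ (P.rootSpanMem ℤ i) + ψ (P.rootSpanMem ℤ j) := by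
    intro i j k h
    rw [← map_add]
    exact congrArg ψ (Subtype.ext h)
  have hge : ∀ k ∈ S, 0 ≤ ψ (P.rootSpanMem ℤ k) := by
    rintro k (h | h)
    · exact h.2.le
    · exact (hA0 k h).ge
  have hinter : S ∩ R' = A := by
    refine Set.Subset.antisymm ?_ fun k hk => ⟨Or.inr hk, hA.subset hk⟩
    rintro k ⟨h | h, hk⟩
    · exact absurd ((hzero k).2 hk) h.2.ne'
    · exact h
  have hTadd : ∀ {i j k : ι}, i ∈ T → j ∈ T → P.root k = P.root i + P.root j → k ∈ T := by
    intro i j k hi hj h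
    refine hTsat k ⟨1, one_pos, ?_⟩
    rw [one_smul, h]
    exact add_mem (Submodule.subset_span (Set.mem_image_of_mem _ hi))
      (Submodule.subset_span (Set.mem_image_of_mem _ hj))
  have hS : PosIn P T S := by
    refine ⟨?_, ?_, ?_, ?_⟩
    · rintro k (h | h)
      · exact h.1
      · exact hT (hA.subset h)
    · intro i hi hi'
      have e : ψ (P.rootSpanMem ℤ (P.reflectionPerm i i)) = -ψ (P.rootSpanMem ℤ i) := by
        rw [rootSpanMem_reflectionPerm_self, map_neg]
      rcases hi with hi | hi <;> rcases hi' with hi' | hi'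
      · have h' := hi'.2
        rw [e] at h'
        have := add_pos hi.2 h'
        simp at this
      · exact absurd (by simpa [e] using hA0 _ hi') hi.2.ne'
      · have h' := hi'.2
        rw [e, hA0 i hi, neg_zero] at h'
        exact absurd h' (lt_irrefl _)
      · exact hA.disj hi hi'
    · intro k hk
      rcases lt_trichotomy (ψ (P.rootSpanMem ℤ k)) 0 with h | h | h
      · refine Or.inr (Or.inl ⟨hTsat.neg_mem hk, ?_⟩)
        rw [rootSpanMem_reflectionPerm_self, map_neg]
        exact neg_pos.2 h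
      · rcases hA.cover k ((hzero k).1 h) with h' | h'
        · exact Or.inl (Or.inr h')
        · exact Or.inr (Or.inr h')
      · exact Or.inl (Or.inl ⟨hk, h⟩)
    · intro i j k hi hj h
      rcases hi with hi | hi
      · exact Or.inl ⟨hTadd hi.1 (by
          rcases hj with hj | hj
          exacts [hj.1, hT (hA.subset hj)]) h, by
          rw [hadd h]; exact add_pos_of_pos_of_nonneg hi.2 (hge j hj)⟩
      · rcases hj with hj | hj
        · exact Or.inl ⟨hTadd (hT (hA.subset hi)) hj.1 h, by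
            rw [hadd h, hA0 i hi, zero_add]; exact hj.2⟩
        · exact Or.inr (hA.closed hi hj h)
  refine ⟨hS, hinter, ?_, fun k hk => Or.inr hk⟩
  ext k
  constructor
  · rintro ⟨⟨hk, hd⟩, hkR⟩
    exact ⟨hinter ▸ ⟨hk, hkR⟩, fun ⟨i, hi, j, hj, h⟩ => hd ⟨i, Or.inr hi, j, Or.inr hj, h⟩⟩
  · rintro ⟨hk, hd⟩
    refine ⟨⟨Or.inr hk, ?_⟩, hA.subset hk⟩
    rintro ⟨i, hi, j, hj, h⟩
    have h0 := hadd h
    rw [hA0 k hk, eq_comm, add_eq_zero_iff_of_nonneg (hge i hi) (hge j hj)] at h0
    exact hd ⟨i, hinter ▸ ⟨hi, (hzero i).1 h0.1⟩, j, hinter ▸ ⟨hj, (hzero j).1 h0.2⟩, h⟩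

theorem PosIn.isPosSys {S : Set ι} (hS : PosIn P Set.univ S) : _root_.RootD.IsPosSys P S :=
  isPosSys_of_closed hS.disj (fun k => hS.cover k trivial) hS.closed

theorem sat_univ : Sat P (Set.univ : Set ι) := fun _ _ => trivial

/-- Extension to a system of positive roots. -/
theorem PosIn.exists_extend {R' A : Set ι} (hsat : Sat P R') (hA : PosIn P R' A) :
    ∃ S, _root_.RootD.IsPosSys P S ∧ S ∩ R' = A ∧ simples P S ∩ R' = simples P A := by
  obtain ⟨n, ψ, hψ⟩ := exists_order P R'
  obtain ⟨h1, h2, h3, -⟩ := hA.extend hsat (Set.subset_univ _) sat_univ ψ hψ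
  exact ⟨_, h1.isPosSys, h2, h3⟩

theorem sat_empty : Sat P (∅ : Set ι) := by
  rintro k ⟨n, hn, h⟩
  rw [Set.image_empty, Submodule.span_empty, Submodule.mem_bot] at h
  have := torsionFree_M P
  rw [nsmul_eq_zero_iff_right hn.ne'] at h
  exact absurd h (P.ne_zero k)

theorem exists_isPosSys (P : RootPairing ι R M N) [P.IsCrystallographic] :
    ∃ S, _root_.RootD.IsPosSys P S := by
  have : PosIn P (∅ : Set ι) ∅ := ⟨Set.Subset.rfl, fun i hi => hi.elim, fun i hi => hi.elim,
    fun i j k hi => hi.elim⟩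
  obtain ⟨S, hS, -⟩ := this.exists_extend sat_empty
  exact ⟨S, hS⟩

theorem exists_isSimple (P : RootPairing ι R M N) [P.IsCrystallographic] :
    ∃ Δ, IsSimple P Δ := by
  obtain ⟨S, hS⟩ := exists_isPosSys P
  exact ⟨_, isSimple_simples hS⟩

theorem PosIn.inSpan_eq {R' A : Set ι} (hsat : Sat P R') (hA : PosIn P R' A) :
    _root_.RootD.IsClosedSub P A ∧
    R' = {k | P.root k ∈ span ℤ (P.root '' simples P A)} := by
  refine ⟨hA.closed, Set.Subset.antisymm (fun k hk => ?_) fun k hk => hsat k ⟨1, one_pos, ?_⟩⟩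
  · rcases hA.cover k hk with h | h
    · exact natSpan_le_span _ (mem_natSpan_simples hA.closed hA.disj h)
    · have := natSpan_le_span _ (mem_natSpan_simples hA.closed hA.disj h)
      rw [root_neg, neg_mem_iff] at this
      exact this
  · rw [one_smul]
    exact Submodule.span_mono (Set.image_mono (simples_subset.trans hA.subset)) hk

theorem comb_indecomposable {Δ : Set ι} (hli : LinearIndepOn ℤ P.root Δ) {a i j : ι} (ha : a ∈ Δ)
    (hi : P.root i ∈ _root_.RootD.natSpan P Δ) (hj : P.root j ∈ _root_.RootD.natSpan P Δ)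
    (h : P.root a = P.root i + P.root j) : False := by
  classical
  obtain ⟨c, hc, hc0, hci⟩ := exists_comb_of_mem_natSpan hi
  obtain ⟨d, hd, hd0, hdj⟩ := exists_comb_of_mem_natSpan hj
  have e : c + d = Finsupp.single a 1 := by
    refine comb_unique hli (fun x hx => ?_) (fun x hx => ?_) (by simp [map_add, hci, hdj, h])
    · rcases Finset.mem_union.1 (Finsupp.support_add hx) with h' | h'
      · exact hc h'
      · exact hd h'
    · have := Finsupp.support_single_subset hx
      rw [Finset.mem_singleton] at this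
      exact this ▸ ha
  have : csum c + csum d = 1 := by rw [← csum_single a 1, ← e]; exact (map_add _ _ _).symm
  have h1 := csum_pos hc0 (comb_ne_zero_of_root hci)
  have h2 := csum_pos hd0 (comb_ne_zero_of_root hdj)
  omega

theorem exists_simple_superset {R' Δ' : Set ι} (hsat : Sat P R') (hΔ'R : Δ' ⊆ R')
    (hli : LinearIndepOn ℤ P.root Δ')
    (hgen : ∀ k ∈ R', P.root k ∈ _root_.RootD.natSpan P Δ' ∨
      -P.root k ∈ _root_.RootD.natSpan P Δ') :
    ∃ Δ, IsSimple P Δ ∧ Δ' ⊆ Δ ∧ R' = {k | P.root k ∈ span ℤ (P.root '' Δ')} := by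
  classical
  let A : Set ι := pos P Δ'
  have hsub : A ⊆ R' := fun k hk => hsat k ⟨1, one_pos, by
    rw [one_smul]
    exact Submodule.span_mono (Set.image_mono hΔ'R) (natSpan_le_span _ hk)⟩
  have hA : PosIn P R' A := by
    refine ⟨hsub, fun i hi hi' => ?_, fun k hk => ?_, fun i j k hi hj h => ?_⟩
    · obtain ⟨c, hc, hc0, hci⟩ := exists_comb_of_mem_natSpan hi
      obtain ⟨d, hd, hd0, hdi⟩ := exists_comb_of_mem_natSpan hi'
      have : -c = d := comb_unique hli (by simpa using hc) hd (by simp [hci, hdi])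
      subst this
      exact comb_ne_zero_of_root hci (le_antisymm (neg_nonneg.1 hd0) hc0)
    · rcases hgen k hk with h | h
      · exact Or.inl h
      · exact Or.inr (mem_posOf.2 (by rw [root_neg]; exact h))
    · refine mem_posOf.2 ?_
      rw [h]
      exact add_mem hi hj
  obtain ⟨S, hS, h1, h2⟩ := hA.exists_extend hsat
  refine ⟨_, isSimple_simples hS, fun a ha => ?_, ?_⟩
  · have : a ∈ simples P A :=
      ⟨root_mem_natSpan ha, fun ⟨i, hi, j, hj, h⟩ => comb_indecomposable hli ha hi hj h⟩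
    exact (h2.symm ▸ this : a ∈ simples P S ∩ R').1
  · refine Set.Subset.antisymm (fun k hk => ?_) fun k hk => hsat k ⟨1, one_pos, ?_⟩
    · rcases hgen k hk with h | h
      · exact natSpan_le_span _ h
      · exact neg_mem_iff.1 (natSpan_le_span _ h)
    · rw [one_smul]
      exact Submodule.span_mono (Set.image_mono hΔ'R) hk

theorem exists_simple_of_sat {R' : Set ι} (hsat : Sat P R') :
    ∃ Δ Δ', IsSimple P Δ ∧ Δ' ⊆ Δ ∧ R' = {k | P.root k ∈ span ℤ (P.root '' Δ')} := by
  obtain ⟨S0, hS0⟩ := exists_isPosSys P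
  have hA : PosIn P R' (R' ∩ S0) := by
    refine ⟨Set.inter_subset_left, fun i hi hi' => hS0.disjoint hi.2 hi'.2, fun k hk => ?_,
      fun i j k hi hj h => ?_⟩
    · rcases hS0.cover k with h | h
      · exact Or.inl ⟨hk, h⟩
      · exact Or.inr ⟨hsat.neg_mem hk, h⟩
    · refine ⟨hsat k ⟨1, one_pos, ?_⟩, isClosedSub_of_isPosSys hS0 hi.2 hj.2 h⟩
      rw [one_smul, h]
      exact add_mem (Submodule.subset_span (Set.mem_image_of_mem _ hi.1))
        (Submodule.subset_span (Set.mem_image_of_mem _ hj.1))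
  obtain ⟨S, hS, -, h2⟩ := hA.exists_extend hsat
  exact ⟨_, simples P (R' ∩ S0), isSimple_simples hS, h2 ▸ Set.inter_subset_left,
    (hA.inSpan_eq hsat).2⟩

theorem sat_inSpan {Δ Δ' : Set ι} (hΔ : IsSimple P Δ) (hsub : Δ' ⊆ Δ) :
    Sat P {k | P.root k ∈ span ℤ (P.root '' Δ')} := by
  classical
  rintro k ⟨n, hn, h⟩
  have h' : n • P.root k ∈ span ℤ (P.root '' Δ') := by
    refine Submodule.span_le.2 ?_ h
    rintro - ⟨i, hi, rfl⟩
    exact hi
  obtain ⟨c, hc, hck, -⟩ := hΔ.exists_comb k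
  obtain ⟨d, hd, hdk⟩ := exists_comb_of_mem_span h'
  have e : n • c = d := hΔ.comb_eq (fun x hx => hc (Finsupp.support_smul hx)) (hd.trans hsub)
    (by rw [comb, map_nsmul, ← comb, hck, hdk])
  have hc' : ↑c.support ⊆ Δ' := fun x hx => hd (by
    rw [← e, Finset.mem_coe, Finsupp.mem_support_iff]
    simp only [Finsupp.smul_apply, nsmul_eq_mul]
    exact mul_ne_zero (by omega) (Finsupp.mem_support_iff.1 hx))
  rw [Set.mem_ofPred_eq, ← hck]
  exact comb_mem_span hc'

/-- A closed set of roots containing a system of positive roots. -/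
theorem closed_superset_eq {S Δ P' : Set ι} (hS : _root_.RootD.IsPosSys P S) (hΔ : IsSimple P Δ)
    (hΔS : Δ ⊆ S) (hcl : _root_.RootD.IsClosedSub P P') (hSP : S ⊆ P') :
    P' = S ∪ {k : ι | -P.root k ∈
      _root_.RootD.natSpan P {i : ι | i ∈ Δ ∧ P.reflectionPerm i i ∈ P'}} := by
  have hsimp : Δ = simples P S := eq_simples_of_subset hS hΔ hΔS
  refine Set.Subset.antisymm (fun k hk => ?_) ?_
  · by_cases hkS : k ∈ S
    · exact Or.inl hkS
    have hn := (hS.cover k).resolve_left hkS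
    right
    rw [Set.mem_ofPred_eq, ← root_neg]
    have key : ∀ m ∈ S, P.reflectionPerm m m ∈ P' → P.root m ∈
        _root_.RootD.natSpan P {i : ι | i ∈ Δ ∧ P.reflectionPerm i i ∈ P'} := by
      intro m hm
      refine closed_induction (p := fun m => P.reflectionPerm m m ∈ P' → P.root m ∈
        _root_.RootD.natSpan P {i : ι | i ∈ Δ ∧ P.reflectionPerm i i ∈ P'})
        (isClosedSub_of_isPosSys hS) hS.disjoint ?_ ?_ hm
      · exact fun a ha h => root_mem_natSpan ⟨hsimp ▸ ha, h⟩
      · intro i j m hi hj _ h hpi hpj hm'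
        rw [h]
        refine add_mem (hpi (hcl hm' (hSP hj) ?_)) (hpj (hcl hm' (hSP hi) ?_))
        · rw [root_neg, root_neg, h]; abel
        · rw [root_neg, root_neg, h]; abel
    refine key _ hn ?_
    have : P.reflectionPerm (P.reflectionPerm k k) (P.reflectionPerm k k) = k := neg_neg_idx k
    rwa [this]
  · rintro k (hk | hk)
    · exact hSP hk
    · refine mem_of_closed_of_mem_natSpan hcl ?_
      obtain ⟨l, hl, hlk⟩ := mem_natSpan_iff.1 hk
      refine mem_natSpan_iff.2 ⟨l.map fun a => P.reflectionPerm a a, fun a ha => ?_, ?_⟩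
      · obtain ⟨b, hb, rfl⟩ := Multiset.mem_map.1 ha
        exact (hl b hb).2
      · rw [← neg_neg (P.root k), ← hlk]
        simp [rsum, Multiset.map_map, Function.comp_def]

theorem exists_simple_pair {i k : ι} (hα : _root_.RootD.IsIndiv P i)
    (hli : ∀ a b : ℤ, a • P.root i + b • P.root k = 0 → a = 0 ∧ b = 0) :
    ∃ Δ, IsSimple P Δ ∧ i ∈ Δ ∧ ∃ j ∈ Δ, ∃ a b : ℕ,
      P.root k = a • P.root i + b • P.root j := by
  classical
  have := torsionFree_M P
  have hline : Sat P {x | InSat P {i} x} := by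
    rintro x ⟨n, hn, h⟩
    obtain ⟨t, ht, h'⟩ : ∃ t : ℕ, 0 < t ∧ ∀ y ∈ span ℤ (P.root '' {x | InSat P {i} x}),
        t • y ∈ span ℤ (P.root '' {i}) := by
      choose f hf hf' using fun x : {x | InSat P {i} x} => x.2
      have : Fintype {x | InSat P {i} x} := Fintype.ofFinite _
      refine ⟨∏ x, f x, Finset.prod_pos fun x _ => hf x, fun y hy => ?_⟩
      induction hy using Submodule.span_induction with
      | mem y hy =>
        obtain ⟨z, hz, rfl⟩ := hy
        obtain ⟨c, hc⟩ := Finset.dvd_prod_of_mem f (Finset.mem_univ (⟨z, hz⟩ : {x | InSat P {i} x}))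
        rw [hc, mul_comm, mul_smul]
        exact nsmul_mem (hf' ⟨z, hz⟩) c
      | zero => simp
      | add a b _ _ ha hb => rw [smul_add]; exact add_mem ha hb
      | smul r a _ ha => rw [smul_comm]; exact Submodule.smul_mem _ r ha
    exact ⟨t * n, Nat.mul_pos ht hn, by rw [mul_smul]; exact h' _ h⟩
  have hmem : ∀ x, InSat P {i} x → ∃ z : ℤ, z ≠ 0 ∧ P.root x = z • P.root i := by
    rintro x ⟨n, hn, h⟩
    rw [Set.image_singleton, Submodule.mem_span_singleton] at h
    obtain ⟨a, ha⟩ := h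
    rw [← natCast_zsmul] at ha
    obtain ⟨z, rfl⟩ := dvd_of_proportional hα (by omega : (n : ℤ) ≠ 0) ha.symm
    rw [mul_smul] at ha
    refine ⟨z, ?_, (zsmul_cancel P (by omega) ha).symm⟩
    rintro rfl
    exact P.ne_zero x (zsmul_cancel P (by omega : (n : ℤ) ≠ 0) (by simpa using ha.symm))
  let A : Set ι := {x | ∃ z : ℤ, 0 < z ∧ P.root x = z • P.root i}
  have hsing : ∀ {z : ℤ} {x : ι}, P.root x = z • P.root i → InSat P {i} x := fun h =>
    ⟨1, one_pos, by
      rw [one_smul, h]
      exact Submodule.smul_mem _ _ (Submodule.subset_span (Set.mem_image_of_mem _ rfl))⟩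
  have hA : PosIn P {x | InSat P {i} x} A := by
    refine ⟨fun x ⟨z, _, h⟩ => hsing h, ?_, fun x hx => ?_, ?_⟩
    · rintro x ⟨z, hz, h⟩ ⟨w, hw, h'⟩
      rw [root_neg, h, ← neg_smul] at h'
      have := root_zsmul_injective h'
      omega
    · obtain ⟨z, hz, h⟩ := hmem x hx
      rcases lt_or_gt_of_ne hz with h' | h'
      · exact Or.inr ⟨-z, by omega, by rw [root_neg, h, neg_smul]⟩
      · exact Or.inl ⟨z, h', h⟩
    · rintro x y w ⟨z, hz, h⟩ ⟨z', hz', h'⟩ e
      exact ⟨z + z', by omega, by rw [e, h, h', add_smul]⟩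
  have hi1 : i ∈ simples P A := by
    refine ⟨⟨1, one_pos, (one_smul ℤ _).symm⟩, ?_⟩
    rintro ⟨x, ⟨z, hz, hx⟩, y, ⟨z', hz', hy⟩, e⟩
    rw [hx, hy, ← add_smul] at e
    have := root_zsmul_injective (P := P) (i := i) (n := 1) (m := z + z') ((one_smul ℤ _).trans e)
    omega
  let T : Set ι := {x | InSat P {i, k} x}
  have hT : Sat P T := by
    rintro x ⟨n, hn, h⟩
    obtain ⟨t, ht, h'⟩ : ∃ t : ℕ, 0 < t ∧ ∀ y ∈ span ℤ (P.root '' T),
        t • y ∈ span ℤ (P.root '' {i, k}) := by
      choose f hf hf' using fun x : T => x.2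
      have : Fintype T := Fintype.ofFinite _
      refine ⟨∏ x, f x, Finset.prod_pos fun x _ => hf x, fun y hy => ?_⟩
      induction hy using Submodule.span_induction with
      | mem y hy =>
        obtain ⟨z, hz, rfl⟩ := hy
        obtain ⟨c, hc⟩ := Finset.dvd_prod_of_mem f (Finset.mem_univ (⟨z, hz⟩ : T))
        rw [hc, mul_comm, mul_smul]
        exact nsmul_mem (hf' ⟨z, hz⟩) c
      | zero => simp
      | add a b _ _ ha hb => rw [smul_add]; exact add_mem ha hb
      | smul r a _ ha => rw [smul_comm]; exact Submodule.smul_mem _ r ha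
    exact ⟨t * n, Nat.mul_pos ht hn, by rw [mul_smul]; exact h' _ h⟩
  have hsubT : {x | InSat P {i} x} ⊆ T := fun x ⟨n, hn, h⟩ =>
    ⟨n, hn, Submodule.span_mono (Set.image_mono (by simp)) h⟩
  obtain ⟨n, ψ, hψ⟩ := exists_order P {x | InSat P {i} x}
  have hk0 : ψ (P.rootSpanMem ℤ k) ≠ 0 := by
    intro h
    obtain ⟨z, hz, h'⟩ := hmem k (hline k ((hψ k).1 h))
    have := hli z (-1) (by rw [h', neg_one_zsmul, add_neg_cancel])
    omega
  obtain ⟨φ, hφ, hφk⟩ : ∃ φ : span ℤ (Set.range P.root) →+ Lex (Fin n → ℤ),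
      (∀ x, φ (P.rootSpanMem ℤ x) = 0 ↔ InSat P {x | InSat P {i} x} x) ∧
        0 < φ (P.rootSpanMem ℤ k) := by
    rcases lt_or_gt_of_ne hk0 with h | h
    · exact ⟨-ψ, fun x => by simp [hψ], by rw [AddMonoidHom.neg_apply]; exact neg_pos.2 h⟩
    · exact ⟨ψ, hψ, h⟩
  obtain ⟨hA2, -, hs2, -⟩ := hA.extend hline hsubT hT φ hφ
  set A2 := {x | x ∈ T ∧ 0 < φ (P.rootSpanMem ℤ x)} ∪ A
  have hkA2 : k ∈ A2 := Or.inl ⟨⟨1, one_pos, by
    rw [one_smul]; exact Submodule.subset_span (Set.mem_image_of_mem _ (by simp))⟩, hφk⟩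
  obtain ⟨S, hS, -, hS2⟩ := hA2.exists_extend hT
  have hΔ := isSimple_simples hS
  have hsub : simples P A2 ⊆ simples P S := hS2 ▸ Set.inter_subset_left
  have hi2 : i ∈ simples P A2 := (hs2.symm ▸ hi1 : i ∈ simples P A2 ∩ _).1
  refine ⟨_, hΔ, hsub hi2, ?_⟩
  obtain ⟨c, hc, hc0, hck⟩ :=
    exists_comb_of_mem_natSpan (mem_natSpan_simples hA2.closed hA2.disj hkA2)
  obtain ⟨a, hca, hai⟩ : ∃ a, c a ≠ 0 ∧ a ≠ i := by
    by_contra hh
    push Not at hh
    have : c = Finsupp.single i (c i) := by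
      ext a
      by_cases e : i = a
      · subst e; simp
      · simp [e, Not.imp_symm (hh a) (Ne.symm e)]
    have h' : P.root k = c i • P.root i := by rw [← hck]; conv_lhs => rw [this]; simp
    have := hli (c i) (-1) (by rw [h', neg_one_zsmul, add_neg_cancel])
    omega
  have haA2 : a ∈ simples P A2 := hc (Finsupp.mem_support_iff.2 hca)
  have hother : ∀ b, b ≠ i → b ≠ a → c b = 0 := by
    intro b hbi hba
    obtain ⟨m, hm, h⟩ := (hA2.subset haA2.1 : a ∈ T)
    rw [Set.image_pair, Submodule.mem_span_pair] at h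
    obtain ⟨x, y, hxy⟩ := h
    rw [← natCast_zsmul] at hxy
    have hx1 : ↑(Finsupp.single i x + y • c).support ⊆ simples P A2 := by
      intro z hz
      rcases Finset.mem_union.1 (Finsupp.support_add hz) with h' | h'
      · have := Finsupp.support_single_subset h'
        rw [Finset.mem_singleton] at this
        exact this ▸ hi2
      · exact hc (Finsupp.support_smul h')
    have hx2 : ↑(Finsupp.single a (m : ℤ)).support ⊆ simples P A2 := fun z hz => by
      have := Finsupp.support_single_subset hz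
      rw [Finset.mem_singleton] at this
      exact this ▸ haA2
    have e : Finsupp.single i x + y • c = Finsupp.single a (m : ℤ) :=
      hΔ.comb_eq (hx1.trans hsub) (hx2.trans hsub) (by simp [map_add, hck, hxy])
    have ea := DFunLike.congr_fun e a
    have eb := DFunLike.congr_fun e b
    simp [Ne.symm hai, Ne.symm hbi, Ne.symm hba] at ea eb
    rcases eb with rfl | eb
    · simp at ea; omega
    · exact eb
  refine ⟨a, hsub haA2, (c i).toNat, (c a).toNat, ?_⟩
  have hsplit : c = Finsupp.single i (c i) + Finsupp.single a (c a) := by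
    ext b
    by_cases e : b = i
    · subst e; simp [hai, Ne.symm hai]
    by_cases e' : b = a
    · subst e'; simp [Ne.symm e, hai]
    · simp [Ne.symm e, Ne.symm e', hother b e e']
  rw [← natCast_zsmul, ← natCast_zsmul, Int.toNat_of_nonneg (hc0 i), Int.toNat_of_nonneg (hc0 a),
    ← hck]
  conv_lhs => rw [hsplit]
  simp [map_add]

end Groth.L24.RootD
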