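import Groth.Agent.L24.RootD.Levi
import Groth.Agent.L24.RootD.Exists
import Mathlib.LinearAlgebra.RootSystem.Reduced

/-!
The presentation of the lattice generated by the roots.
-/

set_option autoImplicit false
set_option linter.unusedSectionVars false

open Function Set RootPairing
open Submodule (span)

namespace Groth.L24.RootD

variable {ι R M N : Type*} [CommRing R] [CharZero R] [IsDomain R] [AddCommGroup M] [Module R M]
  [AddCommGroup N] [Module R N] {P : RootPairing ι R M N} [Finite ι] [P.IsCrystallographic]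

/-- Every root of a reduced pairing is indivisible. -/
theorem indiv_of_reduced [P.IsReduced] (i : ι) : _root_.RootD.IsIndiv P i := by
  intro j h
  have hdep : ¬ LinearIndependent R ![P.root i, P.root j] := by
    intro hl
    have := (LinearIndependent.pair_iff.1 hl) 1 (-2) (by rw [one_smul, neg_smul, h, add_neg_cancel])
    exact one_ne_zero this.1
  have := torsionFree_M P
  rcases IsReduced.eq_or_eq_neg i j hdep with e | e
  · rw [e, two_smul, add_eq_left] at h
    exact P.ne_zero j h
  · rw [e, two_smul, ← sub_eq_zero, show P.root j + P.root j - -P.root j = (3 : ℕ) • P.root j by abel] at h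
    exact P.ne_zero j ((smul_eq_zero.1 h).resolve_left (by norm_num))

theorem ker_comb [P.IsReduced] :
    LinearMap.ker (Finsupp.linearCombination ℤ (fun i : ι => (P.root i : M))) =
      Submodule.span ℤ (Set.range fun p : ι × ι =>
        Finsupp.single (P.reflectionPerm p.1 p.2) (1 : ℤ) - Finsupp.single p.2 1 +
          P.pairingIn ℤ p.2 p.1 • Finsupp.single p.1 1) := by
  classical
  set L := Submodule.span ℤ (Set.range fun p : ι × ι =>
        Finsupp.single (P.reflectionPerm p.1 p.2) (1 : ℤ) - Finsupp.single p.2 1 +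
          P.pairingIn ℤ p.2 p.1 • Finsupp.single p.1 1) with hL
  refine le_antisymm ?_ (Submodule.span_le.2 ?_)
  swap
  · rintro - ⟨⟨a, b⟩, rfl⟩
    simp [root_reflectionPerm_int, -root_reflectionPerm]
  obtain ⟨Δ, hΔ⟩ := exists_isSimple P
  set D : Submodule ℤ (ι →₀ ℤ) := Finsupp.supported ℤ ℤ Δ with hD
  have hrel : ∀ a b : ι, Finsupp.single b (1 : ℤ) ∈ L ⊔ D → a ∈ Δ →
      Finsupp.single (P.reflectionPerm a b) (1 : ℤ) ∈ L ⊔ D := by
    intro a b hb ha
    have h1 : Finsupp.single (P.reflectionPerm a b) (1 : ℤ) - Finsupp.single b 1 +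
        P.pairingIn ℤ b a • Finsupp.single a 1 ∈ L ⊔ D :=
      Submodule.mem_sup_left (Submodule.subset_span ⟨(a, b), rfl⟩)
    have h2 : P.pairingIn ℤ b a • Finsupp.single a (1 : ℤ) ∈ L ⊔ D :=
      Submodule.mem_sup_right (Submodule.smul_mem _ _ (Finsupp.single_mem_supported ℤ 1 ha))
    convert add_mem (sub_mem h1 h2) hb using 1
    abel
  have hall : ∀ k : ι, Finsupp.single k (1 : ℤ) ∈ L ⊔ D := by
    intro k
    obtain ⟨g, hg, a, ha, rfl⟩ := hΔ.exists_conj_simple' (indiv_of_reduced k)
    obtain ⟨l, hl, rfl⟩ := exists_word hg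
    clear hg
    induction l with
    | nil => rw [wd_nil, one_smul]; exact Submodule.mem_sup_right (Finsupp.single_mem_supported ℤ 1 ha)
    | cons x t ih =>
      rw [wd_cons, mul_smul, reflection_smul_idx]
      exact hrel x _ (ih fun y hy => hl y (List.mem_cons_of_mem _ hy)) (hl x List.mem_cons_self)
  intro x hx
  have hx' : x ∈ L ⊔ D := by
    rw [← x.sum_single]
    refine Submodule.sum_mem _ fun k _ => ?_
    rw [show Finsupp.single k (x k) = x k • Finsupp.single k (1 : ℤ) by simp]
    exact Submodule.smul_mem _ _ (hall k)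
  obtain ⟨y, hy, z, hz, rfl⟩ := Submodule.mem_sup.1 hx'
  have hy0 : Finsupp.linearCombination ℤ (fun i : ι => (P.root i : M)) y = 0 := by
    refine (Submodule.span_le.2 ?_ : L ≤ LinearMap.ker _) hy
    rintro - ⟨⟨a, b⟩, rfl⟩
    simp [root_reflectionPerm_int, -root_reflectionPerm]
  rw [LinearMap.mem_ker, map_add, hy0, zero_add] at hx
  have : z = 0 := hΔ.comb_eq ((Finsupp.mem_supported ℤ z).1 hz) (by simp) (by simpa using hx)
  rw [this, add_zero]
  exact hy

end Groth.L24.RootD
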