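import Groth.Agent.L24.RootD.Simple
import Mathlib.Algebra.Order.BigOperators.Group.Finset

/-!
Coordinates along a system of simple roots.
-/

set_option autoImplicit false
set_option linter.unusedSectionVars false

open Function Set RootPairing
open Submodule (span)

namespace Groth.L24.RootD

variable {ι R M N : Type*} [CommRing R] [AddCommGroup M] [Module R M] [AddCommGroup N] [Module R N]
  {P : RootPairing ι R M N} [CharZero R] [IsDomain R] {Δ : Set ι}

local notation "pos" => _root_.RootD.posOf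

theorem mem_posOf {P : RootPairing ι R M N} {Δ : Set ι} {k : ι} :
    k ∈ pos P Δ ↔ P.root k ∈ _root_.RootD.natSpan P Δ := Iff.rfl

/-- The height: sum of the coefficients. -/
noncomputable abbrev csum (c : ι →₀ ℤ) : ℤ := Finsupp.linearCombination ℤ (fun _ : ι => (1 : ℤ)) c

theorem csum_def (c : ι →₀ ℤ) : csum c = c.sum fun _ z => z := by
  simp [csum, Finsupp.linearCombination_apply]

theorem csum_single (i : ι) (z : ℤ) : csum (Finsupp.single i z) = z := by simp

theorem csum_nonneg {c : ι →₀ ℤ} (h : 0 ≤ c) : 0 ≤ csum c := by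
  rw [csum_def]
  exact Finset.sum_nonneg fun a _ => h a

theorem eq_zero_of_csum_eq_zero {c : ι →₀ ℤ} (h : 0 ≤ c) (h0 : csum c = 0) : c = 0 := by
  rw [csum_def] at h0
  ext a
  by_contra ha
  exact ha (Finset.sum_eq_zero_iff_of_nonneg (fun a _ => h a) |>.1 h0 a
    (Finsupp.mem_support_iff.2 ha))

theorem csum_pos {c : ι →₀ ℤ} (h : 0 ≤ c) (hne : c ≠ 0) : 0 < csum c :=
  lt_of_le_of_ne (csum_nonneg h) fun e => hne (eq_zero_of_csum_eq_zero h e.symm)

theorem comb_ne_zero_of_root {k : ι} {c : ι →₀ ℤ} (h : comb P c = P.root k) : c ≠ 0 := by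
  rintro rfl
  exact P.ne_zero k (by simpa using h.symm)

namespace IsSimple

theorem comb_eq (hΔ : IsSimple P Δ) {c d : ι →₀ ℤ} (hc : ↑c.support ⊆ Δ)
    (hd : ↑d.support ⊆ Δ) (h : comb P c = comb P d) : c = d :=
  comb_unique hΔ.linInd hc hd h

theorem exists_comb (hΔ : IsSimple P Δ) (k : ι) :
    ∃ c : ι →₀ ℤ, ↑c.support ⊆ Δ ∧ comb P c = P.root k ∧ (0 ≤ c ∨ c ≤ 0) := by
  rcases hΔ.mem_or k with h | h
  · obtain ⟨c, hc, h0, hk⟩ := exists_comb_of_mem_natSpan h
    exact ⟨c, hc, hk, Or.inl h0⟩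
  · obtain ⟨c, hc, h0, hk⟩ := exists_comb_of_mem_natSpan h
    exact ⟨-c, by simpa using hc, by simp [hk], Or.inr (neg_nonpos.2 h0)⟩

theorem nonneg_of_pos (hΔ : IsSimple P Δ) {k : ι} (hk : k ∈ pos P Δ) {c : ι →₀ ℤ}
    (hc : ↑c.support ⊆ Δ) (hck : comb P c = P.root k) : 0 ≤ c := by
  obtain ⟨d, hd, h0, hdk⟩ := exists_comb_of_mem_natSpan hk
  exact hΔ.comb_eq hd hc (hdk.trans hck.symm) ▸ h0

theorem mem_pos_of_coeff_pos (hΔ : IsSimple P Δ) {k : ι} {c : ι →₀ ℤ}
    (hc : ↑c.support ⊆ Δ) (hck : comb P c = P.root k) {a : ι} (ha : 0 < c a) : k ∈ pos P Δ := by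
  rcases hΔ.mem_or k with h | h
  · exact h
  · obtain ⟨d, hd, h0, hdk⟩ := exists_comb_of_mem_natSpan h
    have e : -c = d := hΔ.comb_eq (by simpa using hc) hd (by simp [hck, hdk])
    have := h0 a
    rw [← e] at this
    simp at this
    omega

theorem csum_pos_of_pos (hΔ : IsSimple P Δ) {k : ι} (hk : k ∈ pos P Δ) {c : ι →₀ ℤ}
    (hc : ↑c.support ⊆ Δ) (hck : comb P c = P.root k) : 0 < csum c :=
  csum_pos (hΔ.nonneg_of_pos hk hc hck) (comb_ne_zero_of_root hck)

theorem disjoint_pos (hΔ : IsSimple P Δ) : Disj P (pos P Δ) := by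
  intro i hi hi'
  obtain ⟨c, hc, hc0, hci⟩ := exists_comb_of_mem_natSpan hi
  have := hΔ.nonneg_of_pos hi' (c := -c) (by simpa using hc) (by simp [hci])
  exact comb_ne_zero_of_root hci (le_antisymm (neg_nonneg.1 this) hc0)

theorem closed_pos (_hΔ : IsSimple P Δ) : _root_.RootD.IsClosedSub P (pos P Δ) := by
  intro i j k hi hj hk
  show P.root k ∈ _root_.RootD.natSpan P Δ
  rw [hk]
  exact add_mem hi hj

theorem cover_pos (hΔ : IsSimple P Δ) (i : ι) :
    i ∈ pos P Δ ∨ P.reflectionPerm i i ∈ pos P Δ := by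
  rcases hΔ.mem_or i with h | h
  · exact Or.inl h
  · exact Or.inr (by rw [mem_posOf, root_neg]; exact h)

theorem subset_pos (_hΔ : IsSimple P Δ) : Δ ⊆ pos P Δ := fun _ h => root_mem_natSpan h

variable [P.IsCrystallographic] [Finite ι]

theorem isPosSys (hΔ : IsSimple P Δ) : _root_.RootD.IsPosSys P (pos P Δ) :=
  isPosSys_of_closed hΔ.disjoint_pos hΔ.cover_pos hΔ.closed_pos

theorem mem_simples (hΔ : IsSimple P Δ) {a : ι} (ha : a ∈ Δ) : a ∈ simples P (pos P Δ) := by
  refine ⟨hΔ.subset_pos ha, ?_⟩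
  rintro ⟨i, hi, j, hj, h⟩
  obtain ⟨c, hc, hc0, hci⟩ := exists_comb_of_mem_natSpan hi
  obtain ⟨d, hd, hd0, hdj⟩ := exists_comb_of_mem_natSpan hj
  classical
  have e : c + d = Finsupp.single a 1 := by
    refine hΔ.comb_eq (fun x hx => ?_) (fun x hx => ?_) ?_
    · rcases Finset.mem_union.1 (Finsupp.support_add hx) with h' | h'
      · exact hc h'
      · exact hd h'
    · have := Finsupp.support_single_subset hx
      rw [Finset.mem_singleton] at this
      exact this ▸ ha
    · simp [map_add, hci, hdj, h]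
  have : csum c + csum d = 1 := by rw [← csum_single a 1, ← e]; exact (map_add _ _ _).symm
  have h1 := csum_pos hc0 (comb_ne_zero_of_root hci)
  have h2 := csum_pos hd0 (comb_ne_zero_of_root hdj)
  omega

theorem simples_eq (hΔ : IsSimple P Δ) : simples P (pos P Δ) = Δ := by
  refine Set.Subset.antisymm (fun k hk => ?_) fun a ha => hΔ.mem_simples ha
  by_contra hkΔ
  obtain ⟨c, hc, hc0, hck⟩ := exists_comb_of_mem_natSpan hk.1
  have hsub : Δ ⊆ simples P (pos P Δ) := fun a ha => hΔ.mem_simples ha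
  have hli := linearIndepOn_simples hΔ.isPosSys
  have := comb_unique hli (hc.trans hsub) (d := Finsupp.single k 1) (fun x hx => ?_) (by simp [hck])
  · exact hkΔ (hc (by rw [this, Finset.mem_coe, Finsupp.mem_support_iff]; simp))
  · have := Finsupp.support_single_subset hx
    rw [Finset.mem_singleton] at this
    exact this ▸ hk

theorem subset_iff (hΔ : IsSimple P Δ) {S : Set ι} (hS : _root_.RootD.IsPosSys P S) :
    Δ ⊆ S ↔ S = pos P Δ := by
  refine ⟨fun h => ?_, fun h => h ▸ hΔ.subset_pos⟩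
  have hc := isClosedSub_of_isPosSys hS
  have hle : pos P Δ ⊆ S := fun k hk =>
    mem_of_closed_of_mem_natSpan hc (natSpan_mono h hk)
  refine Set.Subset.antisymm (fun k hk => ?_) hle
  rcases hΔ.cover_pos k with h' | h'
  · exact h'
  · exact absurd (hle h') (hS.disjoint hk)

theorem pairingIn_nonpos (hΔ : IsSimple P Δ) {i j : ι} (hi : i ∈ Δ) (hj : j ∈ Δ) (hij : i ≠ j) :
    P.pairingIn ℤ i j ≤ 0 :=
  pairingIn_nonpos_of_mem_simples hΔ.isPosSys (hΔ.mem_simples hi) (hΔ.mem_simples hj) hij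

theorem indiv (hΔ : IsSimple P Δ) {i : ι} (hi : i ∈ Δ) : _root_.RootD.IsIndiv P i := by
  intro j hj
  rw [two_smul] at hj
  obtain ⟨c, hc, hcj, -⟩ := hΔ.exists_comb j
  classical
  have e : c + c = Finsupp.single i 1 := by
    refine hΔ.comb_eq (fun x hx => ?_) (fun x hx => ?_) (by simp [map_add, hcj, hj])
    · rcases Finset.mem_union.1 (Finsupp.support_add hx) with h' | h' <;> exact hc h'
    · have := Finsupp.support_single_subset hx
      rw [Finset.mem_singleton] at this
      exact this ▸ hi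
  have := DFunLike.congr_fun e i
  simp at this
  omega

theorem exists_pairing_pos (hΔ : IsSimple P Δ) {k : ι} (hk : k ∈ pos P Δ) :
    ∃ a ∈ Δ, 0 < P.pairingIn ℤ k a := by
  obtain ⟨l, hl, hlk⟩ := mem_natSpan_iff.1 (mem_posOf.1 hk)
  have h2 := pairingIn_of_root_eq_rsum (j := k) hlk.symm
  rw [pairingIn_same] at h2
  obtain ⟨a, ha, hpos⟩ := exists_pos_of_sum_pos (l := l) (f := (P.pairingIn ℤ · k)) (by omega)
  exact ⟨a, hl a ha, (P.zero_lt_pairingIn_iff' ℤ).1 hpos⟩

end IsSimple

variable [P.IsCrystallographic] [Finite ι]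

theorem eq_simples_of_subset {S : Set ι} (hS : _root_.RootD.IsPosSys P S) (hΔ : IsSimple P Δ)
    (h : Δ ⊆ S) : Δ = simples P S := by
  rw [(hΔ.subset_iff hS).1 h, hΔ.simples_eq]

theorem posOf_simples {S : Set ι} (hS : _root_.RootD.IsPosSys P S) : pos P (simples P S) = S :=
  (((isSimple_simples hS).subset_iff hS).1 simples_subset).symm

theorem root_reflectionPerm_int (i j : ι) :
    P.root (P.reflectionPerm i j) = P.root j - P.pairingIn ℤ j i • P.root i := by
  rw [root_reflectionPerm, P.reflection_apply_root' ℤ]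

theorem multiple_of_root {i k : ι} {m : ℤ} (h : P.root k = m • P.root i) :
    m = 1 ∨ m = -1 ∨ m = 2 ∨ m = -2 := by
  classical
  have h2 := pairingIn_of_root_eq_comb (j := k) (c := Finsupp.single i m) (P := P) (k := k) (by simpa using h)
  rw [pairingIn_same, Finsupp.sum_single_index (by simp)] at h2
  have hdvd : m ∣ 2 := ⟨_, h2⟩
  have h1 : m.natAbs ≤ 2 := Nat.le_of_dvd two_pos (by simpa using Int.natAbs_dvd_natAbs.2 hdvd)
  have h0 : m ≠ 0 := by rintro rfl; simp at h2
  omega

theorem proportional_cases {i j : ι} {a b : ℤ} (hb : b ≠ 0) (h : b • P.root j = a • P.root i) :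
    P.pairingIn ℤ i j * P.pairingIn ℤ j i = 4 ∧ b * P.pairingIn ℤ j i = 2 * a ∧
      (2 : ℤ) • P.root j = P.pairingIn ℤ j i • P.root i := by
  have e (l : ι) : b * P.pairingIn ℤ j l = a * P.pairingIn ℤ i l := by
    apply FaithfulSMul.algebraMap_injective ℤ R
    have := congrArg (P.coroot' l) h
    rw [map_zsmul, map_zsmul, root_coroot'_eq_pairing, root_coroot'_eq_pairing] at this
    simpa [← P.algebraMap_pairingIn ℤ] using this
  have e1 := e i
  have e2 := e j
  rw [pairingIn_same] at e1 e2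
  refine ⟨?_, by omega, ?_⟩
  · refine mul_left_cancel₀ hb ?_
    calc b * (P.pairingIn ℤ i j * P.pairingIn ℤ j i)
        = P.pairingIn ℤ i j * (b * P.pairingIn ℤ j i) := by ring
      _ = 2 * (a * P.pairingIn ℤ i j) := by rw [e1]; ring
      _ = b * 4 := by rw [← e2]; ring
  · apply zsmul_cancel P hb
    rw [smul_smul, smul_smul, e1, mul_comm b, mul_smul, h, smul_smul, mul_comm 2]

theorem dvd_of_proportional {i j : ι} (hind : _root_.RootD.IsIndiv P i) {a b : ℤ} (hb : b ≠ 0)
    (h : b • P.root j = a • P.root i) : b ∣ a := by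
  obtain ⟨h4, h1, h2⟩ := proportional_cases hb h
  set p := P.pairingIn ℤ i j
  set q := P.pairingIn ℤ j i with hq
  have hdvd : q ∣ 4 := ⟨p, by rw [← h4]; ring⟩
  have hle : q.natAbs ≤ 4 :=
    Nat.le_of_dvd (by norm_num) (by simpa using Int.natAbs_dvd_natAbs.2 hdvd)
  have hne1 : q ≠ 1 := by
    intro e
    rw [e, one_smul, two_zsmul] at h2
    exact hind j (by rw [two_smul, h2])
  have hne1' : q ≠ -1 := by
    intro e
    rw [e, neg_one_zsmul, two_zsmul] at h2
    refine hind (P.reflectionPerm j j) ?_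
    rw [two_smul, root_neg, ← neg_add, h2, neg_neg]
  obtain ⟨t, ht⟩ : (2 : ℤ) ∣ q := by
    have : q = -4 ∨ q = -3 ∨ q = -2 ∨ q = 0 ∨ q = 2 ∨ q = 3 ∨ q = 4 := by omega
    rcases this with h | h | h | h | h | h | h <;> rw [h] <;> try norm_num
    all_goals
      rw [h] at h4
      omega
  refine ⟨t, ?_⟩
  rw [ht] at h1
  linarith

namespace IsSimple

theorem multiple_of_simple (_hΔ : IsSimple P Δ) {i k : ι} (_hi : i ∈ Δ) {c : ι →₀ ℤ}
    (hck : comb P c = P.root k) (hcs : ∀ a, a ≠ i → c a = 0) :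
    c i = 1 ∨ c i = -1 ∨ c i = 2 ∨ c i = -2 := by
  apply multiple_of_root (P := P) (k := k) (i := i)
  have : c = Finsupp.single i (c i) := by
    ext a
    by_cases h : i = a
    · subst h; simp
    · simp [h, hcs a (Ne.symm h)]
  conv_lhs => rw [← hck, this]
  simp

theorem reflection_mem_pos_of_coeff (hΔ : IsSimple P Δ) {i k a : ι} (hi : i ∈ Δ)
    (hk : k ∈ pos P Δ) {c : ι →₀ ℤ} (hc : ↑c.support ⊆ Δ) (hck : comb P c = P.root k)
    (ha : a ≠ i) (hca : c a ≠ 0) : P.reflectionPerm i k ∈ pos P Δ := by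
  classical
  refine hΔ.mem_pos_of_coeff_pos (c := c - Finsupp.single i (P.pairingIn ℤ k i)) (a := a)
    (fun x hx => ?_) (by simp [map_sub, hck, root_reflectionPerm_int, -root_reflectionPerm]) ?_
  · rcases Finset.mem_union.1 (Finsupp.support_sub hx) with h' | h'
    · exact hc h'
    · have := Finsupp.support_single_subset h'
      rw [Finset.mem_singleton] at this
      exact this ▸ hi
  · have := hΔ.nonneg_of_pos hk hc hck a
    simp [Ne.symm ha] at this ⊢
    omega

theorem eq_single_or_reflection_mem_pos (hΔ : IsSimple P Δ) {i k : ι} (hi : i ∈ Δ)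
    (hk : k ∈ pos P Δ) :
    P.root k = P.root i ∨ P.root k = P.root i + P.root i ∨ P.reflectionPerm i k ∈ pos P Δ := by
  obtain ⟨c, hc, hc0, hck⟩ := exists_comb_of_mem_natSpan hk
  by_cases h : ∀ a, a ≠ i → c a = 0
  · have hm := hΔ.multiple_of_simple hi hck h
    have : c = Finsupp.single i (c i) := by
      ext a
      by_cases e : i = a
      · subst e; simp
      · simp [e, h a (Ne.symm e)]
    have hr : P.root k = c i • P.root i := by conv_lhs => rw [← hck, this]; simp
    have := hc0 i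
    simp at this
    rcases hm with e | e | e | e <;> rw [e] at hr this
    · exact Or.inl (by simpa using hr)
    · omega
    · exact Or.inr (Or.inl (by simpa [two_zsmul] using hr))
    · omega
  · push Not at h
    obtain ⟨a, ha, hca⟩ := h
    exact Or.inr (Or.inr (hΔ.reflection_mem_pos_of_coeff hi hk hc hck ha hca))

theorem reflection_mem_pos (hΔ : IsSimple P Δ) {i k : ι} (hi : i ∈ Δ) (hk : k ∈ pos P Δ)
    (hind : _root_.RootD.IsIndiv P k) (hne : k ≠ i) : P.reflectionPerm i k ∈ pos P Δ := by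
  rcases hΔ.eq_single_or_reflection_mem_pos hi hk with h | h | h
  · exact absurd (P.root.injective h) hne
  · exact absurd (by rw [two_smul, h]) (hind i)
  · exact h

end IsSimple

end Groth.L24.RootD
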