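import Groth.Agent.L24.RootD.Forms
import Mathlib.Algebra.Order.Star.Real

/-!
Lengths of roots for a root datum over the integers.
-/

set_option autoImplicit false
set_option linter.unusedSectionVars false

open Function Set RootPairing
open Submodule (span)

namespace Groth.L24.RootD

variable {ι M N : Type*} [AddCommGroup M] [AddCommGroup N] {P : RootPairing ι ℤ M N}

theorem pairingIn_int (i j : ι) : P.pairingIn ℤ i j = P.pairing i j := by
  rw [← P.algebraMap_pairingIn ℤ i j]
  rfl

theorem isOrthogonal_iff_int [Finite ι] {i j : ι} : P.IsOrthogonal i j ↔ P.pairing i j = 0 := by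
  rw [isOrthogonal_iff, pairingIn_int]

variable [Fintype ι]

/-- The squared length of a root. -/
noncomputable abbrev ell (P : RootPairing ι ℤ M N) (i : ι) : ℤ := P.RootForm (P.root i) (P.root i)

theorem ell_pos (i : ι) : 0 < ell P i :=
  P.rootForm_pos_of_ne_zero (Submodule.subset_span (Set.mem_range_self i)) (P.ne_zero i)

theorem ell_smul (g : P.Aut) (i : ι) : ell P (g • i) = ell P i := by
  rw [ell, root_smul, rootForm_smul]

theorem ell_swap (i j : ι) : P.pairing j i * ell P i = P.pairing i j * ell P j :=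
  P.toInvariantForm.pairing_mul_eq_pairing_mul_swap i j

theorem two_form (i j : ι) :
    2 * P.RootForm (P.root i) (P.root j) = P.pairing i j * ell P j :=
  P.toInvariantForm.two_mul_apply_root_root i j

theorem pairing_cases (i j : ι) : (P.pairing i j, P.pairing j i) ∈
    ({(0, 0), (1, 1), (-1, -1), (1, 2), (2, 1), (-1, -2), (-2, -1), (1, 3), (3, 1), (-1, -3),
      (-3, -1), (4, 1), (1, 4), (-4, -1), (-1, -4), (2, 2), (-2, -2)} : Set (ℤ × ℤ)) := by
  rw [← pairingIn_int, ← pairingIn_int]
  exact P.pairingIn_pairingIn_mem_set_of_isCrystallographic i j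

theorem pairing_cases_red [P.IsReduced] (i j : ι) : (P.pairing i j, P.pairing j i) ∈
    ({(0, 0), (1, 1), (-1, -1), (1, 2), (2, 1), (-1, -2), (-2, -1), (1, 3), (3, 1), (-1, -3),
      (-3, -1), (2, 2), (-2, -2)} : Set (ℤ × ℤ)) := by
  rw [← pairingIn_int, ← pairingIn_int]
  exact P.pairingIn_pairingIn_mem_set_of_isCrystal_of_isRed i j

theorem exists_conj_of_ell_eq {i j : ι} (hno : P.pairing i j ≠ 0) (hl : ell P i = ell P j) :
    ∃ g ∈ P.weylGroup, g • i = j := by
  have : Module.IsReflexive ℤ M := .of_isPerfPair P.toLinearMap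
  have hp : P.pairing i j = P.pairing j i := by
    have := ell_swap (P := P) i j
    rw [hl] at this
    exact (mul_right_cancel₀ (ell_pos j).ne' this).symm
  have hmem : ∀ k, Equiv.reflection P k ∈ P.weylGroup := P.reflection_mem_weylGroup
  have h := pairing_cases (P := P) i j
  simp only [Set.mem_insert_iff, Set.mem_singleton_iff, Prod.mk.injEq] at h
  have e : P.pairing i j = 2 ∨ P.pairing i j = -2 ∨ P.pairing i j = 1 ∨ P.pairing i j = -1 := by
    omega
  rcases e with e | e | e | e
  · exact ⟨1, one_mem _, by rw [one_smul]; exact (P.pairing_two_two_iff i j).1 ⟨e, hp ▸ e⟩⟩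
  · refine ⟨Equiv.reflection P i, hmem i, P.root.injective ?_⟩
    rw [reflection_smul_idx, root_neg, (P.pairing_neg_two_neg_two_iff i j).1 ⟨e, hp ▸ e⟩, neg_neg]
  · refine ⟨Equiv.reflection P j * (Equiv.reflection P i * Equiv.reflection P j),
      mul_mem (hmem j) (mul_mem (hmem i) (hmem j)), P.root.injective ?_⟩
    simp only [mul_smul, reflection_smul_idx, root_reflectionPerm, reflection_apply_root, map_sub,
      map_zsmul, pairing_same, e, hp ▸ e, one_smul]
    module
  · refine ⟨Equiv.reflection P i * Equiv.reflection P j, mul_mem (hmem i) (hmem j),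
      P.root.injective ?_⟩
    simp only [mul_smul, reflection_smul_idx, root_reflectionPerm, reflection_apply_root, map_sub,
      map_zsmul, pairing_same, e, hp ▸ e, neg_smul, one_smul, sub_neg_eq_add, map_add]
    module

theorem Irr.exists_ell_eq_not_orth (h : Irr P) (i j : ι) :
    ∃ j', P.pairing i j' ≠ 0 ∧ ell P j' = ell P j ∧ ∃ g ∈ P.weylGroup, g • j = j' := by
  obtain ⟨g, hg, hne⟩ := h.exists_conj_not_orth i j
  exact ⟨g • j, by rwa [← pairingIn_int], ell_smul g j, g, hg, rfl⟩

theorem Irr.exists_conj (h : Irr P) {i j : ι} (hl : ell P i = ell P j) :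
    ∃ g ∈ P.weylGroup, g • i = j := by
  obtain ⟨j', hne, hlj, g, hg, rfl⟩ := h.exists_ell_eq_not_orth i j
  obtain ⟨u, hu, hui⟩ := exists_conj_of_ell_eq hne (hl.trans hlj.symm)
  exact ⟨g⁻¹ * u, mul_mem (inv_mem hg) hu, by rw [mul_smul, hui, inv_smul_smul]⟩

theorem ell_ratio [P.IsReduced] {i j : ι} (h : P.pairing i j ≠ 0) :
    ell P i = ell P j ∨ ell P i = 2 * ell P j ∨ ell P i = 3 * ell P j ∨
      ell P j = 2 * ell P i ∨ ell P j = 3 * ell P i := by
  have h2 := ell_swap (P := P) i j
  have h1 := pairing_cases_red (P := P) i j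
  simp only [Set.mem_insert_iff, Set.mem_singleton_iff, Prod.mk.injEq] at h1
  rcases h1 with ⟨a, b⟩ | ⟨a, b⟩ | ⟨a, b⟩ | ⟨a, b⟩ | ⟨a, b⟩ | ⟨a, b⟩ | ⟨a, b⟩ | ⟨a, b⟩ | ⟨a, b⟩ |
      ⟨a, b⟩ | ⟨a, b⟩ | ⟨a, b⟩ | ⟨a, b⟩ <;>
    rw [a, b] at h2 <;> omega

theorem Irr.ell_ratio_min [P.IsReduced] (h : Irr P) {i₀ : ι} (hmin : ∀ i, ell P i₀ ≤ ell P i)
    (i : ι) : ell P i = ell P i₀ ∨ ell P i = 2 * ell P i₀ ∨ ell P i = 3 * ell P i₀ := by
  obtain ⟨j, hne, hl, -⟩ := h.exists_ell_eq_not_orth i i₀
  have := ell_ratio hne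
  have := hmin i
  have := ell_pos (P := P) i₀
  omega

theorem Irr.not_two_and_three [P.IsReduced] (h : Irr P) {i₀ i j : ι}
    (hi : ell P i = 2 * ell P i₀) (hj : ell P j = 3 * ell P i₀) : False := by
  obtain ⟨j', hne, hl, -⟩ := h.exists_ell_eq_not_orth i j
  have := ell_ratio hne
  have := ell_pos (P := P) i₀
  omega

theorem ell_coell {i j : ι} (h : P.pairing i j ≠ 0) :
    ell P i * ell P.flip i = ell P j * ell P.flip j := by
  have h1 := ell_swap (P := P) i j
  have h2 := ell_swap (P := P.flip) i j
  simp only [pairing_flip] at h2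
  have hji : P.pairing j i ≠ 0 := fun e => by
    rw [e, zero_mul, eq_comm, mul_eq_zero] at h1
    rcases h1 with h1 | h1
    exacts [h h1, (ell_pos j).ne' h1]
  refine mul_left_cancel₀ (mul_ne_zero h hji) ?_
  calc P.pairing i j * P.pairing j i * (ell P i * ell P.flip i)
      = (P.pairing j i * ell P i) * (P.pairing i j * ell P.flip i) := by ring
    _ = (P.pairing i j * ell P j) * (P.pairing j i * ell P.flip j) := by rw [h1, h2]
    _ = P.pairing i j * P.pairing j i * (ell P j * ell P.flip j) := by ring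

theorem split_flip {R' : Set ι} : Split P.flip R' ↔ Split P R' := by
  constructor <;> intro h i hi j hj
  · refine pairingIn_comm_zero ?_
    have := h i hi j hj
    rwa [pairingIn_int, pairing_flip, ← pairingIn_int] at this
  · rw [pairingIn_int, pairing_flip, ← pairingIn_int]
    exact pairingIn_comm_zero (h i hi j hj)

theorem Irr.ell_coell_const (h : Irr P) (i j : ι) :
    ell P i * ell P.flip i = ell P j * ell P.flip j := by
  induction h.connected i j with
  | refl => rfl
  | tail _ hab ih => exact ih.trans (ell_coell fun e => hab (isOrthogonal_iff_int.2 e))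

theorem reflection_eq_of_two_smul {i j : ι}
    (h : (2 : ℤ) • P.root j = P.pairing j i • P.root i) :
    P.reflection i = P.reflection j := by
  have := torsionFree_M P
  have := torsionFree_N P
  set p := P.pairing j i with hp
  have hp0 : p ≠ 0 := fun e => by
    rw [e, zero_smul] at h
    exact P.ne_zero j (zsmul_cancel P two_ne_zero (by simpa using h))
  have h4 : 4 * ell P j = p * p * ell P i := by
    have := congrArg (fun x => P.RootForm x x) h
    simp only [map_zsmul, LinearMap.smul_apply, smul_eq_mul] at this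
    simp only [ell]
    linarith
  have hco : (2 : ℤ) • P.coroot i = p • P.coroot j := by
    have hne : p * ell P i ≠ 0 := mul_ne_zero hp0 (ell_pos i).ne'
    refine smul_right_injective N hne ?_
    show (p * ell P i) • (2 : ℤ) • P.coroot i = (p * ell P i) • p • P.coroot j
    have hl : (2 : ℤ) • ell P j • P.coroot j = p • ell P i • P.coroot i := by
      rw [P.rootForm_self_smul_coroot, P.rootForm_self_smul_coroot, smul_comm (2 : ℤ),
        ← map_zsmul, h, map_zsmul, smul_comm]
    calc (p * ell P i) • (2 : ℤ) • P.coroot i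
        = (2 : ℤ) • p • ell P i • P.coroot i := by simp only [smul_smul]; ring_nf
      _ = (4 * ell P j) • P.coroot j := by rw [← hl]; simp only [smul_smul]; ring_nf
      _ = (p * ell P i) • p • P.coroot j := by rw [h4]; simp only [smul_smul]; ring_nf
  ext x
  refine zsmul_cancel P two_ne_zero ?_
  rw [reflection_apply, reflection_apply, smul_sub, smul_sub, sub_right_inj]
  have hx := congrArg (P.toLinearMap x) hco
  simp only [map_zsmul, smul_eq_mul] at hx
  calc (2 : ℤ) • P.coroot' i x • P.root i = (2 * P.coroot' i x) • P.root i := (mul_smul _ _ _).symm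
    _ = P.coroot' j x • p • P.root i := by
        rw [smul_smul, mul_comm (P.coroot' j x)]
        exact congrArg (· • P.root i) hx
    _ = P.coroot' j x • (2 : ℤ) • P.root j := by rw [h]
    _ = (2 : ℤ) • P.coroot' j x • P.root j := smul_comm _ _ _

theorem orth_of_commute {i j : ι} (hne : P.reflection i ≠ P.reflection j)
    (hc : Commute (P.reflection i) (P.reflection j)) : P.IsOrthogonal i j := by
  rw [isOrthogonal_iff_int]
  by_contra hp
  refine hne (reflection_eq_of_two_smul ?_)
  have h : P.reflection i (P.reflection j (P.root i)) = P.reflection j (P.reflection i (P.root i)) :=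
    LinearEquiv.congr_fun hc (P.root i)
  simp only [reflection_apply_root, map_sub, map_zsmul, pairing_same] at h
  refine zsmul_cancel P hp ?_
  rw [smul_smul]
  linear_combination (norm := module) -h

/-- The Gram matrix of twice the form on a family of roots. -/
theorem gram_posDef {Δ : Finset ι} (hli : LinearIndepOn ℤ P.root (↑Δ : Set ι)) :
    (Matrix.of fun (a b : ↥Δ) => ell P a * P.pairing (b : ι) (a : ι)).IsSymm ∧
      (Matrix.of fun (a b : ↥Δ) => ell P a * P.pairing (b : ι) (a : ι)).PosDef := by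
  have hsym : (Matrix.of fun (a b : ↥Δ) => ell P a * P.pairing (b : ι) (a : ι)).IsSymm := by
    ext a b
    simp only [Matrix.transpose_apply, Matrix.of_apply]
    rw [mul_comm, mul_comm (ell P a)]
    exact ell_swap (P := P) b a
  refine ⟨hsym, Matrix.posDef_iff_dotProduct_mulVec.2 ⟨by simpa using! hsym, fun x hx => ?_⟩⟩
  set y := ∑ a : ↥Δ, x a • P.root a with hy
  have hy0 : y ≠ 0 := by
    intro e
    apply hx
    funext a
    exact Fintype.linearIndependent_iff.1 hli x e a
  have hpos : 0 < P.RootForm y y := P.rootForm_pos_of_ne_zero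
    (Submodule.sum_smul_mem _ _ fun a _ => Submodule.subset_span (Set.mem_range_self _)) hy0
  suffices star x ⬝ᵥ Matrix.mulVec (Matrix.of fun (a b : ↥Δ) => ell P a * P.pairing (b : ι) (a : ι)) x =
      2 * P.RootForm y y by rw [this]; omega
  simp only [dotProduct, Matrix.mulVec, Matrix.of_apply, Finset.mul_sum, hy, map_sum, map_zsmul,
    LinearMap.coe_sum, Finset.sum_apply, LinearMap.smul_apply, smul_eq_mul, Pi.star_apply,
    star_trivial]
  refine Finset.sum_congr rfl fun a _ => Finset.sum_congr rfl fun b _ => ?_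
  have := two_form (P := P) b a
  linear_combination (-(x a * x b)) * this

theorem cartan_det_pos [DecidableEq ι] {Δ : Finset ι} (hli : LinearIndepOn ℤ P.root (↑Δ : Set ι)) :
    0 < Matrix.det (Matrix.of fun (a b : ↥Δ) => P.pairing (b : ι) (a : ι)) := by
  obtain ⟨-, hG⟩ := gram_posDef hli
  set G := Matrix.of fun (a b : ↥Δ) => ell P a * P.pairing (b : ι) (a : ι) with hGdef
  have hne : G.det ≠ 0 := by
    intro e
    obtain ⟨v, hv, hGv⟩ := Matrix.exists_mulVec_eq_zero_iff.2 e
    have := hG.dotProduct_mulVec_pos hv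
    rw [hGv, dotProduct_zero] at this
    exact lt_irrefl _ this
  let V : Matrix ↥Δ ι ℝ := Matrix.of fun a j => (P.pairing (a : ι) j : ℝ)
  have hGV : G.map (Int.cast : ℤ → ℝ) = (2 : ℝ) • (V * V.conjTranspose) := by
    ext a b
    have h1 := two_form (P := P) b a
    have h2 : P.RootForm (P.root b) (P.root a) = ∑ j, P.pairing b j * P.pairing a j := by
      simp [rootForm_apply_apply]
    simp only [hGdef, Matrix.map_apply, Matrix.of_apply, Matrix.smul_apply, Matrix.mul_apply,
      Matrix.conjTranspose_apply, star_trivial, V, smul_eq_mul]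
    rw [mul_comm, ← h1, h2]
    push_cast
    exact congrArg _ (Finset.sum_congr rfl fun j _ => mul_comm _ _)
  have hnn : (0 : ℝ) ≤ (G.map (Int.cast : ℤ → ℝ)).det := by
    rw [hGV, Matrix.det_smul]
    exact mul_nonneg (pow_nonneg (by norm_num) _)
      (Matrix.posSemidef_self_mul_conjTranspose V).det_nonneg
  rw [show G.map (Int.cast : ℤ → ℝ) = (Int.castRingHom ℝ).mapMatrix G from rfl,
    ← RingHom.map_det] at hnn
  have hpos : 0 < G.det := lt_of_le_of_ne (Int.cast_nonneg_iff.1 hnn) (Ne.symm hne)
  have hfac : G = Matrix.diagonal (fun a : ↥Δ => ell P a) *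
      Matrix.of fun (a b : ↥Δ) => P.pairing (b : ι) (a : ι) := by
    ext a b
    simp [hGdef, Matrix.diagonal_mul]
  rw [hfac, Matrix.det_mul, Matrix.det_diagonal] at hpos
  exact (pos_iff_pos_of_mul_pos hpos).1 (Finset.prod_pos fun a _ => ell_pos (a : ι))

theorem transpose_coroot {ι' M' N' : Type*} [AddCommGroup M'] [AddCommGroup N'] [Fintype ι']
    {P' : RootPairing ι' ℤ M' N'} (f : M' →ₗ[ℤ] M) (g : N →ₗ[ℤ] N')
    (hfg : ∀ (m' : M') (n : N), P.toLinearMap (f m') n = P'.toLinearMap m' (g n))
    (e : ι' ≃ ι) (he : ∀ i' : ι', f (P'.root i') = P.root (e i'))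
    (e' : ι ≃ ι') (he' : ∀ i : ι, g (P.coroot i) = P'.coroot (e' i)) (i' : ι') :
    g (P.coroot (e i')) = P'.coroot i' := by
  have hpol : ∀ x, g (P.Polarization (f x)) = P'.Polarization x := by
    intro x
    rw [Polarization_apply, Polarization_apply, map_sum]
    refine Fintype.sum_equiv e' _ _ fun i => ?_
    rw [map_zsmul, he']
    congr 1
    show P.toLinearMap (f x) (P.coroot i) = _
    rw [hfg, he']
    rfl
  have hform : ∀ x y, P.RootForm (f x) (f y) = P'.RootForm x y := by
    intro x y
    rw [← toLinearMap_apply_apply_Polarization, hfg, hpol, toLinearMap_apply_apply_Polarization]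
  have hl : ell P (e i') = ell P' i' := by
    rw [ell, ← he, hform]
  have := torsionFree_N P'
  refine smul_right_injective N' (ell_pos (P := P') i').ne' ?_
  show ell P' i' • g (P.coroot (e i')) = ell P' i' • P'.coroot i'
  rw [← hl, ← map_zsmul, P.rootForm_self_smul_coroot, ← he, map_nsmul, hpol, hl,
    P'.rootForm_self_smul_coroot]

end Groth.L24.RootD
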