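import Groth.Agent.L24.RootD.Weyl
import Groth.Agent.L24.RootD.Lengths
import Mathlib.Algebra.BigOperators.Module

/-!
Dominant additive maps on a root datum.
-/

set_option autoImplicit false
set_option linter.unusedSectionVars false

open Function Set RootPairing
open Submodule (span)

namespace Groth.L24.RootD

variable {ι M N : Type*} [AddCommGroup M] [AddCommGroup N] {P : RootPairing ι ℤ M N} [Finite ι]
  {Γ : Type*} [AddCommGroup Γ] [LinearOrder Γ] [IsOrderedAddMonoid Γ] {S : Set ι}

local notation "pos" => _root_.RootD.posOf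

/-- `f` is non-negative on the roots of `S`. -/
def Dom (P : RootPairing ι ℤ M N) (S : Set ι) (f : M →+ Γ) : Prop := ∀ i ∈ S, 0 ≤ f (P.root i)

theorem two_form' [Fintype ι] (x : M) (i : ι) :
    2 * P.RootForm x (P.root i) = P.coroot' i x * P.RootForm (P.root i) (P.root i) := by
  have h := P.rootForm_reflection_reflection_apply i x (P.root i)
  rw [P.reflection_apply_self, P.reflection_apply, map_neg, map_sub, map_zsmul,
    LinearMap.sub_apply, LinearMap.smul_apply, smul_eq_mul] at h
  linarith

theorem dom_of_simples (hS : _root_.RootD.IsPosSys P S) {f : M →+ Γ}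
    (h : ∀ a ∈ simples P S, 0 ≤ f (P.root a)) : Dom P S f := by
  intro i hi
  rw [← posOf_simples hS] at hi
  have hle : _root_.RootD.natSpan P (simples P S) ≤ (AddSubmonoid.nonneg Γ).comap f := by
    rw [_root_.RootD.natSpan, AddSubmonoid.closure_le]
    rintro - ⟨a, ha, rfl⟩
    exact h a ha
  exact hle hi

theorem smul_reflection (g : P.Aut) (a : ι) (m : M) :
    (g * Equiv.reflection P a) • m = g • m - P.coroot' a m • P.root (g • a) := by
  rw [mul_smul, show Equiv.reflection P a • m = P.reflection a m from rfl, P.reflection_apply,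
    smul_sub, smul_zsmul_M, root_smul]

theorem exists_pos_sys_dom (hS : _root_.RootD.IsPosSys P S) (f : M →+ Γ) :
    ∃ g ∈ P.weylGroup, Dom P S (f.comp (DistribSMul.toAddMonoidHom M g)) := by
  let T : Set ι := {i | 0 < f (P.root i) ∨ (f (P.root i) = 0 ∧ i ∈ S)}
  have hT : _root_.RootD.IsPosSys P T := by
    refine isPosSys_of_closed ?_ ?_ ?_
    · rintro i (h | ⟨h, hi⟩) (h' | ⟨h', hi'⟩) <;> rw [root_neg, map_neg] at h'
      · exact lt_asymm h (neg_pos.1 h')
      · exact h.ne' (neg_eq_zero.1 h')
      · rw [h, neg_zero] at h'; exact lt_irrefl _ h'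
      · exact hS.disjoint hi hi'
    · intro i
      rcases lt_trichotomy (f (P.root i)) 0 with h | h | h
      · right; left; rw [root_neg, map_neg]; exact neg_pos.2 h
      · rcases hS.cover i with hi | hi
        · left; exact Or.inr ⟨h, hi⟩
        · right; exact Or.inr ⟨by rw [root_neg, map_neg, h, neg_zero], hi⟩
      · left; exact Or.inl h
    · intro i j k hi hj hk
      have hik : f (P.root k) = f (P.root i) + f (P.root j) := by rw [hk, map_add]
      rcases hi with hi | ⟨hi, hi'⟩ <;> rcases hj with hj | ⟨hj, hj'⟩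
      · exact Or.inl (hik ▸ add_pos hi hj)
      · exact Or.inl (by rw [hik, hj, add_zero]; exact hi)
      · exact Or.inl (by rw [hik, hi, zero_add]; exact hj)
      · exact Or.inr ⟨by rw [hik, hi, hj, add_zero], isClosedSub_of_isPosSys hS hi' hj' hk⟩
  obtain ⟨g, hg, hgS⟩ := exists_image_eq hS hT
  refine ⟨g, hg, fun i hi => ?_⟩
  have hgi : g • i ∈ T := hgS ▸ Set.mem_image_of_mem _ hi
  show 0 ≤ f (g • P.root i)
  rw [← root_smul]
  rcases hgi with h | ⟨h, -⟩
  · exact h.le
  · exact h.ge

theorem exists_minWord_simples (hS : _root_.RootD.IsPosSys P S) {g : P.Aut} (hg : g ∈ P.weylGroup) :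
    ∃ l, MinWord P (simples P S) l ∧ wd P l = g :=
  exists_minWord (by rw [(isSimple_simples hS).closure_eq_weylGroup]; exact hg)

theorem minWord_init {T : Set ι} {l : List ι} {a : ι} (h : MinWord P T (l ++ [a])) :
    MinWord P T l := by
  refine ⟨fun x hx => h.1 x (List.mem_append_left _ hx), fun l' hl' e => ?_⟩
  have h2 := h.2 (l' ++ [a]) (fun x hx => by
    rcases List.mem_append.1 hx with hx | hx
    · exact hl' x hx
    · exact h.1 x (List.mem_append_right _ hx)) (by rw [wd_append, wd_append, e])
  simp only [List.length_append, List.length_singleton] at h2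
  omega

theorem neg_last_mem (hS : _root_.RootD.IsPosSys P S) {l : List ι} {a : ι}
    (h : MinWord P (simples P S) (l ++ [a])) : wd P l • a ∈ S :=
  posOf_simples hS ▸ (isSimple_simples hS).neg_last subset_rfl h

theorem eq_of_dom_dom (hS : _root_.RootD.IsPosSys P S) {f : M →+ Γ} (hf : Dom P S f) :
    ∀ (n : ℕ) (g : P.Aut), g ∈ P.weylGroup → (∀ l, MinWord P (simples P S) l → wd P l = g → l.length ≤ n) →
      Dom P S (f.comp (DistribSMul.toAddMonoidHom M g)) → ∀ m : M, f (g • m) = f m := by
  intro n
  induction n with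
  | zero =>
    intro g hg hn _ m
    obtain ⟨l, hl, rfl⟩ := exists_minWord_simples hS hg
    rw [List.eq_nil_of_length_eq_zero (Nat.le_zero.1 (hn l hl rfl)), wd_nil, one_smul]
  | succ n ih =>
    intro g hg hn hd m
    obtain ⟨l, hl, rfl⟩ := exists_minWord_simples hS hg
    rcases List.eq_nil_or_concat l with rfl | ⟨t, a, rfl⟩
    · rw [wd_nil, one_smul]
    rw [List.concat_eq_append] at hl hn hd ⊢
    have ha : a ∈ simples P S := hl.1 a (by simp)
    have h1 : 0 ≤ f (P.root (wd P t • a)) := hf _ (neg_last_mem hS hl)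
    have h2 : f (P.root (wd P t • a)) = 0 := by
      have h3 := hd a (simples_subset ha)
      simp only [AddMonoidHom.comp_apply, DistribSMul.toAddMonoidHom_apply] at h3
      rw [← root_smul, wd_append, wd_singleton, mul_smul, reflection_smul_idx, smul_neg_idx,
        root_neg, map_neg] at h3
      exact le_antisymm (neg_nonneg.1 h3) h1
    have h4 : ∀ x : M, f ((wd P (t ++ [a])) • x) = f (wd P t • x) := fun x => by
      rw [wd_append, wd_singleton, smul_reflection, map_sub, map_zsmul, h2, smul_zero, sub_zero]
    have htw : wd P t ∈ P.weylGroup := by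
      have := hg
      rw [List.concat_eq_append, wd_append, wd_singleton] at this
      exact (Subgroup.mul_mem_cancel_right _ (show Equiv.reflection P a ∈ P.weylGroup from
        Subgroup.subset_closure ⟨a, rfl⟩)).1 this
    rw [h4]
    refine ih (wd P t) htw (fun l' hl' e => ?_) (fun i hi => ?_) m
    · have h5 := (minWord_init hl).2
      have h6 := hn (t ++ [a]) hl (by simp)
      have h7 := hl'.2 t (fun x hx => hl.1 x (by simp [hx])) e.symm
      simp only [List.length_append, List.length_singleton] at h6
      omega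
    · have h3 := hd i hi
      simp only [AddMonoidHom.comp_apply, DistribSMul.toAddMonoidHom_apply] at h3 ⊢
      rwa [h4] at h3

theorem dom_sub [Fintype ι] (hS : _root_.RootD.IsPosSys P S) {f : M →+ Γ} (hf : Dom P S f) :
    ∀ l : List ι, MinWord P (simples P S) l → ∃ c : ι → Γ, (∀ i, 0 ≤ c i) ∧ (∀ i, i ∉ S → c i = 0) ∧
      ∀ m : M, f m - f (wd P l • m) = ∑ i, P.coroot' i m • c i := by
  classical
  intro l
  induction l using List.reverseRecOn with
  | nil => intro _; exact ⟨0, fun _ => le_rfl, fun _ _ => rfl, fun m => by rw [wd_nil, one_smul, sub_self]; simp⟩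
  | append_singleton t a ih =>
    intro hl
    obtain ⟨c, hc, hc', h⟩ := ih (minWord_init hl)
    have ha : a ∈ S := simples_subset (hl.1 a (by simp))
    refine ⟨c + Pi.single a (f (P.root (wd P t • a))), fun i => ?_, fun i hi => ?_, fun m => ?_⟩
    · refine add_nonneg (hc i) ?_
      by_cases e : i = a
      · subst e; rw [Pi.single_eq_same]; exact hf _ (neg_last_mem hS hl)
      · rw [Pi.single_eq_of_ne e]
    · rw [Pi.add_apply, hc' i hi, Pi.single_eq_of_ne (fun e : i = a => hi (e ▸ ha)), add_zero]
    · simp only [Pi.add_apply, smul_add, Finset.sum_add_distrib, ← h]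
      rw [Finset.sum_eq_single a (fun b _ hb => by rw [Pi.single_eq_of_ne hb, smul_zero]) (by simp),
        Pi.single_eq_same, wd_append, wd_singleton, smul_reflection, map_sub, map_zsmul]
      abel

theorem weak_of_dom (hS : _root_.RootD.IsPosSys P S) {f : M →+ Γ} (hf : Dom P S f) {g : P.Aut}
    (hg : g ∈ P.weylGroup) {m : M} (hm : ∀ i ∈ S, 0 ≤ P.coroot' i m) : f (g • m) ≤ f m := by
  classical
  have : Fintype ι := Fintype.ofFinite ι
  obtain ⟨l, hl, rfl⟩ := exists_minWord_simples hS hg
  obtain ⟨c, hc, hc', h⟩ := dom_sub hS hf l hl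
  rw [← sub_nonneg, h m]
  refine Finset.sum_nonneg fun i _ => ?_
  by_cases hi : i ∈ S
  · exact zsmul_nonneg (hc i) (hm i hi)
  · rw [hc' i hi, smul_zero]

theorem exists_regular (hS : _root_.RootD.IsPosSys P S) :
    ∃ m : M, (∀ i ∈ S, 0 ≤ P.coroot' i m) ∧ ∀ a ∈ simples P S, 0 < P.coroot' a m := by
  classical
  have : Fintype ι := Fintype.ofFinite ι
  let SF : Finset ι := Finset.univ.filter (· ∈ S)
  have hΔ := isSimple_simples hS
  have key : ∀ a ∈ simples P S, 0 < P.coroot' a (∑ i ∈ SF, P.root i) := by
    intro a ha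
    rw [map_sum]
    have haS : a ∈ S := simples_subset ha
    let Tf : Finset ι := SF.filter (fun i => P.root i ≠ P.root a ∧ P.root i ≠ P.root a + P.root a)
    have hT : ∑ i ∈ Tf, P.coroot' a (P.root i) = 0 := by
      refine Finset.sum_involution (fun i _ => P.reflectionPerm a i) (fun i _ => ?_) (fun i _ hne e => ?_)
        (fun i hi => ?_) (fun i _ => ?_)
      · simp [P.root_reflectionPerm, P.reflection_apply]; ring
      · apply hne
        have h2 := congrArg P.root e
        rw [P.root_reflectionPerm, P.reflection_apply, sub_eq_self] at h2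
        by_contra h0
        exact P.ne_zero a (zsmul_cancel P h0 (h2.trans (smul_zero _).symm))
      · simp only [Tf, SF, Finset.mem_filter, Finset.mem_univ, true_and] at hi ⊢
        obtain ⟨hiS, h1, h2⟩ := hi
        rw [← posOf_simples hS] at hiS
        rcases hΔ.eq_single_or_reflection_mem_pos ha hiS with h | h | h
        · exact absurd h h1
        · exact absurd h h2
        · rw [posOf_simples hS] at h
          refine ⟨h, fun e => ?_, fun e => ?_⟩
          · have e' := P.root.injective e
            have h3 : i = P.reflectionPerm a a :=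
              (P.reflectionPerm a).injective (e'.trans (P.reflectionPerm_self a a).symm)
            rw [posOf_simples hS] at hiS
            exact hS.disjoint haS (h3 ▸ hiS)
          · rw [posOf_simples hS] at hiS
            have h3 : P.root i = -(P.root a + P.root a) := by
              have := congrArg (P.reflection a) e
              rw [← P.root_reflectionPerm, reflectionPerm_self, map_add, P.reflection_apply_self] at this
              rw [this]; abel
            refine hS.disjoint haS (hS.sat 2 two_pos ?_)
            rw [root_neg, two_nsmul, ← neg_add, ← h3]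
            exact root_mem_natSpan hiS
      · exact P.reflectionPerm_self a i
    rw [← Finset.sum_filter_add_sum_filter_not SF
      (fun i => P.root i ≠ P.root a ∧ P.root i ≠ P.root a + P.root a), hT, zero_add]
    refine Finset.sum_pos (fun i hi => ?_) ⟨a, by simp [SF, haS]⟩
    simp only [Finset.mem_filter, not_and_or, not_not] at hi
    rcases hi.2 with h | h <;> simp [h, root_coroot'_eq_pairing]
  refine ⟨∑ i ∈ SF, P.root i, fun i hi => ?_, key⟩
  have hd : Dom P S (P.RootForm (∑ i ∈ SF, P.root i)).toAddMonoidHom := dom_of_simples hS fun a ha => by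
    have h2 := two_form' (P := P) (∑ i ∈ SF, P.root i) a
    have h3 := ell_pos (P := P) a
    show 0 ≤ P.RootForm _ (P.root a)
    have := mul_pos (key a ha) h3
    simp only [ell] at this
    linarith
  have h2 := two_form' (P := P) (∑ i ∈ SF, P.root i) i
  have h4 := hd i hi
  simp only [LinearMap.toAddMonoidHom_coe] at h4
  nlinarith [ell_pos (P := P) i]

theorem dom_of_weak (hS : _root_.RootD.IsPosSys P S) {f : M →+ Γ}
    (h : ∀ g ∈ P.weylGroup, ∀ m : M, (∀ i ∈ S, 0 ≤ P.coroot' i m) → f (g • m) ≤ f m) : Dom P S f := by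
  obtain ⟨m, hm, hpos⟩ := exists_regular hS
  refine dom_of_simples hS fun a ha => ?_
  have h1 := h (Equiv.reflection P a) (Subgroup.subset_closure ⟨a, rfl⟩) m hm
  rw [show Equiv.reflection P a • m = P.reflection a m from rfl, P.reflection_apply, map_sub,
    map_zsmul, sub_le_self_iff] at h1
  exact le_of_not_gt fun h2 => absurd h1 (not_le.2 (neg_pos.1 (by
    rw [← smul_neg]; exact zsmul_pos (neg_pos.2 h2) (hpos a ha))))

theorem exists_conj_dominant (hS : _root_.RootD.IsPosSys P S) (x : M) :
    ∃ g ∈ P.weylGroup, ∀ i ∈ S, 0 ≤ P.coroot' i (g • x) := by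
  have : Fintype ι := Fintype.ofFinite ι
  obtain ⟨g, hg, hd⟩ := exists_pos_sys_dom hS (P.RootForm x).toAddMonoidHom
  refine ⟨g⁻¹, inv_mem hg, fun i hi => ?_⟩
  have h1 := hd i hi
  simp only [AddMonoidHom.comp_apply, DistribSMul.toAddMonoidHom_apply, LinearMap.toAddMonoidHom_coe] at h1
  rw [← rootForm_smul g⁻¹ x, inv_smul_smul] at h1
  have h2 := two_form' (P := P) (g⁻¹ • x) i
  nlinarith [ell_pos (P := P) i]

end Groth.L24.RootD
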