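import Groth.Agent.L24.RootD.Levi
import Groth.Agent.L24.RootD.Lengths
import Mathlib.GroupTheory.OrderOfElement
import Mathlib.GroupTheory.Perm.Basic

/-!
The subgroup generated by two reflections.
-/

set_option autoImplicit false
set_option linter.unusedSectionVars false

open Function Set RootPairing
open Submodule (span)

namespace Groth.L24.RootD

theorem card_closure_pair_of_involutions {G : Type*} [Group G] {s t : G} (hs : s * s = 1) (ht : t * t = 1)
    (hfin : IsOfFinOrder (s * t)) (hnot : s ∉ Subgroup.zpowers (s * t)) :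
    Nat.card (Subgroup.closure ({s, t} : Set G)) = 2 * orderOf (s * t) := by
  set a := s * t with ha
  let Z : Set G := Subgroup.zpowers a
  have hsi : s⁻¹ = s := inv_eq_of_mul_eq_one_right hs
  have hti : t⁻¹ = t := inv_eq_of_mul_eq_one_right ht
  have hai : a⁻¹ = t * s := by rw [ha, mul_inv_rev, hsi, hti]
  have hta : t = s * a := by rw [ha, ← mul_assoc, hs, one_mul]
  have hset : (Subgroup.closure ({s, t} : Set G) : Set G) = Z ∪ (fun z => s * z) '' Z := by
    ext x
    constructor
    · intro hx
      induction hx using Subgroup.closure_induction_left with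
      | one => exact Or.inl (one_mem (Subgroup.zpowers a))
      | mul_left g hg y _ ih =>
        rcases hg with rfl | rfl
        · rcases ih with h | ⟨z, hz, rfl⟩
          · exact Or.inr ⟨y, h, rfl⟩
          · left; rw [show g * (g * z) = z by rw [← mul_assoc, hs, one_mul]]; exact hz
        · rcases ih with h | ⟨z, hz, rfl⟩
          · exact Or.inr ⟨a * y, mul_mem (Subgroup.mem_zpowers a) h, by simp only; rw [← mul_assoc, ← hta]⟩
          · left; rw [← mul_assoc, ← hai]
            exact mul_mem (inv_mem (Subgroup.mem_zpowers a)) hz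
      | inv_mul_cancel g hg y _ ih =>
        rcases hg with rfl | rfl
        · rw [hsi]
          rcases ih with h | ⟨z, hz, rfl⟩
          · exact Or.inr ⟨y, h, rfl⟩
          · left; rw [show g * (g * z) = z by rw [← mul_assoc, hs, one_mul]]; exact hz
        · rw [hti]
          rcases ih with h | ⟨z, hz, rfl⟩
          · exact Or.inr ⟨a * y, mul_mem (Subgroup.mem_zpowers a) h, by simp only; rw [← mul_assoc, ← hta]⟩
          · left; rw [← mul_assoc, ← hai]
            exact mul_mem (inv_mem (Subgroup.mem_zpowers a)) hz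
    · have h1 : a ∈ Subgroup.closure ({s, t} : Set G) :=
        mul_mem (Subgroup.subset_closure (by simp)) (Subgroup.subset_closure (by simp))
      rintro (h | ⟨z, hz, rfl⟩)
      · exact (Subgroup.zpowers_le.2 h1) h
      · exact mul_mem (Subgroup.subset_closure (by simp)) ((Subgroup.zpowers_le.2 h1) hz)
  have hZf : Z.Finite := hfin.finite_zpowers
  have hdis : Disjoint Z ((fun z => s * z) '' Z) := by
    rw [Set.disjoint_left]
    rintro - hx ⟨z, hz, rfl⟩
    refine hnot ?_
    have := mul_mem hx (inv_mem hz)
    rwa [mul_inv_cancel_right] at this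
  show Nat.card ((Subgroup.closure ({s, t} : Set G) : Set G) : Type _) = _
  rw [hset, Nat.card_coe_set_eq, Set.ncard_union_eq hdis hZf (hZf.image _),
    Set.ncard_image_of_injective _ (mul_right_injective s), ← Nat.card_coe_set_eq, two_mul]
  exact congrArg₂ (· + ·) (Nat.card_zpowers a) (Nat.card_zpowers a)

variable {ι M N : Type*} [AddCommGroup M] [AddCommGroup N] {P : RootPairing ι ℤ M N} [Finite ι]

theorem eq_one_of_fix_pair {i j : ι} {w : P.Aut}
    (hw : w ∈ Subgroup.closure ({Equiv.reflection P i, Equiv.reflection P j} : Set P.Aut))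
    (hi : w • i = i) (hj : w • j = j) : w = 1 := by
  classical
  have hw' : w ∈ Subgroup.closure ((fun a : ι => Equiv.reflection P a) '' {i, j}) := by
    rwa [Set.image_pair]
  have hW : w ∈ P.weylGroup := Subgroup.closure_mono (Set.image_subset_range _ _) hw'
  suffices h : ∀ k : ι, w • k = k by
    have e : (⟨w, hW⟩ : P.weylGroup) = 1 :=
      weylGroupToPerm_inj (by rw [map_one]; exact _root_.Equiv.ext h)
    exact congrArg Subtype.val e
  intro k
  have hv : P.root (w • k) - P.root k ∈ span ℤ (P.root '' {i, j}) := smul_sub_mem_span hw' k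
  have hfix : ∀ x ∈ span ℤ (P.root '' {i, j}), w • x = x := by
    intro x hx
    induction hx using Submodule.span_induction with
    | mem x hx =>
      obtain ⟨a, ha, rfl⟩ := hx
      rw [← root_smul]
      rcases ha with rfl | rfl
      · rw [hi]
      · rw [hj]
    | zero => exact smul_zero w
    | add a b _ _ ha hb => rw [smul_add, ha, hb]
    | smul z a _ ha => rw [smul_zsmul_M, ha]
  set v := P.root (w • k) - P.root k with hv'
  have hpow : ∀ m : ℕ, (w ^ m) • P.root k = P.root k + (m : ℤ) • v := by
    intro m
    induction m with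
    | zero => simp
    | succ m ih =>
      rw [pow_succ', mul_smul, ih, smul_add, smul_zsmul_M, hfix v hv, ← root_smul, Nat.cast_succ,
        add_smul, one_smul, hv']
      abel
  obtain ⟨m, hm, hm1⟩ := (isOfFinOrder_iff_pow_eq_one).1
    (isOfFinOrder_of_finite (MulAction.toPermHom P.Aut ι w))
  rw [← map_pow] at hm1
  have h2 := hpow m
  rw [← root_smul, show (w ^ m) • k = k from _root_.Equiv.congr_fun hm1 k, left_eq_add] at h2
  have := torsionFree_M P
  have h3 : v = 0 := (smul_eq_zero.1 h2).resolve_left (by exact_mod_cast hm.ne')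
  exact P.root.injective (sub_eq_zero.1 h3)

theorem card_closure_pair {i j : ι} (hli : LinearIndependent ℤ ![P.root i, P.root j])
    {n : ℕ} (hn : IsLeast {m : ℕ | 0 < m ∧ ((Equiv.reflection P i * Equiv.reflection P j) ^ m) • i = i ∧
      ((Equiv.reflection P i * Equiv.reflection P j) ^ m) • j = j} n) :
    Nat.card (Subgroup.closure ({Equiv.reflection P i, Equiv.reflection P j} : Set P.Aut)) = 2 * n := by
  set s := Equiv.reflection P i
  set t := Equiv.reflection P j
  have hmem : ∀ m : ℕ, (s * t) ^ m ∈ Subgroup.closure ({s, t} : Set P.Aut) := fun m =>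
    pow_mem (mul_mem (Subgroup.subset_closure (by simp)) (Subgroup.subset_closure (by simp))) m
  have han : (s * t) ^ n = 1 := eq_one_of_fix_pair (hmem n) hn.1.2.1 hn.1.2.2
  have hord : orderOf (s * t) = n := (orderOf_eq_iff hn.1.1).2 ⟨han, fun m hm hm0 h =>
    absurd (hn.2 ⟨hm0, by rw [h, one_smul], by rw [h, one_smul]⟩) (not_le.2 hm)⟩
  have hfin : IsOfFinOrder (s * t) := isOfFinOrder_iff_pow_eq_one.2 ⟨n, hn.1.1, han⟩
  rw [← hord]
  refine card_closure_pair_of_involutions (reflection_mul_self i) (reflection_mul_self j) hfin fun h => ?_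
  have hcomm : Commute s (s * t) := by
    obtain ⟨z, hz⟩ := Subgroup.mem_zpowers_iff.1 h
    have h2 : Commute ((s * t) ^ z) (s * t) := (Commute.refl _).zpow_left z
    rwa [hz] at h2
  have hst : s * t = t * s := by
    have h2 := hcomm.eq
    rw [← mul_assoc, reflection_mul_self, one_mul] at h2
    calc s * t = s * (s * t * s) := by rw [← h2]
      _ = t * s := by rw [← mul_assoc, ← mul_assoc, reflection_mul_self, one_mul]
  have hsq : (s * t) ^ 2 = 1 := by
    rw [pow_two]; nth_rw 2 [hst]
    rw [mul_assoc, ← mul_assoc t t s, reflection_mul_self, one_mul, reflection_mul_self]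
  obtain ⟨z, hz⟩ := Subgroup.mem_zpowers_iff.1 h
  rcases Int.even_or_odd z with ⟨w', rfl⟩ | ⟨w', rfl⟩
  · rw [← two_mul, zpow_mul, zpow_two, ← pow_two, hsq, one_zpow] at hz
    have e := congrArg P.root (show s • i = i by rw [← hz, one_smul])
    rw [root_reflection_smul, P.reflection_apply_self, neg_eq_iff_add_eq_zero] at e
    have := torsionFree_M P
    exact P.ne_zero i ((smul_eq_zero.1 ((two_smul ℤ (P.root i)).trans e)).resolve_left two_ne_zero)
  · rw [zpow_add, zpow_mul, zpow_two, ← pow_two, hsq, one_zpow, one_mul, zpow_one] at hz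
    have ht1 : t = 1 := mul_left_cancel (a := s) (by rw [mul_one]; exact hz)
    have e := congrArg P.root (show t • j = j by rw [ht1, one_smul])
    rw [root_reflection_smul, P.reflection_apply_self, neg_eq_iff_add_eq_zero] at e
    have := torsionFree_M P
    exact P.ne_zero j ((smul_eq_zero.1 ((two_smul ℤ (P.root j)).trans e)).resolve_left two_ne_zero)

end Groth.L24.RootD
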