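import Groth.Agent.L24.RootD.Exists

/-!
Standard Levi subgroups of the Weyl group, extensions of additive maps.
-/

set_option autoImplicit false
set_option linter.unusedSectionVars false

open Function Set RootPairing
open Submodule (span)

namespace Groth.L24.RootD

variable {ι R M N : Type*} [CommRing R] [AddCommGroup M] [Module R M] [AddCommGroup N] [Module R N]
  {P : RootPairing ι R M N} [CharZero R] [IsDomain R] [P.IsCrystallographic] [Finite ι]

local notation "pos" => _root_.RootD.posOf

theorem smul_sub_mem_span {T : Set ι} {g : P.Aut}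
    (hg : g ∈ Subgroup.closure ((fun i : ι => Equiv.reflection P i) '' T)) (k : ι) :
    P.root (g • k) - P.root k ∈ span ℤ (P.root '' T) := by
  obtain ⟨l, hl, rfl⟩ := exists_word hg
  clear hg
  induction l generalizing k with
  | nil => simp [wd_nil]
  | cons a t ih =>
    rw [wd_cons, mul_smul, reflection_smul_idx, root_reflectionPerm_int, sub_right_comm]
    exact sub_mem (ih k (fun b hb => hl b (List.mem_cons_of_mem _ hb)))
      (Submodule.smul_mem _ _ (Submodule.subset_span ⟨a, hl a List.mem_cons_self, rfl⟩))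

namespace IsSimple

variable {Δ Δ' : Set ι}

theorem smul_pos_diff (hΔ : IsSimple P Δ) (hsub : Δ' ⊆ Δ) {g : P.Aut}
    (hg : g ∈ Subgroup.closure ((fun i : ι => Equiv.reflection P i) '' Δ')) {k : ι}
    (hk : k ∈ pos P Δ) (hk' : P.root k ∉ span ℤ (P.root '' Δ')) :
    g • k ∈ pos P Δ ∧ P.root (g • k) ∉ span ℤ (P.root '' Δ') := by
  classical
  have hmem := smul_sub_mem_span hg k
  refine ⟨?_, fun h => hk' ?_⟩
  · obtain ⟨c, hc, hc0, hck⟩ := exists_comb_of_mem_natSpan hk
    obtain ⟨a, ha, haΔ⟩ : ∃ a, c a ≠ 0 ∧ a ∉ Δ' := by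
      by_contra hh
      push Not at hh
      exact hk' (hck ▸ comb_mem_span fun a ha => hh a (Finsupp.mem_support_iff.1 ha))
    obtain ⟨d, hd, hdk⟩ := exists_comb_of_mem_span hmem
    refine hΔ.mem_pos_of_coeff_pos (c := c + d) (a := a) (fun x hx => ?_)
      (by simp [map_add, hck, hdk]) ?_
    · rcases Finset.mem_union.1 (Finsupp.support_add hx) with h' | h'
      · exact hc h'
      · exact hsub (hd h')
    · have hda : d a = 0 := Finsupp.notMem_support_iff.1 fun h => haΔ (hd h)
      have := hc0 a
      simp [hda] at this ⊢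
      omega
  · have : P.root k = P.root (g • k) - (P.root (g • k) - P.root k) := by abel
    rw [this]
    exact sub_mem h hmem

theorem mem_weylSub (hΔ : IsSimple P Δ) (hsub : Δ' ⊆ Δ) {g : P.Aut} (hg : g ∈ P.weylGroup)
    (h : ∀ k : ι, ∃ n : ℕ, 0 < n ∧ n • (P.root (g • k) - P.root k) ∈ span ℤ (P.root '' Δ')) :
    g ∈ Subgroup.closure ((fun i : ι => Equiv.reflection P i) '' Δ') := by
  classical
  induction hn : {k ∈ pos P Δ | g • k ∉ pos P Δ}.ncard using Nat.strong_induction_on
    generalizing g with
  | _ n ih =>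
    by_cases h1 : ∀ i ∈ Δ, g • i ∈ pos P Δ
    · rw [hΔ.eq_one_of_weyl hg h1]
      exact one_mem _
    push Not at h1
    obtain ⟨a, ha, hga⟩ := h1
    have haΔ' : a ∈ Δ' := by
      by_contra haΔ'
      obtain ⟨m, hm, hmem⟩ := h a
      obtain ⟨c, hc, hck, -⟩ := hΔ.exists_comb (g • a)
      obtain ⟨d, hd, hdk⟩ := exists_comb_of_mem_span hmem
      have e : m • c = m • Finsupp.single a 1 + d := by
        refine hΔ.comb_eq (fun x hx => hc (Finsupp.support_smul hx)) (fun x hx => ?_) ?_
        · rcases Finset.mem_union.1 (Finsupp.support_add hx) with h' | h'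
          · have := Finsupp.support_single_subset (Finsupp.support_smul h')
            rw [Finset.mem_singleton] at this
            exact this ▸ ha
          · exact hsub (hd h')
        · simp only [comb, map_add, map_nsmul, Finsupp.linearCombination_single, one_smul] at hck hdk ⊢
          rw [hck, hdk, smul_sub]
          abel
      refine hga (hΔ.mem_pos_of_coeff_pos hc hck (a := a) ?_)
      have := DFunLike.congr_fun e a
      have hda : d a = 0 := Finsupp.notMem_support_iff.1 fun h => haΔ' (hd h)
      simp [hda] at this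
      by_contra hle
      nlinarith
    have hs : Equiv.reflection P a ∈
        Subgroup.closure ((fun i : ι => Equiv.reflection P i) '' Δ') :=
      Subgroup.subset_closure ⟨a, haΔ', rfl⟩
    suffices g * Equiv.reflection P a ∈
        Subgroup.closure ((fun i : ι => Equiv.reflection P i) '' Δ') by
      have := mul_mem this hs
      rwa [mul_assoc, reflection_mul_self, mul_one] at this
    refine ih _ ?_ (mul_mem hg (P.reflection_mem_weylGroup a)) (fun k => ?_) rfl
    · rw [← hn]
      have hinj : Set.InjOn (fun k => P.reflectionPerm a k)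
          {k ∈ pos P Δ | (g * Equiv.reflection P a) • k ∉ pos P Δ} :=
        (P.reflectionPerm a).injective.injOn
      rw [← hinj.ncard_image]
      refine Set.ncard_lt_ncard ⟨?_, fun hh => ?_⟩ (Set.toFinite _)
      · rintro x ⟨k, ⟨hk, hk'⟩, rfl⟩
        rw [mul_smul, reflection_smul_idx] at hk'
        rcases hΔ.eq_single_or_reflection_mem_pos ha hk with e | e | e
        · have e' : k = a := P.root.injective e
          subst e'
          rw [smul_neg_idx] at hk'
          exact absurd ((hΔ.cover_pos _).resolve_left hga) hk'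
        · exfalso
          apply hk'
          have e' : P.root (g • P.reflectionPerm a k) =
              P.root (P.reflectionPerm (g • a) (g • a)) + P.root (P.reflectionPerm (g • a) (g • a)) := by
            rw [root_smul, root_reflectionPerm, e, map_add, reflection_apply_self, smul_add,
              smul_neg, root_neg, root_smul]
          exact hΔ.closed_pos ((hΔ.cover_pos _).resolve_left hga)
            ((hΔ.cover_pos _).resolve_left hga) e'
        · exact ⟨e, hk'⟩
      · obtain ⟨k, ⟨hk, -⟩, hka⟩ := hh (show a ∈ {k ∈ pos P Δ | g • k ∉ pos P Δ} from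
          ⟨hΔ.subset_pos ha, hga⟩)
        have : k = P.reflectionPerm a a := by
          rw [← P.reflectionPerm_self a k]
          exact congrArg _ hka
        exact hΔ.disjoint_pos (hΔ.subset_pos ha) (this ▸ hk)
    · obtain ⟨m, hm, hmem⟩ := h (P.reflectionPerm a k)
      refine ⟨m, hm, ?_⟩
      rw [mul_smul, reflection_smul_idx]
      have : P.root (g • P.reflectionPerm a k) - P.root k =
          (P.root (g • P.reflectionPerm a k) - P.root (P.reflectionPerm a k)) +
            (P.root (P.reflectionPerm a k) - P.root k) := by abel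
      rw [this, smul_add]
      refine add_mem hmem (nsmul_mem ?_ _)
      rw [root_reflectionPerm_int, sub_sub_cancel_left]
      exact neg_mem (Submodule.smul_mem _ _ (Submodule.subset_span ⟨a, haΔ', rfl⟩))

theorem span_eq (hΔ : IsSimple P Δ) : span ℤ (P.root '' Δ) = span ℤ (Set.range P.root) := by
  refine le_antisymm (Submodule.span_mono (Set.image_subset_range _ _)) (Submodule.span_le.2 ?_)
  rintro - ⟨k, rfl⟩
  obtain ⟨c, hc, hck, -⟩ := hΔ.exists_comb k
  exact hck ▸ comb_mem_span hc

theorem existsUnique_extend (hΔ : IsSimple P Δ) {G : Type*} [AddCommGroup G] (f : ι → G)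
    (hneg : ∀ i : ι, f (P.reflectionPerm i i) = -f i)
    (hadd : ∀ i j k : ι, P.root k = P.root i + P.root j → f k = f i + f j) :
    ∃! φ : span ℤ (Set.range P.root) →+ G, ∀ i : ι, φ (P.rootSpanMem ℤ i) = f i := by
  have hex : ∀ x : span ℤ (Set.range P.root), ∃ c : ι →₀ ℤ, ↑c.support ⊆ Δ ∧ comb P c = x :=
    fun x => exists_comb_of_mem_span (hΔ.span_eq.symm ▸ x.2 : (x : M) ∈ span ℤ (P.root '' Δ))
  choose c hc hcx using hex
  classical
  have hadd' : ∀ x y, c (x + y) = c x + c y := fun x y => hΔ.comb_eq (hc _)
    (fun z hz => (Finset.mem_union.1 (Finsupp.support_add hz)).elim (fun h => hc x h)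
      fun h => hc y h) (by simp only [comb, map_add] at hcx ⊢; rw [hcx, hcx, hcx]; rfl)
  let φ : span ℤ (Set.range P.root) →+ G :=
    AddMonoidHom.mk' (fun x => Finsupp.linearCombination ℤ f (c x))
      fun x y => by rw [hadd', map_add]
  have hφ : ∀ i, φ (P.rootSpanMem ℤ i) = f i := by
    have hsimp : ∀ a ∈ Δ, φ (P.rootSpanMem ℤ a) = f a := by
      intro a ha
      have : c (P.rootSpanMem ℤ a) = Finsupp.single a 1 := hΔ.comb_eq (hc _) (fun z hz => by
        have := Finsupp.support_single_subset hz
        rw [Finset.mem_singleton] at this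
        exact this ▸ ha) (by rw [hcx]; simp)
      simp [φ, this]
    have hp : ∀ k ∈ pos P Δ, φ (P.rootSpanMem ℤ k) = f k := fun k hk =>
      closed_induction (p := fun k => φ (P.rootSpanMem ℤ k) = f k) hΔ.closed_pos hΔ.disjoint_pos
        (fun a ha => hsimp a (hΔ.simples_eq ▸ ha)) (fun i j k _ _ _ h hi hj => by
          rw [hadd i j k h, ← hi, ← hj, ← map_add]
          exact congrArg φ (Subtype.ext h)) hk
    intro i
    rcases hΔ.cover_pos i with h | h
    · exact hp i h
    · have := hp _ h
      rw [rootSpanMem_reflectionPerm_self, map_neg, hneg, neg_inj] at this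
      exact this
  refine ⟨φ, hφ, fun ψ hψ => ?_⟩
  ext ⟨x, hx⟩
  induction hx using Submodule.span_induction with
  | mem y hy =>
    obtain ⟨i, rfl⟩ := hy
    exact (hψ i).trans (hφ i).symm
  | zero => exact (map_zero ψ).trans (map_zero φ).symm
  | add y z hy hz ihy ihz =>
    show ψ (⟨y, hy⟩ + ⟨z, hz⟩) = φ (⟨y, hy⟩ + ⟨z, hz⟩)
    rw [map_add, map_add, ihy, ihz]
  | smul r y hy ih =>
    show ψ (r • ⟨y, hy⟩) = φ (r • ⟨y, hy⟩)
    rw [map_zsmul, map_zsmul, ih]

theorem eq_one_or_neg_one_of_smul_eq (hΔ : IsSimple P Δ)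
    (had : span ℤ (Set.range P.root) = ⊤) {i : ι} (hind : _root_.RootD.IsIndiv P i) {m : M} {n : ℤ}
    (h : n • m = P.root i) : n = 1 ∨ n = -1 := by
  obtain ⟨g, -, a, ha, rfl⟩ := hΔ.exists_conj_simple' hind
  have hm : g⁻¹ • m ∈ span ℤ (P.root '' Δ) := by rw [hΔ.span_eq, had]; trivial
  obtain ⟨c, hc, hcm⟩ := exists_comb_of_mem_span hm
  have e : n • c = Finsupp.single a 1 := by
    refine hΔ.comb_eq (fun x hx => hc (Finsupp.support_smul hx)) (fun x hx => ?_) ?_
    · have := Finsupp.support_single_subset hx
      rw [Finset.mem_singleton] at this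
      exact this ▸ ha
    · simp only [comb, map_zsmul, Finsupp.linearCombination_single, one_smul] at hcm ⊢
      rw [hcm, ← smul_zsmul_M, h, root_smul, inv_smul_smul]
  have := DFunLike.congr_fun e a
  simp at this
  exact Int.eq_one_or_neg_one_of_mul_eq_one this

end IsSimple

end Groth.L24.RootD
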