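import Groth.Agent.L24.RootD.Present
import Groth.Agent.L24.RootD.Weyl
import Groth.Agent.L24.RootD.Levi
import Mathlib.LinearAlgebra.RootSystem.Hom
import Mathlib.LinearAlgebra.RootSystem.Base

/-!
Adjoint root data are determined by the Cartan matrix.
-/

set_option autoImplicit false
set_option linter.unusedSectionVars false

open Function Set RootPairing
open Submodule (span)

namespace Groth.L24.RootD

variable {ι M N ι' M' N' : Type*} [AddCommGroup M] [AddCommGroup N] [AddCommGroup M'] [AddCommGroup N']
  {P : RootPairing ι ℤ M N} {P' : RootPairing ι' ℤ M' N'} [Finite ι] [Finite ι']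

theorem exists_image_root [P.IsReduced] (b : P.Base) (b' : P'.Base) (u : ↥b.support ≃ ↥b'.support)
    (f : M →ₗ[ℤ] M') (hf : ∀ i : ↥b.support, f (P.root i) = P'.root (u i))
    (hco : ∀ (i : ↥b.support) (m : M), P'.coroot' (u i) (f m) = P.coroot' i m) (k : ι) :
    ∃ k' : ι', f (P.root k) = P'.root k' ∧ ∀ m : M, P'.coroot' k' (f m) = P.coroot' k m := by
  obtain ⟨g, hg, a, ha, rfl⟩ := (IsSimple.of_base b).exists_conj_simple' (indiv_of_reduced k)
  obtain ⟨l, hl, rfl⟩ := exists_word hg
  clear hg
  induction l with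
  | nil => rw [wd_nil, one_smul]; exact ⟨u ⟨a, ha⟩, hf ⟨a, ha⟩, hco ⟨a, ha⟩⟩
  | cons x t ih =>
    obtain ⟨j', h1, h2⟩ := ih (fun y hy => hl y (List.mem_cons_of_mem _ hy))
    have hx : x ∈ b.support := hl x List.mem_cons_self
    have hs : ∀ m : M, f (P.reflection x m) = P'.reflection (u ⟨x, hx⟩) (f m) := fun m => by
      rw [P.reflection_apply, P'.reflection_apply, map_sub, map_zsmul, hco ⟨x, hx⟩, hf ⟨x, hx⟩]
    rw [wd_cons, mul_smul, reflection_smul_idx]
    refine ⟨P'.reflectionPerm (u ⟨x, hx⟩) j', ?_, fun m => ?_⟩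
    · rw [P.root_reflectionPerm, P'.root_reflectionPerm, hs, h1]
    · rw [← P'.coroot'_reflection, ← hs, h2, P.coroot'_reflection]

theorem top_le_span_base (c : P.Base) (h : span ℤ (Set.range P.root) = ⊤) :
    ⊤ ≤ span ℤ (Set.range fun i : ↥c.support => P.root i) := by
  rw [← h, ← (IsSimple.of_base c).span_eq, Set.image_eq_range]
  exact le_rfl

theorem exists_iso_of_cartan [P.IsReduced] [P'.IsReduced]
    (had : Submodule.span ℤ (Set.range P.root) = ⊤) (had' : Submodule.span ℤ (Set.range P'.root) = ⊤)
    (b : P.Base) (b' : P'.Base) (u : ↥b.support ≃ ↥b'.support)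
    (hu : ∀ i j : ↥b.support, P.pairing (i : ι) (j : ι) = P'.pairing (u i : ι') (u j : ι')) :
    ∃! e : RootPairing.Equiv P P', ∀ i : ↥b.support, e.indexEquiv (i : ι) = (u i : ι') := by
  classical
  let bM : Module.Basis ↥b.support ℤ M := Module.Basis.mk (IsSimple.of_base b).linInd (top_le_span_base b had)
  let bM' : Module.Basis ↥b'.support ℤ M' := Module.Basis.mk (IsSimple.of_base b').linInd (top_le_span_base b' had')
  let f : M ≃ₗ[ℤ] M' := bM.equiv bM' u
  have hbM : ∀ i, bM i = P.root i := fun i => Module.Basis.mk_apply _ _ i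
  have hbM' : ∀ i, bM' i = P'.root i := fun i => Module.Basis.mk_apply _ _ i
  have hf : ∀ i : ↥b.support, f (P.root i) = P'.root (u i) := fun i => by
    rw [← hbM, Module.Basis.equiv_apply, hbM']
  have hf' : ∀ i : ↥b'.support, f.symm (P'.root i) = P.root (u.symm i) := fun i => by
    rw [LinearEquiv.symm_apply_eq, hf, _root_.Equiv.apply_symm_apply]
  have hco : ∀ (i : ↥b.support) (m : M), P'.coroot' (u i) (f m) = P.coroot' i m := fun i => by
    refine LinearMap.congr_fun (?_ : (P'.coroot' (u i)) ∘ₗ f.toLinearMap = P.coroot' i)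
    refine bM.ext fun j => ?_
    rw [hbM, LinearMap.comp_apply, LinearEquiv.coe_coe, hf, root_coroot'_eq_pairing,
      root_coroot'_eq_pairing, hu]
  have hco' : ∀ (i : ↥b'.support) (m : M'), P.coroot' (u.symm i) (f.symm m) = P'.coroot' i m :=
    fun i m => by rw [← hco, _root_.Equiv.apply_symm_apply, LinearEquiv.apply_symm_apply]
  choose e1 he1 he1' using exists_image_root b b' u f.toLinearMap hf hco
  choose e2 he2 he2' using exists_image_root b' b u.symm f.symm.toLinearMap hf' hco'
  let e' : ι ≃ ι' :=
    { toFun := e1, invFun := e2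
      left_inv := fun k => P.root.injective (by
        rw [← he2, ← he1]; exact f.symm_apply_apply _)
      right_inv := fun k => P'.root.injective (by
        rw [← he1, ← he2]; exact f.apply_symm_apply _) }
  let g : N' ≃ₗ[ℤ] N := P'.flip.toPerfPair.trans (f.dualMap.trans P.flip.toPerfPair.symm)
  have hg : ∀ (n : N') (m : M), P.toLinearMap m (g n) = P'.toLinearMap (f m) n := fun n m => by
    show P.flip.toPerfPair (g n) m = P'.flip.toPerfPair n (f m)
    simp [g]
  have hperf : ∀ n₁ n₂ : N, (∀ m : M, P.toLinearMap m n₁ = P.toLinearMap m n₂) → n₁ = n₂ :=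
    fun n₁ n₂ h => P.flip.toPerfPair.injective (LinearMap.ext h)
  let E : RootPairing.Equiv P P' :=
    { weightMap := f.toLinearMap
      coweightMap := g.toLinearMap
      indexEquiv := e'
      weight_coweight_transpose := by
        ext n m
        exact (hg n m).symm
      root_weightMap := funext he1
      coroot_coweightMap := funext fun i => by
        refine hperf _ _ fun m => (hg _ m).trans ?_
        have h := he1' (e'.symm i) m
        rw [show e1 (e'.symm i) = i from e'.apply_symm_apply i] at h
        exact h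
      bijective_weightMap := f.bijective
      bijective_coweightMap := g.bijective }
  have hE : ∀ i : ↥b.support, E.indexEquiv (i : ι) = (u i : ι') := fun i =>
    P'.root.injective ((he1 i).symm.trans (hf i))
  refine ⟨E, hE, fun e he => ?_⟩
  have hw : e.weightMap = f.toLinearMap := bM.ext fun i => by
    rw [hbM, Hom.root_weightMap_apply, he]
    exact (hf i).symm
  have hi : e.indexEquiv = e' := _root_.Equiv.ext fun k => P'.root.injective (by
    rw [← Hom.root_weightMap_apply, hw]; exact he1 k)
  have hc : e.coweightMap = g.toLinearMap := LinearMap.ext fun n => hperf _ _ fun m => by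
    refine Eq.trans ?_ (hg n m).symm
    have h := LinearMap.congr_fun (Hom.weight_coweight_transpose_apply P P' n e.toHom) m
    rw [LinearMap.dualMap_apply, hw] at h
    exact h.symm
  obtain ⟨⟨w, c, i, _, _, _⟩, _, _⟩ := e
  simp only at hw hc hi
  subst hw hc hi
  rfl

end Groth.L24.RootD
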