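import Groth.Prelude.Def_W4sga3xxiRoot
import Mathlib.LinearAlgebra.RootSystem.Chain
import Mathlib.LinearAlgebra.RootSystem.Finite.Lemmas
import Mathlib.LinearAlgebra.RootSystem.WeylGroup
import Mathlib.LinearAlgebra.RootSystem.Finite.Nondegenerate
import Mathlib.Algebra.BigOperators.Group.Multiset.Basic

/-!
Closed sets of roots of a finite crystallographic root pairing.
-/

set_option autoImplicit false

open Function Set RootPairing
open Submodule (span)

namespace Groth.L24.RootD

variable {ι R M N : Type*} [CommRing R] [AddCommGroup M] [Module R M] [AddCommGroup N] [Module R N]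
  {P : RootPairing ι R M N}

/-- Index of the opposite root. -/
abbrev neg (P : RootPairing ι R M N) (i : ι) : ι := P.reflectionPerm i i

/-- The multiset sum of the roots. -/
abbrev rsum (P : RootPairing ι R M N) (l : Multiset ι) : M := (l.map P.root).sum

theorem root_neg (i : ι) : P.root (P.reflectionPerm i i) = -P.root i := by simp

theorem neg_neg_idx (i : ι) : neg P (neg P i) = i :=
  @neg_neg ι P.indexNeg i

theorem mem_natSpan_iff {S : Set ι} {x : M} :
    x ∈ _root_.RootD.natSpan P S ↔ ∃ l : Multiset ι, (∀ a ∈ l, a ∈ S) ∧ rsum P l = x := by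
  constructor
  · intro hx
    unfold _root_.RootD.natSpan at hx
    induction hx using AddSubmonoid.closure_induction with
    | mem x hx =>
      obtain ⟨i, hi, rfl⟩ := hx
      exact ⟨{i}, by simp [hi], by simp [rsum]⟩
    | zero => exact ⟨0, by simp, by simp [rsum]⟩
    | add x y _ _ hx hy =>
      obtain ⟨l, hl, rfl⟩ := hx
      obtain ⟨m, hm, rfl⟩ := hy
      refine ⟨l + m, ?_, by simp [rsum]⟩
      intro a ha
      rcases Multiset.mem_add.1 ha with h | h
      · exact hl a h
      · exact hm a h
  · rintro ⟨l, hl, rfl⟩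
    refine AddSubmonoid.multiset_sum_mem _ _ fun x hx => ?_
    obtain ⟨a, ha, rfl⟩ := Multiset.mem_map.1 hx
    exact AddSubmonoid.subset_closure (Set.mem_image_of_mem _ (hl a ha))

theorem natSpan_mono {S T : Set ι} (h : S ⊆ T) :
    _root_.RootD.natSpan P S ≤ _root_.RootD.natSpan P T :=
  AddSubmonoid.closure_mono (Set.image_mono h)

theorem root_mem_natSpan {S : Set ι} {i : ι} (hi : i ∈ S) :
    P.root i ∈ _root_.RootD.natSpan P S :=
  AddSubmonoid.subset_closure (Set.mem_image_of_mem _ hi)

theorem natSpan_le_span (S : Set ι) {x : M} (hx : x ∈ _root_.RootD.natSpan P S) :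
    x ∈ span ℤ (P.root '' S) := by
  obtain ⟨l, hl, rfl⟩ := mem_natSpan_iff.1 hx
  refine multiset_sum_mem _ fun x hx => ?_
  obtain ⟨a, ha, rfl⟩ := Multiset.mem_map.1 hx
  exact Submodule.subset_span (Set.mem_image_of_mem _ (hl a ha))

variable [CharZero R] [IsDomain R] [P.IsCrystallographic]

omit [IsDomain R] in
/-- The pairing with a coroot is additive on sums of roots. -/
theorem pairingIn_of_root_eq_rsum {k j : ι} {l : Multiset ι} (h : P.root k = rsum P l) :
    P.pairingIn ℤ k j = (l.map (P.pairingIn ℤ · j)).sum := by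
  apply FaithfulSMul.algebraMap_injective ℤ R
  rw [algebraMap_pairingIn, ← root_coroot'_eq_pairing, h, rsum, map_multiset_sum, map_multiset_sum,
    Multiset.map_map, Multiset.map_map]
  congr 1
  refine Multiset.map_congr rfl fun a _ => ?_
  simp [← P.algebraMap_pairingIn ℤ]

omit [IsDomain R] in
theorem sum_pairingIn_of_rsum_eq_zero {j : ι} {l : Multiset ι} (h : rsum P l = 0) :
    (l.map (P.pairingIn ℤ · j)).sum = 0 := by
  apply FaithfulSMul.algebraMap_injective ℤ R
  have h' := congrArg (P.coroot' j) h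
  rw [rsum, map_multiset_sum, Multiset.map_map, map_zero] at h'
  rw [map_multiset_sum, Multiset.map_map, map_zero]
  refine Eq.trans ?_ h'
  congr 1
  refine Multiset.map_congr rfl fun a _ => ?_
  simp [← P.algebraMap_pairingIn ℤ]

theorem exists_pos_of_sum_pos {α : Type*} {l : Multiset α} {f : α → ℤ} (h : 0 < (l.map f).sum) :
    ∃ a ∈ l, 0 < f a := by
  by_contra hc
  push Not at hc
  induction l using Multiset.induction with
  | empty => simp at h
  | cons a l ih =>
    rw [Multiset.map_cons, Multiset.sum_cons] at h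
    have := hc a (Multiset.mem_cons_self a l)
    exact ih (by omega) fun b hb => hc b (Multiset.mem_cons_of_mem hb)

theorem exists_neg_of_sum_neg {α : Type*} {l : Multiset α} {f : α → ℤ} (h : (l.map f).sum < 0) :
    ∃ a ∈ l, f a < 0 := by
  obtain ⟨a, ha, h'⟩ := exists_pos_of_sum_pos (l := l) (f := fun a => - f a) (by
    rw [Multiset.sum_map_neg]; omega)
  exact ⟨a, ha, by omega⟩

variable [Finite ι]

theorem exists_root_sub {i j : ι} (h : 0 < P.pairingIn ℤ i j) (hne : i ≠ j) :
    ∃ k, P.root k = P.root i - P.root j :=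
  P.root_sub_root_mem_of_pairingIn_pos h hne

theorem exists_root_add {i j : ι} (h : P.pairingIn ℤ i j < 0) (hne : P.root i ≠ -P.root j) :
    ∃ k, P.root k = P.root i + P.root j :=
  P.root_add_root_mem_of_pairingIn_neg h hne

/-- If a root is a sum of roots, then subtracting one of them leaves a root (or nothing). -/
theorem exists_summand {k : ι} {l : Multiset ι} (h : P.root k = rsum P l) :
    k ∈ l ∨ ∃ a ∈ l, 0 < P.pairingIn ℤ a k ∧ ∃ k', P.root k' = P.root k - P.root a := by
  by_cases hk : k ∈ l
  · exact Or.inl hk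
  have h2 := pairingIn_of_root_eq_rsum (j := k) h
  rw [pairingIn_same] at h2
  obtain ⟨a, ha, hpos⟩ := exists_pos_of_sum_pos (l := l) (f := (P.pairingIn ℤ · k)) (by omega)
  have hne : a ≠ k := fun e => hk (e ▸ ha)
  refine Or.inr ⟨a, ha, hpos, ?_⟩
  exact exists_root_sub ((P.zero_lt_pairingIn_iff' ℤ).1 hpos) hne.symm

/-- A set of roots with no opposite pairs. -/
def Disj (P : RootPairing ι R M N) (S : Set ι) : Prop := ∀ ⦃i : ι⦄, i ∈ S → P.reflectionPerm i i ∉ S

theorem rsum_eq_zero {S : Set ι} (hc : _root_.RootD.IsClosedSub P S) (hd : Disj P S) :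
    ∀ l : Multiset ι, (∀ a ∈ l, a ∈ S) → rsum P l = 0 → l = 0 := by
  classical
  intro l
  induction hn : l.card using Nat.strong_induction_on generalizing l with
  | _ n ih =>
    intro hl h0
    by_contra hne
    obtain ⟨a, ha⟩ := Multiset.exists_mem_of_ne_zero hne
    obtain ⟨t, rfl⟩ := Multiset.exists_cons_of_mem ha
    have h2 := sum_pairingIn_of_rsum_eq_zero (j := a) h0
    rw [Multiset.map_cons, Multiset.sum_cons, pairingIn_same] at h2
    obtain ⟨b, hb, hbn⟩ := exists_neg_of_sum_neg (l := t) (f := (P.pairingIn ℤ · a)) (by omega)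
    obtain ⟨t', rfl⟩ := Multiset.exists_cons_of_mem hb
    have haS := hl a (Multiset.mem_cons_self _ _)
    have hbS := hl b (Multiset.mem_cons_of_mem (Multiset.mem_cons_self _ _))
    have hopp : P.root b ≠ -P.root a := by
      intro e
      rw [P.root_eq_neg_iff] at e
      exact hd haS (e ▸ hbS)
    obtain ⟨c, hcr⟩ := exists_root_add hbn hopp
    have hcS : c ∈ S := hc hbS haS hcr
    have hsum : rsum P (c ::ₘ t') = 0 := by
      rw [← h0]
      simp only [rsum, Multiset.map_cons, Multiset.sum_cons, hcr]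
      abel
    have := ih (c ::ₘ t').card (by simp [← hn]) (c ::ₘ t') rfl ?_ hsum
    · exact Multiset.cons_ne_zero this
    · intro x hx
      rcases Multiset.mem_cons.1 hx with rfl | hx
      · exact hcS
      · exact hl x (Multiset.mem_cons_of_mem (Multiset.mem_cons_of_mem hx))

theorem mem_of_closed_of_mem_natSpan {S : Set ι} (hc : _root_.RootD.IsClosedSub P S) {k : ι}
    (hk : P.root k ∈ _root_.RootD.natSpan P S) : k ∈ S := by
  classical
  obtain ⟨l, hl, hlk⟩ := mem_natSpan_iff.1 hk
  clear hk
  induction hn : l.card using Nat.strong_induction_on generalizing l k with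
  | _ n ih =>
    rcases exists_summand hlk.symm with hmem | ⟨a, ha, -, k', hk'⟩
    · exact hl k hmem
    · obtain ⟨t, rfl⟩ := Multiset.exists_cons_of_mem ha
      have ht : rsum P t = P.root k' := by
        rw [hk', ← hlk]
        simp [rsum]
      have hk'S : k' ∈ S :=
        ih t.card (by simp [← hn]) t (fun x hx => hl x (Multiset.mem_cons_of_mem hx)) ht rfl
      exact hc hk'S (hl a (Multiset.mem_cons_self _ _)) (by rw [hk']; abel)

theorem isClosedSub_iff_natSpan {S : Set ι} :
    _root_.RootD.IsClosedSub P S ↔ ∀ k : ι, P.root k ∈ _root_.RootD.natSpan P S → k ∈ S := by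
  refine ⟨fun hc k hk => mem_of_closed_of_mem_natSpan hc hk, fun h i j k hi hj hk => h k ?_⟩
  rw [hk]
  exact add_mem (root_mem_natSpan hi) (root_mem_natSpan hj)

omit [CharZero R] [IsDomain R] [P.IsCrystallographic] [Finite ι] in
theorem isClosedSub_of_isPosSys {S : Set ι} (hS : _root_.RootD.IsPosSys P S) :
    _root_.RootD.IsClosedSub P S := by
  intro i j k hi hj hk
  refine hS.sat 1 one_pos ?_
  rw [one_smul, hk]
  exact add_mem (root_mem_natSpan hi) (root_mem_natSpan hj)

theorem isPosSys_of_closed {S : Set ι} (hd : Disj P S)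
    (hcov : ∀ i : ι, i ∈ S ∨ P.reflectionPerm i i ∈ S) (hc : _root_.RootD.IsClosedSub P S) :
    _root_.RootD.IsPosSys P S := by
  refine ⟨hd, hcov, fun k n hn hk => ?_⟩
  by_contra hkS
  have hneg := (hcov k).resolve_left hkS
  obtain ⟨l, hl, hlk⟩ := mem_natSpan_iff.1 hk
  have hsum : rsum P (Multiset.replicate n (P.reflectionPerm k k) + l) = 0 := by
    simp only [rsum] at hlk
    simp [rsum, Multiset.map_replicate, Multiset.sum_replicate, hlk]
  have := rsum_eq_zero hc hd _ (by
    intro a ha
    rcases Multiset.mem_add.1 ha with ha | ha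
    · exact (Multiset.eq_of_mem_replicate ha).symm ▸ hneg
    · exact hl a ha) hsum
  have := congrArg Multiset.card this
  simp at this
  omega

theorem isPosSys_iff_closed {S : Set ι} :
    _root_.RootD.IsPosSys P S ↔ (Disj P S ∧ (∀ i : ι, i ∈ S ∨ P.reflectionPerm i i ∈ S) ∧
      _root_.RootD.IsClosedSub P S) :=
  ⟨fun h => ⟨h.disjoint, h.cover, isClosedSub_of_isPosSys h⟩,
    fun h => isPosSys_of_closed h.1 h.2.1 h.2.2⟩

end Groth.L24.RootD
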