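import Groth.Agent.L24.RootD.Weyl
import Groth.Agent.L24.RootD.Lengths

/-!
The indivisible coroots of a system of simple roots form a system of simple coroots.
-/

set_option autoImplicit false
set_option linter.unusedSectionVars false

open Function Set RootPairing
open Submodule (span)

namespace Groth.L24.RootD

variable {ι M N : Type*} [AddCommGroup M] [AddCommGroup N] {P : RootPairing ι ℤ M N} [Finite ι] [Fintype ι]
  {Δ : Set ι}

theorem ell_smul_coroot (i : ι) : ell P i • P.coroot i = (2 : ℤ) • P.Polarization (P.root i) := by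
  rw [ell, P.rootForm_self_smul_coroot]
  simp [two_smul, two_nsmul]

theorem coroot_linIndep (hΔ : IsSimple P Δ) (c : ι → ℤ) (hc : ∀ a, a ∉ Δ → c a = 0)
    (h : ∑ a, c a • P.coroot a = 0) : c = 0 := by
  classical
  set L : ℤ := ∏ a, ell P a
  have hD : ∀ a, ∃ D : ℤ, L = ell P a * D := fun a => Finset.dvd_prod_of_mem _ (Finset.mem_univ a)
  choose D hD using hD
  set x : M := ∑ a, (c a * D a) • P.root a with hx
  have h0 : (2 : ℤ) • P.Polarization x = 0 := by
    calc (2 : ℤ) • P.Polarization x = ∑ a, (c a * D a) • ((2 : ℤ) • P.Polarization (P.root a)) := by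
          rw [hx, map_sum, Finset.smul_sum]
          exact Finset.sum_congr rfl fun a _ => by rw [map_zsmul, smul_comm]
      _ = ∑ a, L • (c a • P.coroot a) := Finset.sum_congr rfl fun a _ => by
          rw [← ell_smul_coroot, smul_smul, smul_smul, hD a]; congr 1; ring
      _ = 0 := by rw [← Finset.smul_sum, h, smul_zero]
  have := torsionFree_N P
  have h1 : P.Polarization x = 0 := (smul_eq_zero.1 h0).resolve_left two_ne_zero
  have hx0 : x = 0 := by
    refine Submodule.disjoint_def.1 P.disjoint_rootSpan_ker_rootForm x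
      (Submodule.sum_mem _ fun a _ => Submodule.smul_mem _ _ (Submodule.subset_span ⟨a, rfl⟩)) ?_
    ext y
    rw [LinearMap.zero_apply, ← P.toLinearMap_apply_apply_Polarization, h1, map_zero]
  let d : ι →₀ ℤ := Finsupp.equivFunOnFinite.symm fun a => c a * D a
  have hd : ↑d.support ⊆ Δ := fun a ha => by
    by_contra hne
    rw [Finset.mem_coe, Finsupp.mem_support_iff] at ha
    exact ha (by simp [d, hc a hne])
  have h2 : d = 0 := hΔ.comb_eq hd (by simp) (by
    rw [comb, comb, map_zero, Finsupp.linearCombination_apply,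
      Finsupp.sum_fintype d (fun i a => a • P.root i) (fun a => zero_smul _ _)]
    simpa [d] using hx0)
  funext a
  have h3 : c a * D a = 0 := by simpa [d] using DFunLike.congr_fun h2 a
  refine (mul_eq_zero.1 h3).resolve_right fun e => ?_
  have h4 : L = 0 := by rw [hD a, e, mul_zero]
  exact (Finset.prod_ne_zero_iff.2 fun b _ => (ell_pos (P := P) b).ne') h4

theorem isSimple_coroots (hΔ : IsSimple P Δ) :
    IsSimple P.flip {j : ι | ∃ i ∈ Δ, (j = i ∧ _root_.RootD.IsIndiv P.flip i) ∨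
      (2 : ℤ) • P.coroot j = P.coroot i} := by
  classical
  set Δ' := {j : ι | ∃ i ∈ Δ, (j = i ∧ _root_.RootD.IsIndiv P.flip i) ∨
      (2 : ℤ) • P.coroot j = P.coroot i} with hΔ'
  have := torsionFree_N P
  have := torsionFree_M P
  have hσ : ∀ a : ι, ∃ (j : ι) (f : ℤ), (_root_.RootD.IsIndiv P.flip a ∧ j = a ∧ f = 2) ∨
      ((2 : ℤ) • P.coroot j = P.coroot a ∧ f = 1) := by
    intro a
    by_cases h : _root_.RootD.IsIndiv P.flip a
    · exact ⟨a, 2, Or.inl ⟨h, rfl, rfl⟩⟩
    · simp only [_root_.RootD.IsIndiv, not_forall, not_not] at h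
      obtain ⟨j, hj⟩ := h
      exact ⟨j, 1, Or.inr ⟨hj, rfl⟩⟩
  choose σ f hσ using hσ
  have hf : ∀ a, 0 < f a := fun a => by rcases hσ a with ⟨-, -, h⟩ | ⟨-, h⟩ <;> omega
  have hσf : ∀ a, (2 : ℤ) • P.coroot (σ a) = f a • P.coroot a := fun a => by
    rcases hσ a with ⟨-, h, h'⟩ | ⟨h, h'⟩
    · rw [h, h']
    · rw [h, h', one_smul]
  have hσm : ∀ a ∈ Δ, σ a ∈ Δ' := fun a ha => by
    rcases hσ a with ⟨hi, h, -⟩ | ⟨h, -⟩
    · exact ⟨a, ha, Or.inl ⟨h, hi⟩⟩
    · exact ⟨a, ha, Or.inr h⟩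
  have huniq : ∀ j ∈ Δ', ∃ a ∈ Δ, j = σ a := by
    rintro j ⟨i, hi, ⟨rfl, hind⟩ | h⟩
    · rcases hσ j with ⟨-, h, -⟩ | ⟨h, -⟩
      · exact ⟨j, hi, h.symm⟩
      · exact absurd h (hind _)
    · rcases hσ i with ⟨hind, -, -⟩ | ⟨h', -⟩
      · exact absurd h (hind _)
      · exact ⟨i, hi, P.coroot.injective (smul_right_injective N (two_ne_zero : (2 : ℤ) ≠ 0) (h.trans h'.symm))⟩
  let ΔF : Finset ι := Finset.univ.filter (· ∈ Δ)
  have hΔF : ∀ a, a ∈ ΔF ↔ a ∈ Δ := fun a => by simp [ΔF]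
  have key : ∀ c : ι → ℤ, ∑ a ∈ ΔF, c a • P.coroot a = 0 → ∀ a ∈ Δ, c a = 0 := by
    intro c h a ha
    have h2 := coroot_linIndep hΔ (fun a => if a ∈ Δ then c a else 0) (fun a ha => if_neg ha) (by
      simp only [ite_smul, zero_smul]
      rw [← Finset.sum_filter]; exact h)
    simpa [ha] using congrFun h2 a
  have hinj : ∀ a ∈ Δ, ∀ b ∈ Δ, σ a = σ b → a = b := by
    intro a ha b hb e
    by_contra hne
    have h1 := (hσf a).symm.trans ((congrArg (fun j => (2 : ℤ) • P.coroot j) e).trans (hσf b))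
    have h2 := key (Pi.single a (f a) - Pi.single b (f b)) (by
      simp only [Pi.sub_apply, sub_smul, Finset.sum_sub_distrib, Pi.single_apply, ite_smul, zero_smul,
        Finset.sum_ite_eq', hΔF, ha, hb, if_true, h1, sub_self]) a ha
    rw [Pi.sub_apply, Pi.single_eq_same, Pi.single_eq_of_ne hne, sub_zero] at h2
    exact (hf a).ne' h2
  have hcomb : ∀ d : ι →₀ ℤ, ↑d.support ⊆ Δ' → comb P.flip d = ∑ a ∈ ΔF, d (σ a) • P.coroot (σ a) := by
    intro d hd
    show Finsupp.linearCombination ℤ P.coroot d = _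
    rw [Finsupp.linearCombination_apply, Finsupp.sum]
    rw [← Finset.sum_image (f := fun j => d j • P.coroot j) (g := σ)
      (fun a ha b hb e => hinj a ((hΔF a).1 ha) b ((hΔF b).1 hb) e)]
    refine Finset.sum_subset (fun j hj => ?_) (fun j _ hj => ?_)
    · obtain ⟨a, ha, rfl⟩ := huniq j (hd hj)
      exact Finset.mem_image_of_mem σ ((hΔF a).2 ha)
    · rw [Finsupp.notMem_support_iff.1 hj, zero_smul]
  have hdouble : ∀ d : ι → ℤ, (2 : ℤ) • (∑ a ∈ ΔF, d a • P.coroot (σ a)) = ∑ a ∈ ΔF, (d a * f a) • P.coroot a := by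
    intro d
    rw [Finset.smul_sum]
    exact Finset.sum_congr rfl fun a _ => by rw [smul_comm, hσf, smul_smul]
  refine ⟨linearIndepOn_iff.2 fun d hd h0 => ?_, fun k => ?_⟩
  · have hd' := (Finsupp.mem_supported ℤ d).1 hd
    have h1 := hdouble (fun a => d (σ a))
    rw [← hcomb d hd', comb, h0, smul_zero] at h1
    ext j
    rw [Finsupp.zero_apply]
    by_contra hj
    obtain ⟨a, ha, rfl⟩ := huniq j (hd' (Finsupp.mem_support_iff.2 hj))
    exact hj ((mul_eq_zero.1 (key _ h1.symm a ha)).resolve_right (hf a).ne')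
  have hx : ∀ x ∈ Δ, P.coroot x ∈ span ℤ (P.coroot '' Δ') := by
    intro x hx
    rcases hσ x with ⟨hi, h, -⟩ | ⟨h, -⟩
    · exact Submodule.subset_span ⟨x, ⟨x, hx, Or.inl ⟨rfl, hi⟩⟩, rfl⟩
    · rw [← h]
      exact Submodule.smul_mem _ _ (Submodule.subset_span ⟨σ x, hσm x hx, rfl⟩)
  have hword : ∀ (l : List ι), (∀ x ∈ l, x ∈ Δ) → ∀ b : ι, P.coroot b ∈ span ℤ (P.coroot '' Δ') →
      P.coroot (wd P l • b) ∈ span ℤ (P.coroot '' Δ') := by
    intro l
    induction l with
    | nil => intro _ b hb; rwa [wd_nil, one_smul]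
    | cons x t ih =>
      intro hl b hb
      rw [wd_cons, mul_smul, reflection_smul_idx, P.coroot_reflectionPerm, P.coreflection_apply]
      exact sub_mem (ih (fun y hy => hl y (List.mem_cons_of_mem _ hy)) b hb)
        (Submodule.smul_mem _ _ (hx x (hl x List.mem_cons_self)))
  have hspan : P.coroot k ∈ span ℤ (P.coroot '' Δ') := by
    by_cases hk : _root_.RootD.IsIndiv P k
    · obtain ⟨g, hg, a, ha, rfl⟩ := hΔ.exists_conj_simple' hk
      obtain ⟨l, hl, rfl⟩ := exists_word hg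
      exact hword l hl a (hx a ha)
    obtain ⟨j, hj⟩ : ∃ j, (2 : ℤ) • P.root j = P.root k := by
      by_contra hh
      exact hk fun j hj => hh ⟨j, hj⟩
    have hjind : _root_.RootD.IsIndiv P j := fun m hm => by
      have : P.root k = (4 : ℤ) • P.root m := by rw [← hj, ← hm, smul_smul]; norm_num
      rcases multiple_of_root this with h | h | h | h <;> omega
    obtain ⟨g, hg, a, ha, rfl⟩ := hΔ.exists_conj_simple' hjind
    obtain ⟨l, hl, rfl⟩ := exists_word hg
    obtain ⟨k', rfl⟩ : ∃ k', wd P l • k' = k := ⟨(wd P l)⁻¹ • k, smul_inv_smul _ _⟩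
    refine hword l hl k' (Submodule.subset_span ⟨k', ⟨a, ha, Or.inr ?_⟩, rfl⟩)
    refine smul_coroot_eq_of_root_eq_smul a k' (2 : ℤ) ?_
    rw [root_smul, root_smul, ← smul_zsmul_M] at hj
    exact (smul_left_cancel _ hj).symm
  obtain ⟨d, hd, hdk⟩ := exists_comb_of_mem_span (P := P.flip) hspan
  obtain ⟨c, hc, hck, hsign⟩ := hΔ.exists_comb k
  have hsum : ell P k • P.coroot k = ∑ a ∈ ΔF, (c a * ell P a) • P.coroot a := by
    rw [ell_smul_coroot, ← hck, comb, Finsupp.linearCombination_apply, Finsupp.sum, map_sum,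
      Finset.smul_sum]
    refine (Finset.sum_congr rfl fun a _ => ?_).trans (Finset.sum_subset (fun a ha => (hΔF a).2 (hc ha))
      (fun a _ ha => by rw [Finsupp.notMem_support_iff.1 ha, zero_mul, zero_smul]))
    rw [map_zsmul, smul_comm, ← ell_smul_coroot, smul_smul]
  have h1 := hdouble (fun a => d (σ a))
  rw [← hcomb d hd, hdk] at h1
  have h2 := key (fun a => ell P k * (d (σ a) * f a) - 2 * (c a * ell P a)) (by
    simp only [sub_smul, Finset.sum_sub_distrib, mul_smul (ell P k), mul_smul (2 : ℤ), ← Finset.smul_sum]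
    rw [← h1, ← hsum, smul_comm]
    exact sub_self _)
  have hco : ∀ a ∈ Δ, ell P k * (d (σ a) * f a) = 2 * (c a * ell P a) := fun a ha => sub_eq_zero.1 (h2 a ha)
  rcases hsign with hs | hs
  · left; rw [show P.flip.root k = P.coroot k from rfl, ← hdk]
    refine comb_mem_natSpan hd fun j => ?_
    by_contra hj
    rw [Finsupp.zero_apply, not_le] at hj
    obtain ⟨a, ha, rfl⟩ := huniq j (hd (Finsupp.mem_support_iff.2 hj.ne))
    have := hco a ha
    have := mul_neg_of_pos_of_neg (ell_pos (P := P) k) (mul_neg_of_neg_of_pos hj (hf a))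
    have := mul_nonneg (hs a) (ell_pos (P := P) a).le
    omega
  · right; rw [show P.flip.root k = P.coroot k from rfl, ← hdk, comb, ← map_neg]
    refine comb_mem_natSpan (by simpa using hd) fun j => ?_
    by_contra hj
    rw [Finsupp.zero_apply, Finsupp.neg_apply, not_le, neg_lt_zero] at hj
    obtain ⟨a, ha, rfl⟩ := huniq j (hd (Finsupp.mem_support_iff.2 hj.ne'))
    have := hco a ha
    have := mul_pos (ell_pos (P := P) k) (mul_pos hj (hf a))
    have := mul_nonpos_of_nonpos_of_nonneg (hs a) (ell_pos (P := P) a).le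
    omega

end Groth.L24.RootD
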