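import Groth.Agent.L24.RootD.Exists
import Mathlib.LinearAlgebra.Matrix.PosDef
import Mathlib.Analysis.Matrix.PosDef
import Mathlib.LinearAlgebra.Matrix.ToLinearEquiv

/-!
The canonical form, orthogonality, partitions of root systems.
-/

set_option autoImplicit false
set_option linter.unusedSectionVars false

open Function Set RootPairing
open Submodule (span)

namespace Groth.L24.RootD

variable {ι R M N : Type*} [CommRing R] [AddCommGroup M] [Module R M] [AddCommGroup N] [Module R N]
  {P : RootPairing ι R M N}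

theorem rootForm_smul [Fintype ι] (g : P.Aut) (x y : M) :
    P.RootForm (g • x) (g • y) = P.RootForm x y := by
  rw [rootForm_apply_apply, rootForm_apply_apply]
  refine (Fintype.sum_equiv (MulAction.toPerm g) _ _ fun j => ?_).symm
  rw [MulAction.toPerm_apply, coroot'_smul, coroot'_smul]

variable [CharZero R] [IsDomain R] [P.IsCrystallographic] [Finite ι]

theorem isOrthogonal_iff {i j : ι} : P.IsOrthogonal i j ↔ P.pairingIn ℤ i j = 0 := by
  have : Module.IsReflexive R M := .of_isPerfPair P.toLinearMap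
  constructor
  · rintro ⟨h, -⟩
    apply FaithfulSMul.algebraMap_injective ℤ R
    rw [algebraMap_pairingIn, h, map_zero]
  · intro h
    refine ⟨?_, ?_⟩
    · rw [← P.algebraMap_pairingIn ℤ, h, map_zero]
    · rw [← P.algebraMap_pairingIn ℤ, P.pairingIn_eq_zero_iff.1 h, map_zero]

theorem pairingIn_comm_zero {i j : ι} (h : P.pairingIn ℤ i j = 0) : P.pairingIn ℤ j i = 0 := by
  have : Module.IsReflexive R M := .of_isPerfPair P.toLinearMap
  exact P.pairingIn_eq_zero_iff.1 h

theorem pairingIn_eq_zero_of_span {S : Set ι} {k j : ι} (hk : P.root k ∈ span ℤ (P.root '' S))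
    (h : ∀ a ∈ S, P.pairingIn ℤ a j = 0) : P.pairingIn ℤ k j = 0 := by
  obtain ⟨c, hc, hck⟩ := exists_comb_of_mem_span hk
  rw [pairingIn_of_root_eq_comb hck.symm]
  exact Finset.sum_eq_zero fun a ha => by simp [h a (hc ha)]

/-- A set of roots orthogonal to its complement. -/
def Split (P : RootPairing ι R M N) [P.IsCrystallographic] (R' : Set ι) : Prop :=
  ∀ i ∈ R', ∀ j ∉ R', P.pairingIn ℤ i j = 0

theorem Split.compl {R' : Set ι} (h : Split P R') : Split P R'ᶜ := fun i hi j hj =>
  pairingIn_comm_zero (h j (not_not.1 hj) i hi)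

theorem Split.symm' {R' : Set ι} (h : Split P R') : _root_.RootD.IsSymmSub P R' := by
  intro i hi
  by_contra hn
  have := h i hi _ hn
  simp at this

theorem Split.closed {R' : Set ι} (h : Split P R') : _root_.RootD.IsClosedSub P R' := by
  intro i j k hi hj hk
  by_contra hn
  have h2 : P.pairingIn ℤ k k = P.pairingIn ℤ i k + P.pairingIn ℤ j k :=
    pairingIn_eq_add_of_root_eq_add hk
  rw [pairingIn_same, h i hi k hn, h j hj k hn] at h2
  omega

theorem same_part {R' : Set ι} (hc : _root_.RootD.IsClosedSub P R')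
    (hs : _root_.RootD.IsSymmSub P R') (hc' : _root_.RootD.IsClosedSub P R'ᶜ)
    (hs' : _root_.RootD.IsSymmSub P R'ᶜ) {i j k : ι} (h : P.root k = P.root i + P.root j) :
    (i ∈ R' ∧ j ∈ R' ∧ k ∈ R') ∨ (i ∉ R' ∧ j ∉ R' ∧ k ∉ R') := by
  by_cases hi : i ∈ R' <;> by_cases hj : j ∈ R'
  · exact Or.inl ⟨hi, hj, hc hi hj h⟩
  · exfalso
    by_cases hk : k ∈ R'
    · exact hj (hc hk (hs hi) (by rw [root_neg, h]; abel))
    · exact hc' hk (hs' hj) (by rw [root_neg, h]; abel) hi
  · exfalso
    by_cases hk : k ∈ R'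
    · exact hi (hc hk (hs hj) (by rw [root_neg, h]; abel))
    · exact hc' hk (hs' hi) (by rw [root_neg, h]; abel) hj
  · exact Or.inr ⟨hi, hj, hc' hi hj h⟩

theorem mem_of_not_orth {R' : Set ι} (hc : _root_.RootD.IsClosedSub P R')
    (hs : _root_.RootD.IsSymmSub P R') (hc' : _root_.RootD.IsClosedSub P R'ᶜ)
    (hs' : _root_.RootD.IsSymmSub P R'ᶜ) {i j : ι} (hi : i ∈ R')
    (hij : P.pairingIn ℤ i j ≠ 0) : j ∈ R' := by
  by_cases e : i = j
  · exact e ▸ hi
  by_cases e' : P.root i = -P.root j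
  · have e'' := P.root_eq_neg_iff.1 e'
    have := hs hi
    rw [e''] at this
    rwa [show P.reflectionPerm (P.reflectionPerm j j) (P.reflectionPerm j j) = j from neg_neg_idx j]
      at this
  rcases lt_or_gt_of_ne hij with h | h
  · obtain ⟨k, hk⟩ := exists_root_add h e'
    rcases same_part hc hs hc' hs' hk with ⟨-, hj, -⟩ | ⟨hni, -, -⟩
    exacts [hj, absurd hi hni]
  · obtain ⟨k, hk⟩ := exists_root_sub h e
    rcases same_part hc hs hc' hs' (show P.root i = P.root k + P.root j by rw [hk]; abel) with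
      ⟨-, hj, -⟩ | ⟨-, -, hni⟩
    exacts [hj, absurd hi hni]

theorem split_iff {R' : Set ι} : Split P R' ↔ _root_.RootD.IsClosedSub P R' ∧
    _root_.RootD.IsSymmSub P R' ∧ _root_.RootD.IsClosedSub P R'ᶜ ∧
    _root_.RootD.IsSymmSub P R'ᶜ := by
  refine ⟨fun h => ⟨h.closed, h.symm', h.compl.closed, h.compl.symm'⟩, fun h i hi j hj => ?_⟩
  by_contra hne
  exact hj (mem_of_not_orth h.1 h.2.1 h.2.2.1 h.2.2.2 hi hne)

theorem split_component (i : ι) :
    Split P {j : ι | Relation.ReflTransGen (fun a b : ι => ¬ P.IsOrthogonal a b) i j} := by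
  intro a ha b hb
  by_contra hne
  exact hb (Relation.ReflTransGen.tail ha (fun h => hne (isOrthogonal_iff.1 h)))

/-- Irreducibility in terms of orthogonal decompositions. -/
def Irr (P : RootPairing ι R M N) [P.IsCrystallographic] : Prop :=
  ∀ R' : Set ι, Split P R' → R' = ∅ ∨ R' = Set.univ

theorem irr_of_closed (hirr : ∀ R' : Set ι, _root_.RootD.IsClosedSub P R' →
    _root_.RootD.IsSymmSub P R' → _root_.RootD.IsClosedSub P R'ᶜ →
    _root_.RootD.IsSymmSub P R'ᶜ → R' = ∅ ∨ R' = Set.univ) : Irr P := fun R' h => by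
  obtain ⟨h1, h2, h3, h4⟩ := split_iff.1 h
  exact hirr R' h1 h2 h3 h4

theorem Irr.connected (h : Irr P) (i j : ι) :
    Relation.ReflTransGen (fun a b : ι => ¬ P.IsOrthogonal a b) i j := by
  rcases h _ (split_component i) with h' | h'
  · exact absurd (Relation.ReflTransGen.refl :
      Relation.ReflTransGen (fun a b : ι => ¬ P.IsOrthogonal a b) i i) (h' ▸ fun h => h.elim :
      i ∉ {j : ι | Relation.ReflTransGen (fun a b : ι => ¬ P.IsOrthogonal a b) i j})
  · exact h'.ge (Set.mem_univ j)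

theorem Irr.exists_conj_not_orth (h : Irr P) (i j : ι) :
    ∃ g ∈ P.weylGroup, P.pairingIn ℤ i (g • j) ≠ 0 := by
  have hsplit : Split P {k | ∃ g ∈ P.weylGroup, P.pairingIn ℤ k (g • j) ≠ 0} := by
    rintro a ⟨g, hg, hga⟩ b hb
    have hb' : ∀ u ∈ P.weylGroup, P.pairingIn ℤ b (u • j) = 0 := fun u hu => by
      by_contra hne
      exact hb ⟨u, hu, hne⟩
    have h1 := hb' g hg
    have h2 := hb' (Equiv.reflection P a * g) (mul_mem (P.reflection_mem_weylGroup a) hg)
    rw [mul_smul, reflection_smul_idx, pairingIn_reflectionPerm] at h2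
    -- the reflected root is a combination of the two
    have h3 : P.pairingIn ℤ (P.reflectionPerm a b) (g • j) =
        P.pairingIn ℤ b (g • j) - P.pairingIn ℤ b a * P.pairingIn ℤ a (g • j) := by
      apply FaithfulSMul.algebraMap_injective ℤ R
      simp only [map_sub, map_mul, algebraMap_pairingIn, ← root_coroot'_eq_pairing,
        root_reflectionPerm_int a b, map_zsmul, zsmul_eq_mul]
      simp [← P.algebraMap_pairingIn ℤ]
    rw [h2, h1] at h3
    have : P.pairingIn ℤ b a = 0 := by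
      have h4 : P.pairingIn ℤ b a * P.pairingIn ℤ a (g • j) = 0 := by omega
      exact (mul_eq_zero.1 h4).resolve_right hga
    exact pairingIn_comm_zero this
  rcases h _ hsplit with h' | h'
  · have hj : j ∈ {k | ∃ g ∈ P.weylGroup, P.pairingIn ℤ k (g • j) ≠ 0} :=
      ⟨1, one_mem _, by simp⟩
    rw [h'] at hj
    exact hj.elim
  · exact h'.ge (Set.mem_univ i)

namespace IsSimple

variable {Δ : Set ι}

theorem mem_inSpan_of_split (hΔ : IsSimple P Δ) {R' : Set ι} (h : Split P R') {k : ι}
    (hk : k ∈ R') : P.root k ∈ span ℤ (P.root '' (Δ ∩ R')) := by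
  obtain ⟨hc, hs, hc', hs'⟩ := split_iff.1 h
  have key : ∀ m ∈ _root_.RootD.posOf P Δ, m ∈ R' → P.root m ∈ span ℤ (P.root '' (Δ ∩ R')) :=
    fun m hm => closed_induction (p := fun m => m ∈ R' → P.root m ∈ span ℤ (P.root '' (Δ ∩ R')))
      hΔ.closed_pos hΔ.disjoint_pos
      (fun a ha ha' => Submodule.subset_span ⟨a, ⟨hΔ.simples_eq ▸ ha, ha'⟩, rfl⟩)
      (fun i j m _ _ _ e hi hj hm' => by
        rcases same_part hc hs hc' hs' e with ⟨hi', hj', -⟩ | ⟨-, -, hn⟩
        · exact e ▸ add_mem (hi hi') (hj hj')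
        · exact absurd hm' hn) hm
  rcases hΔ.cover_pos k with h' | h'
  · exact key k h' hk
  · have := key _ h' (hs hk)
    rwa [root_neg, neg_mem_iff] at this

theorem disjoint_span (hΔ : IsSimple P Δ) {A : Set ι} (hA : A ⊆ Δ) {k : ι}
    (h1 : P.root k ∈ span ℤ (P.root '' A)) (h2 : P.root k ∈ span ℤ (P.root '' (Δ \ A))) :
    False := by
  obtain ⟨c, hc, hck⟩ := exists_comb_of_mem_span h1
  obtain ⟨d, hd, hdk⟩ := exists_comb_of_mem_span h2
  have e := hΔ.comb_eq (hc.trans hA) (hd.trans Set.sdiff_subset) (hck.trans hdk.symm)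
  obtain ⟨a, ha⟩ := Finsupp.support_nonempty_iff.2 (comb_ne_zero_of_root hck)
  exact (hd (e ▸ ha)).2 (hc ha)

theorem mem_span_or (hΔ : IsSimple P Δ) {A : Set ι} (hA : A ⊆ Δ)
    (horth : ∀ i ∈ A, ∀ j ∈ Δ \ A, P.pairingIn ℤ i j = 0) (k : ι) :
    P.root k ∈ span ℤ (P.root '' A) ∨ P.root k ∈ span ℤ (P.root '' (Δ \ A)) := by
  classical
  have mixed : ∀ i ∈ _root_.RootD.posOf P Δ, ∀ j ∈ _root_.RootD.posOf P Δ, ∀ m,
      P.root i ∈ span ℤ (P.root '' A) → P.root j ∈ span ℤ (P.root '' (Δ \ A)) →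
      P.root m = P.root i + P.root j → False := by
    intro i hi j hj m hiA hjA e
    have hij : P.pairingIn ℤ i j = 0 := by
      refine pairingIn_eq_zero_of_span hiA fun a ha => pairingIn_comm_zero ?_
      exact pairingIn_eq_zero_of_span hjA fun b hb => pairingIn_comm_zero (horth a ha b hb)
    have em : P.root (P.reflectionPerm j m) = P.root i - P.root j := by
      rw [root_reflectionPerm_int, pairingIn_eq_add_of_root_eq_add e, hij, pairingIn_same,
        zero_add, e, two_smul]
      abel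
    obtain ⟨c, hc, hci⟩ := exists_comb_of_mem_span hiA
    obtain ⟨d, hd, hdj⟩ := exists_comb_of_mem_span hjA
    have hc0 := hΔ.nonneg_of_pos hi (hc.trans hA) hci
    have hd0 := hΔ.nonneg_of_pos hj (hd.trans Set.sdiff_subset) hdj
    obtain ⟨a, ha⟩ := Finsupp.support_nonempty_iff.2 (comb_ne_zero_of_root hci)
    obtain ⟨b, hb⟩ := Finsupp.support_nonempty_iff.2 (comb_ne_zero_of_root hdj)
    have hsupp : ↑(c - d).support ⊆ Δ := fun x hx =>
      (Finset.mem_union.1 (Finsupp.support_sub hx)).elim (fun h => hA (hc h)) fun h => (hd h).1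
    have hda : d a = 0 := Finsupp.notMem_support_iff.1 fun h => (hd h).2 (hc ha)
    have hcb : c b = 0 := Finsupp.notMem_support_iff.1 fun h => (hd hb).2 (hc h)
    have hcomb : comb P (c - d) = P.root (P.reflectionPerm j m) := by
      rw [comb, map_sub, ← comb, ← comb, hci, hdj, em]
    have hpos := hΔ.mem_pos_of_coeff_pos hsupp hcomb (a := a) (by
      have := hc0 a
      have := Finsupp.mem_support_iff.1 ha
      simp [hda] at *
      omega)
    have := hΔ.nonneg_of_pos hpos hsupp hcomb b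
    have := hd0 b
    have := Finsupp.mem_support_iff.1 hb
    simp [hcb] at *
    omega
  have key : ∀ m ∈ _root_.RootD.posOf P Δ,
      P.root m ∈ span ℤ (P.root '' A) ∨ P.root m ∈ span ℤ (P.root '' (Δ \ A)) := fun m hm =>
    closed_induction (p := fun m => P.root m ∈ span ℤ (P.root '' A) ∨
        P.root m ∈ span ℤ (P.root '' (Δ \ A))) hΔ.closed_pos hΔ.disjoint_pos
      (fun a ha => by
        by_cases h : a ∈ A
        · exact Or.inl (Submodule.subset_span ⟨a, h, rfl⟩)
        · exact Or.inr (Submodule.subset_span ⟨a, ⟨hΔ.simples_eq ▸ ha, h⟩, rfl⟩))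
      (fun i j m hi hj _ e pi pj => by
        rcases pi with pi | pi <;> rcases pj with pj | pj
        · exact Or.inl (e ▸ add_mem pi pj)
        · exact (mixed i hi j hj m pi pj e).elim
        · exact (mixed j hj i hi m pj pi (by rw [e, add_comm])).elim
        · exact Or.inr (e ▸ add_mem pi pj)) hm
  rcases hΔ.cover_pos k with h | h
  · exact key k h
  · have := key _ h
    rwa [root_neg, neg_mem_iff, neg_mem_iff] at this

end IsSimple

end Groth.L24.RootD
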