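import Groth.Agent.L24.RootD.Present
import Groth.Agent.L24.RootD.Forms
import Mathlib.Data.Real.Sqrt
import Mathlib.SetTheory.Cardinal.Order

/-!
Every Dynkin diagram has a leaf whose coefficient towards its neighbour is `-1`.
-/

set_option autoImplicit false
set_option linter.unusedSectionVars false

open Function Set RootPairing

namespace Groth.L24.RootD

variable {ι R M N : Type*} [CommRing R] [CharZero R] [IsDomain R] [AddCommGroup M] [Module R M]
  [AddCommGroup N] [Module R N] {P : RootPairing ι R M N} [Fintype ι] [P.IsCrystallographic]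
  {Δ : Set ι}

/-- The integral invariant form on pairs of roots. -/
noncomputable def intForm (P : RootPairing ι R M N) [P.IsCrystallographic] (i j : ι) : ℤ :=
  ∑ k, P.pairingIn ℤ i k * P.pairingIn ℤ j k

theorem two_intForm (i j : ι) :
    2 * intForm P i j = P.pairingIn ℤ i j * intForm P j j := by
  apply FaithfulSMul.algebraMap_injective ℤ R
  have h := P.toInvariantForm.two_mul_apply_root_root i j
  simp only [intForm, map_mul, map_sum, map_ofNat, P.algebraMap_pairingIn]
  simpa [RootPairing.toInvariantForm, rootForm_apply_apply] using h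

theorem intForm_self_pos (i : ι) : 0 < intForm P i i :=
  Finset.sum_pos' (fun _ _ => mul_self_nonneg _) ⟨i, Finset.mem_univ i, by simp⟩

theorem intForm_comm (i j : ι) : intForm P i j = intForm P j i :=
  Finset.sum_congr rfl fun _ _ => mul_comm _ _

theorem four_intForm_sq (i j : ι) :
    4 * intForm P i j ^ 2 =
      P.pairingIn ℤ i j * P.pairingIn ℤ j i * (intForm P i i * intForm P j j) := by
  have h1 := two_intForm (P := P) i j
  have h2 := two_intForm (P := P) j i
  rw [intForm_comm j i] at h2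
  calc 4 * intForm P i j ^ 2 = (2 * intForm P i j) * (2 * intForm P i j) := by ring
    _ = _ := by nth_rw 1 [h1]; rw [h2]; ring

theorem sum_pairing_pos [P.IsReduced] (hΔ : IsSimple P Δ) {a : ι} (ha : a ∈ Δ) :
    ∃ T : Finset ι, (∀ k, k ∈ T ↔ k ∈ _root_.RootD.posOf P Δ) ∧ 0 < ∑ k ∈ T, P.pairingIn ℤ a k := by
  classical
  let T : Finset ι := Finset.univ.filter (· ∈ _root_.RootD.posOf P Δ)
  refine ⟨T, fun k => by simp [T], ?_⟩
  have haT : a ∈ T := Finset.mem_filter.2 ⟨Finset.mem_univ a, hΔ.subset_pos ha⟩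
  rw [← Finset.add_sum_erase _ _ haT, pairingIn_same]
  have h0 : ∑ k ∈ T.erase a, P.pairingIn ℤ a k = 0 := by
    have hneg : ∀ k, P.pairingIn ℤ a (P.reflectionPerm a k) = -P.pairingIn ℤ a k := fun k => by
      apply FaithfulSMul.algebraMap_injective ℤ R
      rw [map_neg, P.algebraMap_pairingIn, P.algebraMap_pairingIn]
      simp only [pairing, P.coroot_reflectionPerm, P.coreflection_apply, map_sub, map_smul, smul_eq_mul, root', LinearMap.flip_apply, P.root_coroot_two]
      ring
    refine Finset.sum_involution (fun k _ => P.reflectionPerm a k) (fun k _ => by rw [hneg]; exact add_neg_cancel _)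
      (fun k _ hne e => ?_) (fun k hk => ?_) (fun k _ => P.reflectionPerm_self a k)
    · have h := hneg k
      rw [e] at h
      exact hne (by linarith)
    · simp only [Finset.mem_erase, T, Finset.mem_filter, Finset.mem_univ, true_and] at hk ⊢
      have h := hΔ.reflection_mem_pos ha hk.2 (indiv_of_reduced k) hk.1
      refine ⟨fun e => ?_, h⟩
      have hk' : k = P.reflectionPerm a a :=
        (P.reflectionPerm a).injective (e.trans (P.reflectionPerm_self a a).symm)
      exact hΔ.disjoint_pos (hΔ.subset_pos ha) (hk' ▸ hk.2)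
  rw [h0]
  norm_num

theorem exists_unit_leaf [P.IsReduced] (hΔ : IsSimple P Δ) (S : Finset ι) (hS : (↑S : Set ι) ⊆ Δ)
    (hne : S.Nonempty) :
    ∃ v ∈ S, (∀ w ∈ S, w ≠ v → P.pairingIn ℤ v w = 0) ∨
      ∃ w ∈ S, w ≠ v ∧ P.pairingIn ℤ v w = -1 ∧ ∀ x ∈ S, x ≠ v → x ≠ w → P.pairingIn ℤ v x = 0 := by
  classical
  by_contra hcon
  push Not at hcon
  let n : ι → ι → ℤ := fun i j => P.pairingIn ℤ i j
  let nb : ι → Finset ι := fun v => S.filter fun w => w ≠ v ∧ n v w ≠ 0
  have hnb : ∀ v ∈ S, (nb v).Nonempty := fun v hv => by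
    obtain ⟨⟨w, hw, h1, h2⟩, -⟩ := hcon v hv
    exact ⟨w, Finset.mem_filter.2 ⟨hw, h1, h2⟩⟩
  have hle : ∀ v ∈ S, ∀ w ∈ S, w ≠ v → n v w ≤ 0 := fun v hv w hw h =>
    hΔ.pairingIn_nonpos (hS hv) (hS hw) h.symm
  have hbad : ∀ v ∈ S, (nb v).card = 1 → ∀ w ∈ nb v, n v w ≤ -2 := by
    intro v hv hc w hw
    obtain ⟨hwS, hwv, hw0⟩ := Finset.mem_filter.1 hw
    have h1 := hle v hv w hwS hwv
    by_contra h2
    have h3 : n v w = -1 := by omega
    obtain ⟨x, hx, h4, h5, h6⟩ := (hcon v hv).2 w hwS hwv h3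
    have hxn : x ∈ nb v := Finset.mem_filter.2 ⟨hx, h4, h6⟩
    exact h5 (Finset.card_le_one.1 hc.le _ hxn _ hw)
  let y : ι → ℝ := fun v => if (nb v).card = 1 then 1 else Real.sqrt 2
  let G : ι → ι → ℝ := fun i j => (intForm P i j : ℝ)
  have hG : ∀ i, 0 < G i i := fun i => by simp only [G]; exact_mod_cast intForm_self_pos (P := P) i
  let x : ι → ℝ := fun v => y v / Real.sqrt (G v v)
  have hy : ∀ v, 0 < y v := fun v => by
    simp only [y]; split_ifs <;> positivity
  have hxpos : ∀ v, 0 < x v := fun v => div_pos (hy v) (Real.sqrt_pos.2 (hG v))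
  have hy2 : ∀ v, y v ^ 2 = if (nb v).card = 1 then 1 else 2 := fun v => by
    simp only [y]; split_ifs <;> simp
  have hedge : ∀ v ∈ S, ∀ w ∈ nb v, x v * x w * G v w ≤ -1 := by
    intro v hv w hw
    obtain ⟨hwS, hwv, hw0⟩ := Finset.mem_filter.1 hw
    have h1 : n v w ≤ -1 := by have := hle v hv w hwS hwv; omega
    have hw0' : n w v ≠ 0 := fun e => hw0 (pairingIn_comm_zero e)
    have h2 : n w v ≤ -1 := by have := hle w hwS v hv hwv.symm; omega
    have hvn : v ∈ nb w := Finset.mem_filter.2 ⟨hv, hwv.symm, hw0'⟩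
    have hneg : x v * x w * G v w ≤ 0 := by
      refine mul_nonpos_of_nonneg_of_nonpos (mul_pos (hxpos v) (hxpos w)).le ?_
      have : intForm P v w ≤ 0 := by
        have := two_intForm (P := P) v w
        have := mul_nonpos_of_nonpos_of_nonneg (show n v w ≤ 0 by omega) (intForm_self_pos (P := P) w).le
        simp only [n] at *
        omega
      simp only [G]
      exact_mod_cast this
    have hsq : 1 ≤ (x v * x w * G v w) ^ 2 := by
      have e : (x v * x w * G v w) ^ 2 = y v ^ 2 * y w ^ 2 * ((n v w : ℝ) * n w v) / 4 := by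
        have h4 : 4 * G v w ^ 2 = (n v w : ℝ) * n w v * (G v v * G w w) := by
          simp only [G, n]; exact_mod_cast four_intForm_sq (P := P) v w
        simp only [x, mul_pow, div_pow, Real.sq_sqrt (hG _).le]
        have := (hG v).ne'
        have := (hG w).ne'
        field_simp
        linear_combination (y v ^ 2 * y w ^ 2) * h4
      rw [e, le_div_iff₀ (by norm_num : (0 : ℝ) < 4), one_mul, hy2, hy2]
      by_cases hv1 : (nb v).card = 1 <;> by_cases hw1 : (nb w).card = 1 <;> simp only [hv1, hw1, if_true, if_false]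
      · have a : n v w ≤ -2 := hbad v hv hv1 w hw
        have b : n w v ≤ -2 := hbad w hwS hw1 v hvn
        have : (4 : ℤ) ≤ n v w * n w v := by nlinarith
        rw [one_mul, one_mul]; exact_mod_cast this
      · have a : n v w ≤ -2 := hbad v hv hv1 w hw
        have : (4 : ℤ) ≤ 2 * (n v w * n w v) := by nlinarith
        rw [one_mul]; exact_mod_cast this
      · have b : n w v ≤ -2 := hbad w hwS hw1 v hvn
        have : (4 : ℤ) ≤ 2 * (n v w * n w v) := by nlinarith
        rw [mul_one]; exact_mod_cast this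
      · have : (4 : ℤ) ≤ 2 * 2 * (n v w * n w v) := by nlinarith
        exact_mod_cast this
    nlinarith
  have hrow : ∀ v ∈ S, ∑ w ∈ S, x v * x w * G v w ≤ 0 := by
    intro v hv
    rw [← Finset.add_sum_erase _ _ hv]
    have hd : x v * x v * G v v = y v ^ 2 := by
      simp only [x]
      rw [div_mul_div_comm, Real.mul_self_sqrt (hG v).le]
      field_simp [(hG v).ne']
    have h0 : ∑ w ∈ S.erase v, x v * x w * G v w = ∑ w ∈ nb v, x v * x w * G v w := by
      refine (Finset.sum_subset (fun w hw => ?_) (fun w hw hw' => ?_)).symm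
      · obtain ⟨hwS, hwv, -⟩ := Finset.mem_filter.1 hw
        exact Finset.mem_erase.2 ⟨hwv, hwS⟩
      · obtain ⟨hwv, hwS⟩ := Finset.mem_erase.1 hw
        have e : n v w = 0 := by
          by_contra e; exact hw' (Finset.mem_filter.2 ⟨hwS, hwv, e⟩)
        have e' : intForm P v w = 0 := by
          have := two_intForm (P := P) v w
          simp only [n] at e
          rw [e, zero_mul] at this
          omega
        simp [G, e']
    rw [hd, h0]
    have h1 : ∑ w ∈ nb v, x v * x w * G v w ≤ ∑ _w ∈ nb v, (-1 : ℝ) :=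
      Finset.sum_le_sum (hedge v hv)
    rw [Finset.sum_const, nsmul_eq_mul, mul_neg, mul_one] at h1
    have h2 : y v ^ 2 ≤ (nb v).card := by
      rw [hy2]
      have h3 := Finset.card_pos.2 (hnb v hv)
      split_ifs with h
      · rw [h]; norm_num
      · have : 2 ≤ (nb v).card := by omega
        exact_mod_cast this
    linarith
  have hq : ∑ k, (∑ v ∈ S, x v * (n v k : ℝ)) ^ 2 = 0 := by
    refine le_antisymm (le_of_eq_of_le ?_ (Finset.sum_nonpos hrow)) (Finset.sum_nonneg fun k _ => sq_nonneg _)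
    simp only [pow_two, Finset.sum_mul_sum]
    simp only [G, intForm, Int.cast_sum, Int.cast_mul, Finset.mul_sum]
    rw [Finset.sum_comm]
    refine Finset.sum_congr rfl fun v _ => ?_
    rw [Finset.sum_comm]
    exact Finset.sum_congr rfl fun w _ => Finset.sum_congr rfl fun k _ => by ring
  have hker : ∀ k, ∑ v ∈ S, x v * (n v k : ℝ) = 0 := fun k =>
    sq_eq_zero_iff.1 ((Finset.sum_eq_zero_iff_of_nonneg fun k _ => sq_nonneg _).1 hq k (Finset.mem_univ k))
  obtain ⟨v₀, hv₀⟩ := hne
  obtain ⟨T, hT, -⟩ := sum_pairing_pos hΔ (hS hv₀)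
  have hzero : ∑ v ∈ S, x v * ((∑ k ∈ T, n v k : ℤ) : ℝ) = 0 := by
    simp only [Int.cast_sum, Finset.mul_sum]
    rw [Finset.sum_comm]
    exact Finset.sum_eq_zero fun k _ => hker k
  have hpos : 0 < ∑ v ∈ S, x v * ((∑ k ∈ T, n v k : ℤ) : ℝ) := by
    refine Finset.sum_pos (fun v hv => mul_pos (hxpos v) ?_) ⟨v₀, hv₀⟩
    obtain ⟨T', hT', h⟩ := sum_pairing_pos hΔ (hS hv)
    have e : T = T' := Finset.ext fun k => (hT k).trans (hT' k).symm
    rw [← e] at h
    exact_mod_cast h
  linarith

theorem exists_diag [P.IsReduced] (hΔ : IsSimple P Δ) (e : ι → ι → ℤ) (he : ∀ i j, e j i = -e i j)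
    (S : Finset ι) (hS : (↑S : Set ι) ⊆ Δ) :
    ∃ c : ι → ℤ, ∀ i ∈ S, ∀ j ∈ S, i ≠ j → P.pairingIn ℤ i j ≠ 0 →
      P.pairingIn ℤ i j * c i - P.pairingIn ℤ j i * c j = e i j := by
  classical
  induction S using Finset.strongInduction with
  | _ S ih =>
    rcases S.eq_empty_or_nonempty with rfl | hne
    · exact ⟨0, by simp⟩
    obtain ⟨v, hv, h⟩ := exists_unit_leaf hΔ S hS hne
    obtain ⟨c, hc⟩ := ih (S.erase v) (Finset.erase_ssubset hv) (fun x hx => hS (Finset.erase_subset v S hx))
    rcases h with h | ⟨w, hw, hwv, hunit, h⟩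
    · refine ⟨c, fun i hi j hj hij hn => ?_⟩
      have hiv : i ≠ v := fun e => hn (e ▸ h j hj (e ▸ hij.symm))
      have hjv : j ≠ v := fun e => hn (pairingIn_comm_zero (e ▸ h i hi hiv))
      exact hc i (Finset.mem_erase.2 ⟨hiv, hi⟩) j (Finset.mem_erase.2 ⟨hjv, hj⟩) hij hn
    · refine ⟨Function.update c v (-e v w - P.pairingIn ℤ w v * c w), fun i hi j hj hij hn => ?_⟩
      by_cases hiv : i = v
      · subst hiv
        have hjw : j = w := by by_contra e'; exact hn (h j hj hij.symm e')
        subst hjw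
        rw [Function.update_self, Function.update_of_ne hwv, hunit]; ring
      by_cases hjv : j = v
      · subst hjv
        have hiw : i = w := by
          by_contra e'; exact hn (pairingIn_comm_zero (h i hi hiv e'))
        subst hiw
        rw [Function.update_self, Function.update_of_ne hwv, hunit, he j i]; ring
      · rw [Function.update_of_ne hiv, Function.update_of_ne hjv]
        exact hc i (Finset.mem_erase.2 ⟨hiv, hi⟩) j (Finset.mem_erase.2 ⟨hjv, hj⟩) hij hn

theorem exists_bilin [P.IsReduced] (hΔ : IsSimple P Δ) (S : Finset ι) (hS : (↑S : Set ι) ⊆ Δ) (d : ι → ι → ℤ)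
    (hd : ∀ i ∈ S, ∀ j ∈ S, i ≠ j → P.pairingIn ℤ i j = 0 → d i j = d j i) :
    ∃ C : ι → ι → ℤ, ∀ i ∈ S, ∀ j ∈ S, i ≠ j →
      C i j + C j i - P.pairingIn ℤ j i * C j j = d i j := by
  classical
  obtain ⟨c, hc⟩ := exists_diag hΔ (fun i j => d i j - d j i) (fun i j => by ring) S hS
  have : LinearOrder ι := LinearOrder.lift' (Fintype.equivFin ι) (Fintype.equivFin ι).injective
  refine ⟨fun i j => if i = j then c i else if i < j then d i j + P.pairingIn ℤ j i * c j else 0,
    fun i hi j hj hij => ?_⟩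
  rcases lt_or_gt_of_ne hij with h | h
  · simp [hij, hij.symm, h, h.not_gt]
  · simp only [hij, hij.symm, h, h.not_gt, if_false, if_true]
    by_cases hn : P.pairingIn ℤ i j = 0
    · rw [hn, pairingIn_comm_zero hn, hd i hi j hj hij hn]; ring
    · linarith [hc i hi j hj hij hn]

end Groth.L24.RootD
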