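import Groth.Agent.L24.RootD.Levi
import Groth.Agent.L24.RootD.Exists
import Groth.Agent.L24.RootD.Present
import Groth.Agent.L24.RootD.Lengths

/-!
The root bijection of a p-morphism of reduced root data.
-/

set_option autoImplicit false
set_option linter.unusedSectionVars false

open Function Set RootPairing
open Submodule (span)

namespace Groth.L24.RootD

variable {ι M N ι' M' N' : Type*} [AddCommGroup M] [AddCommGroup N] [AddCommGroup M'] [AddCommGroup N']
  {P : RootPairing ι ℤ M N} {P' : RootPairing ι' ℤ M' N'} [Finite ι] [Finite ι']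

/-- The data of a p-morphism, with only the positivity of the exponents. -/
structure PMor (P : RootPairing ι ℤ M N) (P' : RootPairing ι' ℤ M' N') where
  f : M' →ₗ[ℤ] M
  g : N →ₗ[ℤ] N'
  hfg : ∀ (m' : M') (n : N), P.toLinearMap (f m') n = P'.toLinearMap m' (g n)
  u : ι ≃ ι'
  q : ι → ℕ
  q_pos : ∀ i, 0 < q i
  hroot : ∀ i : ι, f (P'.root (u i)) = (q i : ℤ) • P.root i
  hcoroot : ∀ i : ι, g (P.coroot i) = (q i : ℤ) • P'.coroot (u i)

namespace PMor

variable (φ : PMor P P')

theorem coroot'_f (i : ι) (x : M') : P.coroot' i (φ.f x) = (φ.q i : ℤ) * P'.coroot' (φ.u i) x := by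
  show P.toLinearMap (φ.f x) (P.coroot i) = _
  rw [φ.hfg, φ.hcoroot, map_zsmul, smul_eq_mul]
  rfl

theorem pairing_rel (i j : ι) :
    (φ.q j : ℤ) * P.pairing j i = (φ.q i : ℤ) * P'.pairing (φ.u j) (φ.u i) := by
  have h := φ.coroot'_f i (P'.root (φ.u j))
  rw [φ.hroot, map_zsmul, root_coroot'_eq_pairing, root_coroot'_eq_pairing, smul_eq_mul] at h
  exact h

theorem perm [P.IsReduced] (i j : ι) :
    φ.q (P.reflectionPerm i j) = φ.q j ∧
      φ.u (P.reflectionPerm i j) = P'.reflectionPerm (φ.u i) (φ.u j) := by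
  obtain ⟨k, hk⟩ : ∃ k, φ.u k = P'.reflectionPerm (φ.u i) (φ.u j) := ⟨_, φ.u.apply_symm_apply _⟩
  have h := φ.hroot k
  rw [hk, P'.root_reflectionPerm, P'.reflection_apply, root_coroot'_eq_pairing, map_sub, map_zsmul,
    φ.hroot, φ.hroot, smul_smul, mul_comm, ← φ.pairing_rel, ← smul_smul, ← smul_sub,
    ← root_coroot'_eq_pairing, ← P.reflection_apply, ← P.root_reflectionPerm] at h
  have := torsionFree_M P
  have hq1 : (0 : ℤ) < φ.q j := by exact_mod_cast φ.q_pos j
  have hq2 : (0 : ℤ) < φ.q k := by exact_mod_cast φ.q_pos k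
  have hdep : ¬ LinearIndependent ℤ ![P.root (P.reflectionPerm i j), P.root k] := fun hl => by
    have h2 := (LinearIndependent.pair_iff.1 hl) (φ.q j) (-(φ.q k : ℤ))
      (by rw [neg_smul, h, add_neg_cancel])
    exact hq1.ne' h2.1
  rcases IsReduced.eq_or_eq_neg _ _ hdep with e | e
  · rw [← e] at h
    rw [P.root.injective e, hk]
    refine ⟨?_, rfl⟩
    have := root_zsmul_injective h
    exact_mod_cast this.symm
  · rw [e, smul_neg, ← sub_eq_zero, ← neg_add', neg_eq_zero, ← add_smul] at h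
    exact absurd ((smul_eq_zero.1 h).resolve_right (P.ne_zero k)) (by omega)

theorem q_smul [P.IsReduced] {w : P.Aut} (hw : w ∈ P.weylGroup) (i : ι) : φ.q (w • i) = φ.q i := by
  induction hw using Subgroup.closure_induction generalizing i with
  | mem x hx => obtain ⟨k, rfl⟩ := hx; exact (φ.perm k i).1
  | one => rw [one_smul]
  | mul x y _ _ hx hy => rw [mul_smul, hx, hy]
  | inv x _ hx => conv_rhs => rw [← smul_inv_smul x i, hx]

theorem exists_fwd [P.IsReduced] (w : P.weylGroup) :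
    ∃ w' : P'.weylGroup, ∀ i, φ.u ((w : P.Aut) • i) = (w' : P'.Aut) • φ.u i := by
  obtain ⟨w, hw⟩ := w
  induction hw using Subgroup.closure_induction with
  | mem x hx =>
    obtain ⟨k, rfl⟩ := hx
    exact ⟨RootPairing.weylGroup.ofIdx P' (φ.u k), fun i => (φ.perm k i).2⟩
  | one => exact ⟨1, fun i => by simp⟩
  | mul x y _ _ hx hy =>
    obtain ⟨a, ha⟩ := hx
    obtain ⟨b, hb⟩ := hy
    exact ⟨a * b, fun i => by
      show φ.u ((x * y) • i) = ((a : P'.Aut) * b) • φ.u i
      rw [mul_smul, mul_smul, ← hb i]; exact ha (y • i)⟩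
  | inv x _ hx =>
    obtain ⟨a, ha⟩ := hx
    exact ⟨a⁻¹, fun i => by
      show φ.u (x⁻¹ • i) = (a : P'.Aut)⁻¹ • φ.u i
      rw [eq_inv_smul_iff, ← ha]
      show φ.u (x • x⁻¹ • i) = φ.u i
      rw [smul_inv_smul]⟩

theorem exists_bwd [P.IsReduced] (w' : P'.weylGroup) :
    ∃ w : P.weylGroup, ∀ i, φ.u ((w : P.Aut) • i) = (w' : P'.Aut) • φ.u i := by
  obtain ⟨w', hw⟩ := w'
  induction hw using Subgroup.closure_induction with
  | mem x hx =>
    obtain ⟨k, rfl⟩ := hx
    refine ⟨RootPairing.weylGroup.ofIdx P (φ.u.symm k), fun i => ?_⟩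
    refine (φ.perm (φ.u.symm k) i).2.trans ?_
    rw [φ.u.apply_symm_apply]
    rfl
  | one => exact ⟨1, fun i => by simp⟩
  | mul x y _ _ hx hy =>
    obtain ⟨a, ha⟩ := hx
    obtain ⟨b, hb⟩ := hy
    exact ⟨a * b, fun i => by
      show φ.u (((a : P.Aut) * b) • i) = (x * y) • φ.u i
      rw [mul_smul, mul_smul, ← hb i]; exact ha ((b : P.Aut) • i)⟩
  | inv x _ hx =>
    obtain ⟨a, ha⟩ := hx
    exact ⟨a⁻¹, fun i => by
      show φ.u ((a : P.Aut)⁻¹ • i) = x⁻¹ • φ.u i
      rw [eq_inv_smul_iff]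
      refine (ha _).symm.trans ?_
      rw [smul_inv_smul]⟩

theorem weyl_ext {a b : P.weylGroup} (h : ∀ i : ι, (a : P.Aut) • i = (b : P.Aut) • i) : a = b :=
  weylGroupToPerm_inj (_root_.Equiv.ext h)

theorem exists_ubar [P.IsReduced] : ∃ ubar : P.weylGroup ≃* P'.weylGroup,
    (∀ i : ι, ubar (RootPairing.weylGroup.ofIdx P i) = RootPairing.weylGroup.ofIdx P' (φ.u i)) ∧
    ∀ (w : P.weylGroup) (i : ι), φ.u ((w : P.Aut) • i) = ((ubar w : P'.weylGroup) : P'.Aut) • φ.u i := by
  choose F hF using φ.exists_fwd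
  choose G hG using φ.exists_bwd
  have hext : ∀ {a b : P'.weylGroup}, (∀ i : ι, (a : P'.Aut) • φ.u i = (b : P'.Aut) • φ.u i) → a = b :=
    fun h => weylGroupToPerm_inj (_root_.Equiv.ext fun j => by
      have := h (φ.u.symm j); rwa [φ.u.apply_symm_apply] at this)
  refine ⟨{ toFun := F, invFun := G,
            left_inv := fun w => weyl_ext fun i => φ.u.injective (by rw [hG, hF])
            right_inv := fun w' => hext fun i => by rw [← hF, hG]
            map_mul' := fun a b => hext fun i => by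
              rw [← hF]
              show φ.u (((a : P.Aut) * b) • i) = ((F a : P'.Aut) * F b) • φ.u i
              rw [mul_smul, mul_smul, hF, hF] }, fun i => hext fun j => ?_, hF⟩
  refine ((hF _ j).symm.trans ?_)
  exact (φ.perm i j).2

theorem f_injOn {x : M'} (hx : x ∈ P'.rootSpan ℤ) (h : φ.f x = 0) : x = 0 := by
  refine eq_zero_of_mem_rootSpan hx fun j => ?_
  have h2 := φ.coroot'_f (φ.u.symm j) x
  rw [h, map_zero, φ.u.apply_symm_apply] at h2
  have hq : (φ.q (φ.u.symm j) : ℤ) ≠ 0 := by exact_mod_cast (φ.q_pos _).ne'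
  exact (mul_eq_zero.1 h2.symm).resolve_left hq

theorem exists_dvd : ∃ (Q : ℕ) (D : ι → ℕ), 0 < Q ∧ ∀ i, Q = φ.q i * D i := by
  classical
  have : Fintype ι := Fintype.ofFinite ι
  refine ⟨∏ i, φ.q i, fun i => ∏ j ∈ Finset.univ.erase i, φ.q j, Finset.prod_pos fun i _ => φ.q_pos i, fun i => ?_⟩
  exact (Finset.mul_prod_erase _ _ (Finset.mem_univ i)).symm

theorem isPosSys_fwd [P.IsReduced] {S : Set ι} (hS : _root_.RootD.IsPosSys P S) :
    _root_.RootD.IsPosSys P' (φ.u '' S) := by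
  refine ⟨?_, fun j => ?_, fun k n hn hk => ?_⟩
  · rintro - ⟨i, hi, rfl⟩
    rw [← (φ.perm i i).2, φ.u.injective.mem_set_image]
    exact hS.disjoint hi
  · obtain ⟨i, rfl⟩ := φ.u.surjective j
    rw [← (φ.perm i i).2, φ.u.injective.mem_set_image, φ.u.injective.mem_set_image]
    exact hS.cover i
  · obtain ⟨i, rfl⟩ := φ.u.surjective k
    rw [φ.u.injective.mem_set_image]
    have hle : _root_.RootD.natSpan P' (φ.u '' S) ≤
        (_root_.RootD.natSpan P S).comap φ.f.toAddMonoidHom := by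
      rw [_root_.RootD.natSpan, AddSubmonoid.closure_le]
      rintro - ⟨-, ⟨a, ha, rfl⟩, rfl⟩
      show φ.f (P'.root (φ.u a)) ∈ _root_.RootD.natSpan P S
      rw [φ.hroot, natCast_zsmul]
      exact nsmul_mem (root_mem_natSpan ha) _
    have h2 : φ.f (n • P'.root (φ.u i)) ∈ _root_.RootD.natSpan P S := hle hk
    rw [map_nsmul, φ.hroot, natCast_zsmul, smul_smul] at h2
    exact hS.sat _ (Nat.mul_pos hn (φ.q_pos i)) h2

theorem isPosSys_bwd [P.IsReduced] {S : Set ι} (hS : _root_.RootD.IsPosSys P' (φ.u '' S)) :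
    _root_.RootD.IsPosSys P S := by
  refine ⟨fun i hi h => ?_, fun i => ?_, fun k n hn hk => ?_⟩
  · refine hS.disjoint (Set.mem_image_of_mem _ hi) ?_
    rw [← (φ.perm i i).2]
    exact Set.mem_image_of_mem _ h
  · have h := hS.cover (φ.u i)
    rwa [← (φ.perm i i).2, φ.u.injective.mem_set_image, φ.u.injective.mem_set_image] at h
  · obtain ⟨Q, D, hQ, hD⟩ := φ.exists_dvd
    have key : ∀ x ∈ _root_.RootD.natSpan P S,
        ∃ y ∈ _root_.RootD.natSpan P' (φ.u '' S), φ.f y = Q • x := by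
      intro x hx
      induction hx using AddSubmonoid.closure_induction with
      | mem x hx =>
        obtain ⟨i, hi, rfl⟩ := hx
        refine ⟨D i • P'.root (φ.u i), nsmul_mem (root_mem_natSpan (Set.mem_image_of_mem _ hi)) _, ?_⟩
        rw [map_nsmul, φ.hroot, natCast_zsmul, smul_smul, mul_comm, ← hD]
      | zero => exact ⟨0, zero_mem _, by simp⟩
      | add a b _ _ ha hb =>
        obtain ⟨y, hy, hy'⟩ := ha
        obtain ⟨z, hz, hz'⟩ := hb
        exact ⟨y + z, add_mem hy hz, by rw [map_add, hy', hz', smul_add]⟩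
    obtain ⟨y, hy, hy'⟩ := key _ hk
    have e : (D k * n) • P'.root (φ.u k) = y := by
      refine sub_eq_zero.1 (φ.f_injOn (sub_mem (Submodule.smul_of_tower_mem _ _
        (Submodule.subset_span (Set.mem_range_self _)))
        (Submodule.span_mono (Set.image_subset_range _ _) (natSpan_le_span _ hy))) ?_)
      rw [map_sub, map_nsmul, φ.hroot, natCast_zsmul, hy', smul_smul, smul_smul, hD k, sub_eq_zero]
      congr 1
      ring
    have hDk : 0 < D k := Nat.pos_of_ne_zero fun h0 => by rw [hD k, h0, mul_zero] at hQ; omega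
    exact φ.u.injective.mem_set_image.1 (hS.sat _ (Nat.mul_pos hDk hn) (e ▸ hy))

/-- Coefficients of the image of a combination. -/
noncomputable def scale (d : ι' →₀ ℤ) : ι →₀ ℤ :=
  Finsupp.equivFunOnFinite.symm fun i => d (φ.u i) * (φ.q i : ℤ)

theorem scale_apply (d : ι' →₀ ℤ) (i : ι) : φ.scale d i = d (φ.u i) * (φ.q i : ℤ) := by simp [scale]

theorem f_comb (d : ι' →₀ ℤ) : φ.f (comb P' d) = comb P (φ.scale d) := by
  classical
  have : Fintype ι := Fintype.ofFinite ι
  have : Fintype ι' := Fintype.ofFinite ι'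
  simp only [comb, Finsupp.linearCombination_apply]
  rw [Finsupp.sum_fintype d (fun i a => a • P'.root i) (fun i => zero_smul _ _),
    Finsupp.sum_fintype (φ.scale d) (fun i a => a • P.root i) (fun i => zero_smul _ _)]
  simp only [map_sum, map_zsmul, scale_apply]
  rw [← φ.u.sum_comp]
  exact Finset.sum_congr rfl fun i _ => by rw [φ.hroot, smul_smul]

theorem scale_injective {d d' : ι' →₀ ℤ} (h : φ.scale d = φ.scale d') : d = d' := by
  ext j
  obtain ⟨i, rfl⟩ := φ.u.surjective j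
  have h2 := DFunLike.congr_fun h i
  rw [scale_apply, scale_apply] at h2
  exact mul_right_cancel₀ (by exact_mod_cast (φ.q_pos i).ne') h2

theorem scale_support {Δ : Set ι} {d : ι' →₀ ℤ} (hd : ↑d.support ⊆ φ.u '' Δ) :
    ↑(φ.scale d).support ⊆ Δ := by
  intro i hi
  rw [Finset.mem_coe, Finsupp.mem_support_iff, scale_apply] at hi
  exact φ.u.injective.mem_set_image.1 (hd (Finsupp.mem_support_iff.2 (left_ne_zero_of_mul hi)))

theorem linInd_fwd {Δ : Set ι} (h : LinearIndepOn ℤ P.root Δ) :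
    LinearIndepOn ℤ P'.root (φ.u '' Δ) := by
  refine linearIndepOn_iff.2 fun d hd h0 => φ.scale_injective ?_
  refine comb_unique h (φ.scale_support ((Finsupp.mem_supported ℤ d).1 hd))
    (φ.scale_support (by simp)) ?_
  rw [← φ.f_comb, ← φ.f_comb, comb, h0, map_zero]; simp

theorem linInd_bwd {Δ : Set ι} (h : LinearIndepOn ℤ P'.root (φ.u '' Δ)) :
    LinearIndepOn ℤ P.root Δ := by
  classical
  obtain ⟨Q, D, hQ, hD⟩ := φ.exists_dvd
  refine linearIndepOn_iff.2 fun c hc h0 => ?_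
  let d : ι' →₀ ℤ := Finsupp.equivFunOnFinite.symm fun j => c (φ.u.symm j) * (D (φ.u.symm j) : ℤ)
  have hd : ↑d.support ⊆ φ.u '' Δ := by
    intro j hj
    rw [Finset.mem_coe, Finsupp.mem_support_iff] at hj
    refine ⟨φ.u.symm j, (Finsupp.mem_supported ℤ c).1 hc (Finsupp.mem_support_iff.2 fun e => hj ?_),
      φ.u.apply_symm_apply j⟩
    simp [d, e]
  have hsc : φ.scale d = (Q : ℤ) • c := by
    ext i
    rw [scale_apply, Finsupp.smul_apply, hD i]
    simp [d]; ring
  have h1 : comb P' d = 0 := φ.f_injOn (Submodule.span_mono (Set.image_subset_range _ _)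
    (comb_mem_span hd)) (by rw [φ.f_comb, hsc, comb, map_zsmul, h0, smul_zero])
  have h2 : d = 0 := comb_unique h hd (by simp) (by rw [h1]; simp)
  ext i
  have h3 := DFunLike.congr_fun hsc i
  rw [h2, scale_apply, Finsupp.smul_apply, Finsupp.zero_apply, zero_mul, smul_eq_mul] at h3
  exact (mul_eq_zero.1 h3.symm).resolve_left (by exact_mod_cast hQ.ne')

theorem root_smul_mem_span {κ A B : Type*} [AddCommGroup A] [AddCommGroup B]
    {Q : RootPairing κ ℤ A B} {T : Set κ} {x y : κ} (hx : x ∈ T)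
    (hy : Q.root y ∈ span ℤ (Q.root '' T)) :
    Q.root (Q.reflectionPerm x y) ∈ span ℤ (Q.root '' T) := by
  rw [Q.root_reflectionPerm, Q.reflection_apply]
  exact sub_mem hy (Submodule.smul_mem _ _ (Submodule.subset_span (Set.mem_image_of_mem _ hx)))

theorem isSimple_fwd [P.IsReduced] {Δ : Set ι} (hΔ : IsSimple P Δ) : IsSimple P' (φ.u '' Δ) := by
  refine ⟨φ.linInd_fwd hΔ.linInd, fun j => ?_⟩
  obtain ⟨k, rfl⟩ := φ.u.surjective j
  have hspan : P'.root (φ.u k) ∈ span ℤ (P'.root '' (φ.u '' Δ)) := by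
    obtain ⟨g, hg, a, ha, rfl⟩ := hΔ.exists_conj_simple' (indiv_of_reduced k)
    obtain ⟨l, hl, rfl⟩ := exists_word hg
    clear hg
    induction l with
    | nil => rw [wd_nil, one_smul]; exact Submodule.subset_span ⟨_, ⟨a, ha, rfl⟩, rfl⟩
    | cons x t ih =>
      rw [wd_cons, mul_smul, reflection_smul_idx, (φ.perm _ _).2]
      exact root_smul_mem_span (Set.mem_image_of_mem _ (hl x List.mem_cons_self))
        (ih fun y hy => hl y (List.mem_cons_of_mem _ hy))
  obtain ⟨d, hd, hdk⟩ := exists_comb_of_mem_span hspan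
  obtain ⟨c, hc, hck, hsign⟩ := hΔ.exists_comb k
  have he : φ.scale d = (φ.q k : ℤ) • c := by
    refine hΔ.comb_eq (φ.scale_support hd) ((Finset.coe_subset.2 Finsupp.support_smul).trans hc) ?_
    rw [← φ.f_comb, hdk, φ.hroot, comb, map_zsmul, ← comb, hck]
  have hco : ∀ i, d (φ.u i) * (φ.q i : ℤ) = (φ.q k : ℤ) * c i := fun i => by
    rw [← φ.scale_apply, he, Finsupp.smul_apply, smul_eq_mul]
  have hq : ∀ i, (0 : ℤ) < φ.q i := fun i => by exact_mod_cast φ.q_pos i
  rcases hsign with hs | hs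
  · left; rw [← hdk]
    refine comb_mem_natSpan hd fun j => ?_
    obtain ⟨i, rfl⟩ := φ.u.surjective j
    exact nonneg_of_mul_nonneg_left (by rw [hco]; exact mul_nonneg (hq k).le (hs i)) (hq i)
  · right; rw [← hdk, comb, ← map_neg]
    refine comb_mem_natSpan (by simpa using hd) fun j => ?_
    obtain ⟨i, rfl⟩ := φ.u.surjective j
    show (0 : ℤ) ≤ (-d) (φ.u i)
    refine nonneg_of_mul_nonneg_left ?_ (hq i)
    rw [Finsupp.neg_apply, neg_mul, hco, neg_nonneg]
    exact mul_nonpos_of_nonneg_of_nonpos (hq k).le (hs i)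

theorem isSimple_bwd [P.IsReduced] [P'.IsReduced] {Δ : Set ι} (hΔ' : IsSimple P' (φ.u '' Δ)) :
    IsSimple P Δ := by
  refine ⟨φ.linInd_bwd hΔ'.linInd, fun k => ?_⟩
  have hspan : P.root k ∈ span ℤ (P.root '' Δ) := by
    obtain ⟨g, hg, -, ⟨a, ha, rfl⟩, hga⟩ := hΔ'.exists_conj_simple' (indiv_of_reduced (φ.u k))
    obtain ⟨l, hl, rfl⟩ := exists_word hg
    clear hg
    induction l generalizing k with
    | nil =>
      rw [wd_nil, one_smul] at hga
      rw [← φ.u.injective hga]; exact Submodule.subset_span ⟨a, ha, rfl⟩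
    | cons x t ih =>
      obtain ⟨y, hy, rfl⟩ := hl x List.mem_cons_self
      rw [wd_cons, mul_smul, reflection_smul_idx] at hga
      obtain ⟨k', hk'⟩ := φ.u.surjective (wd P' t • φ.u a)
      rw [← hk', ← (φ.perm y k').2] at hga
      rw [← φ.u.injective hga]
      exact root_smul_mem_span hy (ih k' (fun z hz => hl z (List.mem_cons_of_mem _ hz)) hk'.symm)
  obtain ⟨c, hc, hck⟩ := exists_comb_of_mem_span hspan
  obtain ⟨d, hd, hdk, hsign⟩ := hΔ'.exists_comb (φ.u k)
  have he : φ.scale d = (φ.q k : ℤ) • c := by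
    refine comb_unique (φ.linInd_bwd hΔ'.linInd) (φ.scale_support hd) ((Finset.coe_subset.2 Finsupp.support_smul).trans hc) ?_
    rw [← φ.f_comb, hdk, φ.hroot, comb, map_zsmul, ← comb, hck]
  have hco : ∀ i, (φ.q k : ℤ) * c i = d (φ.u i) * (φ.q i : ℤ) := fun i => by
    rw [← φ.scale_apply, he, Finsupp.smul_apply, smul_eq_mul]
  have hq : ∀ i, (0 : ℤ) < φ.q i := fun i => by exact_mod_cast φ.q_pos i
  rcases hsign with hs | hs
  · left; rw [← hck]
    exact comb_mem_natSpan hc fun i =>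
      nonneg_of_mul_nonneg_right (by rw [hco]; exact mul_nonneg (hs _) (hq i).le) (hq k)
  · right; rw [← hck, comb, ← map_neg]
    refine comb_mem_natSpan (by simpa using hc) fun i => ?_
    refine nonneg_of_mul_nonneg_right ?_ (hq k)
    rw [Finsupp.neg_apply, mul_neg, hco, neg_nonneg]
    exact mul_nonpos_of_nonpos_of_nonneg (hs _) (hq i).le

end PMor

end Groth.L24.RootD
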