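import Groth.Agent.L24.RootD.CoSimple
import Groth.Agent.L24.RootD.Pmorph

/-!
Divisibility and proportionality of lengths.
-/

set_option autoImplicit false
set_option linter.unusedSectionVars false

open Function Set RootPairing
open Submodule (span)

namespace Groth.L24.RootD

variable {ι M N : Type*} [AddCommGroup M] [AddCommGroup N] {P : RootPairing ι ℤ M N} [Finite ι] [Fintype ι]
  {Δ : Set ι}

theorem ell_dvd (hΔ : IsSimple P Δ) {k i : ι} {c : ι →₀ ℤ} (hc : ↑c.support ⊆ Δ)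
    (hck : comb P c = P.root k) (hi : i ∈ Δ) :
    ell P k ∣ 2 * c i * ell P i ∧
      (_root_.RootD.IsIndiv P.flip i → 2 * ell P k ∣ 2 * c i * ell P i) := by
  classical
  set Δ' := {j : ι | ∃ i ∈ Δ, (j = i ∧ _root_.RootD.IsIndiv P.flip i) ∨
      (2 : ℤ) • P.coroot j = P.coroot i} with hΔ'
  let K : Submodule ℤ N :=
    { carrier := {x | ∃ e : ι → ℤ, (∀ a, a ∉ Δ → e a = 0) ∧ (2 : ℤ) • x = ∑ a, e a • P.coroot a ∧
        (_root_.RootD.IsIndiv P.flip i → 2 ∣ e i)}
      zero_mem' := ⟨0, fun _ _ => rfl, by simp, fun _ => dvd_zero 2⟩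
      add_mem' := by
        rintro x y ⟨e, he, hex, hei⟩ ⟨e', he', hey, hei'⟩
        exact ⟨e + e', fun a ha => by simp [he a ha, he' a ha],
          by simp [smul_add, hex, hey, add_smul, Finset.sum_add_distrib], fun h => dvd_add (hei h) (hei' h)⟩
      smul_mem' := by
        rintro z x ⟨e, he, hex, hei⟩
        exact ⟨z • e, fun a ha => by simp [he a ha],
          by rw [smul_comm, hex, Finset.smul_sum]; simp [smul_smul], fun h => dvd_mul_of_dvd_right (hei h) z⟩ }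
  have hK : span ℤ (P.coroot '' Δ') ≤ K := by
    rw [Submodule.span_le]
    rintro - ⟨j, ⟨a, ha, ⟨rfl, hind⟩ | h⟩, rfl⟩
    · refine ⟨Pi.single j 2, fun b hb => Pi.single_eq_of_ne (fun e : b = j => hb (e ▸ ha)) _, ?_, fun _ => ?_⟩
      · rw [Finset.sum_eq_single j (fun b _ hb => by rw [Pi.single_eq_of_ne hb, zero_smul]) (by simp),
          Pi.single_eq_same]
      · by_cases e : i = j
        · subst e; rw [Pi.single_eq_same]
        · rw [Pi.single_eq_of_ne e]; exact dvd_zero 2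
    · refine ⟨Pi.single a 1, fun b hb => Pi.single_eq_of_ne (fun e : b = a => hb (e ▸ ha)) _, ?_, fun hind => ?_⟩
      · rw [h, Finset.sum_eq_single a (fun b _ hb => by rw [Pi.single_eq_of_ne hb, zero_smul]) (by simp),
          Pi.single_eq_same, one_smul]
      · by_cases e : i = a
        · subst e; exact absurd h (hind j)
        · rw [Pi.single_eq_of_ne e]; exact dvd_zero 2
  have hk : P.coroot k ∈ span ℤ (P.coroot '' Δ') := by
    rcases (isSimple_coroots hΔ).mem_or k with h | h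
    · exact natSpan_le_span (P := P.flip) _ h
    · have h2 := natSpan_le_span (P := P.flip) _ h
      simpa using (Submodule.neg_mem _ h2 : -(-P.coroot k) ∈ span ℤ (P.coroot '' Δ'))
  obtain ⟨e, he, hek, hei⟩ := hK hk
  have hsum : ell P k • P.coroot k = ∑ a, (c a * ell P a) • P.coroot a := by
    rw [ell_smul_coroot, ← hck, comb, Finsupp.linearCombination_apply,
      Finsupp.sum_fintype c (fun j a => a • P.root j) (fun j => zero_smul _ _), map_sum, Finset.smul_sum]
    exact Finset.sum_congr rfl fun a _ => by rw [map_zsmul, smul_comm, ← ell_smul_coroot, smul_smul]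
  have h2 := coroot_linIndep hΔ (fun a => ell P k * e a - 2 * (c a * ell P a)) (fun a ha => by
    rw [he a ha, Finsupp.notMem_support_iff.1 fun h => ha (hc h)]; ring) (by
    simp only [sub_smul, Finset.sum_sub_distrib, mul_smul (ell P k), mul_smul (2 : ℤ), ← Finset.smul_sum]
    rw [← hek, ← hsum, smul_comm]
    exact sub_self _)
  have h3 : ell P k * e i = 2 * (c i * ell P i) := sub_eq_zero.1 (congrFun h2 i)
  refine ⟨⟨e i, by rw [h3]; ring⟩, fun hind => ?_⟩
  obtain ⟨w, hw⟩ := hei hind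
  exact ⟨w, by rw [mul_assoc 2 (c i), ← h3, hw]; ring⟩

theorem Irr.ell_min_dvd (h : Irr P) {i₀ : ι} (hmin : ∀ i, ell P i₀ ≤ ell P i) (i : ι) :
    ell P i₀ ∣ ell P i := by
  obtain ⟨j, hne, hl, -⟩ := h.exists_ell_eq_not_orth i i₀
  have h2 := ell_swap (P := P) i j
  have h1 := pairing_cases (P := P) i j
  simp only [Set.mem_insert_iff, Set.mem_singleton_iff, Prod.mk.injEq] at h1
  have := hmin i
  have := ell_pos (P := P) i₀
  have : ∃ m : ℤ, ell P i = m * ell P i₀ := by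
    have : ell P i = ell P i₀ ∨ ell P i = 2 * ell P i₀ ∨ ell P i = 3 * ell P i₀ ∨ ell P i = 4 * ell P i₀ := by
      rcases h1 with ⟨a, b⟩ | ⟨a, b⟩ | ⟨a, b⟩ | ⟨a, b⟩ | ⟨a, b⟩ | ⟨a, b⟩ | ⟨a, b⟩ | ⟨a, b⟩ | ⟨a, b⟩ |
        ⟨a, b⟩ | ⟨a, b⟩ | ⟨a, b⟩ | ⟨a, b⟩ | ⟨a, b⟩ | ⟨a, b⟩ | ⟨a, b⟩ | ⟨a, b⟩ <;>
        first
        | exact absurd a hne
        | (rw [a, b] at h2; omega)
    rcases this with e | e | e | e
    exacts [⟨1, by rw [e, one_mul]⟩, ⟨2, e⟩, ⟨3, e⟩, ⟨4, e⟩]
  obtain ⟨m, hm⟩ := this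
  exact ⟨m, by rw [hm, mul_comm]⟩

theorem PMor.ratio_const {ι' M' N' : Type*} [AddCommGroup M'] [AddCommGroup N']
    {P' : RootPairing ι' ℤ M' N'} [Fintype ι'] (φ : PMor P P') (h : Irr P) (i j : ι) :
    ((φ.q i : ℤ) ^ 2 * ell P i) * ell P' (φ.u j) = ((φ.q j : ℤ) ^ 2 * ell P j) * ell P' (φ.u i) := by
  induction h.connected i j with
  | refl => rfl
  | @tail a b _ hab ih =>
    have hn : P.pairing a b ≠ 0 := fun e => hab (isOrthogonal_iff_int.2 e)
    have h1 := φ.pairing_rel a b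
    have h2 := φ.pairing_rel b a
    have h3 := ell_swap (P := P) a b
    have h4 := ell_swap (P := P') (φ.u a) (φ.u b)
    have hqa : (φ.q a : ℤ) ≠ 0 := by exact_mod_cast (φ.q_pos a).ne'
    have hqb : (φ.q b : ℤ) ≠ 0 := by exact_mod_cast (φ.q_pos b).ne'
    have hn' : P.pairing b a ≠ 0 := fun e => hn ((pairing_eq_zero_iff' (P := P)).1 e)
    have key : ((φ.q a : ℤ) ^ 2 * ell P a) * ell P' (φ.u b) = ((φ.q b : ℤ) ^ 2 * ell P b) * ell P' (φ.u a) := by
      apply mul_left_cancel₀ hn'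
      linear_combination ((φ.q a : ℤ) ^ 2 * ell P' (φ.u b)) * h3 +
        ((φ.q a : ℤ) * ell P b * ell P' (φ.u b)) * h2 -
        ((φ.q a : ℤ) * (φ.q b : ℤ) * ell P b) * h4 - ((φ.q b : ℤ) * ell P b * ell P' (φ.u a)) * h1
    have hpos : ell P' (φ.u a) ≠ 0 := (ell_pos (P := P') _).ne'
    apply mul_left_cancel₀ hpos
    linear_combination ell P' (φ.u b) * ih + ell P' (φ.u i) * key

end Groth.L24.RootD
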