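import Mathlib.LinearAlgebra.RootSystem.Base
import Mathlib.LinearAlgebra.RootSystem.Irreducible
import Mathlib.LinearAlgebra.QuadraticForm.Basic

/-!
# Quadratic forms invariant under the reflections of a root pairing
-/

set_option autoImplicit false

universe u v w x

namespace Groth.L24.RootD

open Submodule

variable {ι : Type u} {R : Type v} {M : Type w} {N : Type x} [CommRing R]
  [AddCommGroup M] [Module R M] [AddCommGroup N] [Module R N] {P : RootPairing ι R M N}

theorem apply_coreflection (Q : QuadraticMap R N R) (i : ι) (y : N) :
    Q (P.coreflection i y) = Q y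
      - P.root' i y * (QuadraticMap.polar Q y (P.coroot i) - P.root' i y * Q (P.coroot i)) := by
  have h : P.coreflection i y = y + (-P.root' i y) • P.coroot i := by
    rw [RootPairing.coreflection_apply, neg_smul, ← sub_eq_add_neg]
  rw [h, QuadraticMap.map_add Q, QuadraticMap.map_smul, QuadraticMap.polar_smul_right, smul_eq_mul,
    smul_eq_mul]
  ring

theorem root'_self (i : ι) : P.root' i (P.coroot i) = 2 := by
  rw [RootPairing.root'_coroot_eq_pairing, RootPairing.pairing_same]

variable [IsDomain R] [CharZero R]

/-- A form is invariant under a reflection on a submodule containing the coroot if and only if its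
polar with the coroot is proportional to the root. -/
theorem inv_iff (Q : QuadraticMap R N R) (i : ι) (D : Submodule R N) (hi : P.coroot i ∈ D) :
    (∀ y ∈ D, Q (P.coreflection i y) = Q y) ↔
      ∀ y ∈ D, QuadraticMap.polar Q y (P.coroot i) = P.root' i y * Q (P.coroot i) := by
  refine ⟨fun h y hy => ?_, fun h y hy => by rw [apply_coreflection, h y hy]; ring⟩
  have key : ∀ z ∈ D, P.root' i z = 0 ∨
      QuadraticMap.polar Q z (P.coroot i) - P.root' i z * Q (P.coroot i) = 0 := fun z hz => by
    have h1 := apply_coreflection (P := P) Q i z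
    rw [h z hz] at h1
    exact mul_eq_zero.1 (sub_eq_self.1 h1.symm)
  rcases key y hy with h0 | h0
  · have h2 : P.root' i (y + P.coroot i) = 2 := by rw [map_add, h0, root'_self, zero_add]
    have h3 := (key _ (D.add_mem hy hi)).resolve_left (by rw [h2]; norm_num)
    rw [QuadraticMap.polar_add_left, h2, QuadraticMap.polar_self, h0, two_smul] at *
    rw [zero_mul]
    linear_combination h3
  · exact sub_eq_zero.1 h0

theorem inv_iff' (Q : QuadraticMap R N R) (i : ι) :
    (∀ y, Q (P.coreflection i y) = Q y) ↔
      ∀ y, QuadraticMap.polar Q y (P.coroot i) = P.root' i y * Q (P.coroot i) :=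
  ⟨fun h y => (inv_iff Q i ⊤ trivial).1 (fun z _ => h z) y trivial,
    fun h y => (inv_iff Q i ⊤ trivial).2 (fun z _ => h z) y trivial⟩

end Groth.L24.RootD
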