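import Groth.Agent.L24.RootD.Lengths
import Mathlib.GroupTheory.FiniteAbelian.Basic
import Mathlib.LinearAlgebra.Dimension.RankNullity
import Mathlib.LinearAlgebra.Dimension.Localization
import Mathlib.LinearAlgebra.Dual.Lemmas
import Mathlib.LinearAlgebra.FreeModule.PID

/-!
Radical and coradical of a root datum.
-/

set_option autoImplicit false
set_option linter.unusedSectionVars false

open Function Set RootPairing
open Submodule (span)
open Module (finrank)

namespace Groth.L24.RootD

variable {ι M N : Type*} [AddCommGroup M] [AddCommGroup N] {P : RootPairing ι ℤ M N}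

section

variable [Fintype ι]

theorem ker_polarization : LinearMap.ker P.Polarization =
    (⨅ i : ι, LinearMap.ker (P.coroot' i) : Submodule ℤ M) := by
  ext x
  simp only [LinearMap.mem_ker, Submodule.mem_iInf]
  constructor
  · intro h i
    have h0 : P.RootForm x x = 0 := by
      rw [(P.polarization_apply_eq_zero_iff x).1 h]
      rfl
    rw [rootForm_apply_apply, Finset.sum_eq_zero_iff_of_nonneg (fun j _ => mul_self_nonneg _)] at h0
    exact mul_self_eq_zero.1 (h0 i (Finset.mem_univ i))
  · intro h
    rw [Polarization_apply]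
    exact Finset.sum_eq_zero fun i _ => by rw [h i, zero_smul]

variable [Module.Finite ℤ M] [Module.Finite ℤ N]

theorem finrank_range_polarization :
    finrank ℤ (LinearMap.range P.Polarization) = finrank ℤ (span ℤ (Set.range P.root)) := by
  have h1 : LinearMap.range P.Polarization ≤ P.corootSpan ℤ := by
    rintro - ⟨x, rfl⟩
    rw [Polarization_apply]
    exact Submodule.sum_smul_mem _ _ fun i _ => Submodule.subset_span (Set.mem_range_self i)
  have h2 : finrank ℤ (LinearMap.range P.Polarization) ≤ finrank ℤ (P.corootSpan ℤ) :=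
    Submodule.finrank_mono h1
  have h3 := P.finrank_rootSpan_map_polarization_eq_finrank_corootSpan
  have h4 : finrank ℤ ((P.rootSpan ℤ).map P.Polarization) ≤
      finrank ℤ (LinearMap.range P.Polarization) := Submodule.finrank_mono LinearMap.map_le_range
  have h5 := P.finrank_corootSpan_eq'
  simp only [RootPairing.rootSpan] at *
  omega

theorem finrank_coradical :
    finrank ℤ (⨅ i : ι, LinearMap.ker (P.coroot' i) : Submodule ℤ M) +
      finrank ℤ (span ℤ (Set.range P.root)) = finrank ℤ M := by
  rw [← ker_polarization, ← finrank_range_polarization,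
    ← (LinearMap.ker P.Polarization).finrank_quotient_add_finrank,
    LinearEquiv.finrank_eq P.Polarization.quotKerEquivRange, add_comm]

theorem finrank_dual_eq (P : RootPairing ι ℤ M N) : finrank ℤ M = finrank ℤ N := by
  have : Module.IsReflexive ℤ N := .of_isPerfPair P.flip.toLinearMap
  rw [P.toPerfPair.finrank_eq]
  exact (Module.Free.chooseBasis ℤ N).toDualEquiv.finrank_eq.symm

theorem finrank_radical :
    finrank ℤ (⨅ i : ι, LinearMap.ker (P.root' i) : Submodule ℤ N) +
      finrank ℤ (span ℤ (Set.range P.root)) = finrank ℤ M := by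
  rw [finrank_dual_eq P]
  have h := finrank_coradical (P := P.flip)
  have h5 := P.finrank_corootSpan_eq'
  simp only [RootPairing.rootSpan, RootPairing.corootSpan] at *
  rw [← h5]
  exact h

theorem semisimple_iff :
    finrank ℤ (span ℤ (Set.range P.root)) = finrank ℤ M ↔
      (⨅ i : ι, LinearMap.ker (P.coroot' i) : Submodule ℤ M) = ⊥ := by
  have : Module.IsReflexive ℤ M := .of_isPerfPair P.toLinearMap
  rw [← Submodule.finrank_eq_zero (R := ℤ)]
  have := finrank_coradical (P := P)
  omega

theorem semisimple_iff' :
    finrank ℤ (span ℤ (Set.range P.root)) = finrank ℤ M ↔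
      (⨅ i : ι, LinearMap.ker (P.root' i) : Submodule ℤ N) = ⊥ := by
  have : Module.IsReflexive ℤ N := .of_isPerfPair P.flip.toLinearMap
  rw [← Submodule.finrank_eq_zero (R := ℤ)]
  have := finrank_radical (P := P)
  omega

theorem finite_quotient_of_full_rank
    (hss : finrank ℤ (span ℤ (Set.range P.root)) = finrank ℤ M) :
    Finite (M ⧸ span ℤ (Set.range P.root)) := by
  refine Module.finite_of_fg_torsion _ fun x => ?_
  have h0 : finrank ℤ (M ⧸ span ℤ (Set.range P.root)) = 0 := by
    have := (span ℤ (Set.range P.root)).finrank_quotient_add_finrank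
    omega
  obtain ⟨a, ha, h⟩ := Module.finrank_eq_zero_iff.1 h0 x
  exact ⟨⟨a, mem_nonZeroDivisors_of_ne_zero ha⟩, h⟩

end

theorem hom_coroot' {ι' M' N' : Type*} [AddCommGroup M'] [AddCommGroup N']
    {P' : RootPairing ι' ℤ M' N'} (f : RootPairing.Hom P' P) (i : ι') (x : M') :
    P.coroot' (f.indexEquiv i) (f.weightMap x) = P'.coroot' i x := by
  have h := LinearMap.congr_fun
    (Hom.weight_coweight_transpose_apply P' P (P.coroot (f.indexEquiv i)) f) x
  rw [Hom.coroot_coweightMap_apply, _root_.Equiv.symm_apply_apply] at h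
  exact h

theorem isogeny_of_semisimple [Finite ι] [Module.Finite ℤ M] [Module.Finite ℤ N]
    {ι' M' N' : Type*} [AddCommGroup M'] [AddCommGroup N'] [Finite ι'] [Module.Finite ℤ M']
    [Module.Finite ℤ N'] {P' : RootPairing ι' ℤ M' N'}
    (hss : finrank ℤ (span ℤ (Set.range P.root)) = finrank ℤ M)
    (hss' : finrank ℤ (span ℤ (Set.range P'.root)) = finrank ℤ M')
    (f : RootPairing.Hom P' P) :
    Function.Injective f.weightMap ∧ Finite (M ⧸ LinearMap.range f.weightMap) := by
  have : Fintype ι := Fintype.ofFinite ι
  have : Fintype ι' := Fintype.ofFinite ι'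
  refine ⟨?_, ?_⟩
  · rw [← LinearMap.ker_eq_bot, eq_bot_iff, ← (semisimple_iff (P := P')).1 hss']
    intro x hx
    simp only [Submodule.mem_iInf, LinearMap.mem_ker] at hx ⊢
    intro i
    rw [← hom_coroot' f, hx, map_zero]
  · have hle : span ℤ (Set.range P.root) ≤ LinearMap.range f.weightMap := by
      rw [Submodule.span_le]
      rintro - ⟨i, rfl⟩
      exact ⟨P'.root (f.indexEquiv.symm i), by
        rw [Hom.root_weightMap_apply, _root_.Equiv.apply_symm_apply]⟩
    have := finite_quotient_of_full_rank hss
    exact Finite.of_surjective (Submodule.factor hle) (Submodule.factor_surjective hle)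

end Groth.L24.RootD
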