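import Groth.Agent.L24.RootD.Closed
import Mathlib.LinearAlgebra.RootSystem.Base

/-!
Indecomposable elements of a system of positive roots and systems of simple roots.
-/

set_option autoImplicit false
set_option linter.unusedSectionVars false

open Function Set RootPairing
open Submodule (span)

namespace Groth.L24.RootD

variable {ι R M N : Type*} [CommRing R] [AddCommGroup M] [Module R M] [AddCommGroup N] [Module R N]
  {P : RootPairing ι R M N}

/-- Systems of simple roots, with linear independence over the integers. -/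
structure IsSimple (P : RootPairing ι R M N) (Δ : Set ι) : Prop where
  linInd : LinearIndepOn ℤ P.root Δ
  mem_or : ∀ i : ι, P.root i ∈ _root_.RootD.natSpan P Δ ∨ -P.root i ∈ _root_.RootD.natSpan P Δ

/-- The indecomposable elements of a set of roots. -/
def simples (P : RootPairing ι R M N) (S : Set ι) : Set ι :=
  {k | k ∈ S ∧ ¬ ∃ i ∈ S, ∃ j ∈ S, P.root k = P.root i + P.root j}

theorem IsSimple.of_isSimpleSys [CharZero R] {Δ : Set ι} (h : _root_.RootD.IsSimpleSys P Δ) :
    IsSimple P Δ :=
  ⟨LinearIndependent.restrict_scalars' ℤ h.linInd, h.mem_or_neg_mem⟩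

theorem IsSimple.isSimpleSys {M' N' : Type*} [AddCommGroup M'] [AddCommGroup N']
    {P' : RootPairing ι ℤ M' N'} {Δ : Set ι} (h : IsSimple P' Δ) :
    _root_.RootD.IsSimpleSys P' Δ :=
  ⟨h.linInd, h.mem_or⟩

theorem isSimpleSys_iff {M' N' : Type*} [AddCommGroup M'] [AddCommGroup N']
    {P' : RootPairing ι ℤ M' N'} {Δ : Set ι} :
    _root_.RootD.IsSimpleSys P' Δ ↔ IsSimple P' Δ :=
  ⟨fun h => ⟨h.linInd, h.mem_or_neg_mem⟩, IsSimple.isSimpleSys⟩

theorem IsSimple.of_base [CharZero R] (b : P.Base) : IsSimple P (b.support : Set ι) :=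
  ⟨LinearIndependent.restrict_scalars' ℤ b.linearIndepOn_root, b.root_mem_or_neg_mem⟩

/-- Integer combinations. -/
noncomputable abbrev comb (P : RootPairing ι R M N) (c : ι →₀ ℤ) : M := Finsupp.linearCombination ℤ P.root c

theorem comb_def (c : ι →₀ ℤ) : comb P c = c.sum fun a z => z • P.root a :=
  Finsupp.linearCombination_apply ℤ c

theorem comb_unique {Δ : Set ι} (hli : LinearIndepOn ℤ P.root Δ) {c d : ι →₀ ℤ}
    (hc : ↑c.support ⊆ Δ) (hd : ↑d.support ⊆ Δ) (h : comb P c = comb P d) : c = d := by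
  classical
  refine sub_eq_zero.1 (linearIndepOn_iff.1 hli (c - d) ?_ (by simp [map_sub, h]))
  rw [Finsupp.mem_supported]
  intro x hx
  rcases Finset.mem_union.1 (Finsupp.support_sub hx) with h' | h'
  · exact hc h'
  · exact hd h'

theorem exists_comb_of_mem_natSpan {Δ : Set ι} {x : M} (h : x ∈ _root_.RootD.natSpan P Δ) :
    ∃ c : ι →₀ ℤ, ↑c.support ⊆ Δ ∧ 0 ≤ c ∧ comb P c = x := by
  classical
  obtain ⟨l, hl, rfl⟩ := mem_natSpan_iff.1 h
  clear h
  induction l using Multiset.induction with
  | empty => exact ⟨0, by simp, le_rfl, by simp [rsum]⟩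
  | cons a l ih =>
    obtain ⟨c, hc, hc0, hcl⟩ := ih fun b hb => hl b (Multiset.mem_cons_of_mem hb)
    refine ⟨Finsupp.single a 1 + c, ?_, add_nonneg (Finsupp.single_nonneg.2 zero_le_one) hc0, ?_⟩
    · intro x hx
      rcases Finset.mem_union.1 (Finsupp.support_add hx) with h' | h'
      · have := Finsupp.support_single_subset h'
        rw [Finset.mem_singleton] at this
        exact this ▸ hl a (Multiset.mem_cons_self _ _)
      · exact hc h'
    · simp [map_add, hcl, rsum]

theorem comb_mem_natSpan {Δ : Set ι} {c : ι →₀ ℤ} (hc : ↑c.support ⊆ Δ) (h0 : 0 ≤ c) :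
    comb P c ∈ _root_.RootD.natSpan P Δ := by
  rw [comb_def]
  refine sum_mem fun a ha => ?_
  obtain ⟨n, hn⟩ := Int.eq_ofNat_of_zero_le (h0 a)
  simp only [hn, natCast_zsmul]
  exact nsmul_mem (root_mem_natSpan (hc ha)) n

theorem exists_comb_of_mem_span {Δ : Set ι} {x : M} (h : x ∈ span ℤ (P.root '' Δ)) :
    ∃ c : ι →₀ ℤ, ↑c.support ⊆ Δ ∧ comb P c = x := by
  obtain ⟨c, hc, hx⟩ := (Finsupp.mem_span_image_iff_linearCombination ℤ).1 h
  exact ⟨c, (Finsupp.mem_supported ℤ c).1 hc, hx⟩

theorem comb_mem_span {Δ : Set ι} {c : ι →₀ ℤ} (hc : ↑c.support ⊆ Δ) :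
    comb P c ∈ span ℤ (P.root '' Δ) :=
  (Finsupp.mem_span_image_iff_linearCombination ℤ).2
    ⟨c, (Finsupp.mem_supported ℤ c).2 hc, rfl⟩

section Cryst

variable [CharZero R] [IsDomain R] [P.IsCrystallographic]

omit [IsDomain R] in
theorem pairingIn_of_root_eq_comb {k j : ι} {c : ι →₀ ℤ} (h : P.root k = comb P c) :
    P.pairingIn ℤ k j = c.sum fun a z => z * P.pairingIn ℤ a j := by
  apply FaithfulSMul.algebraMap_injective ℤ R
  rw [algebraMap_pairingIn, ← root_coroot'_eq_pairing, h, comb_def]
  simp [Finsupp.sum, ← P.algebraMap_pairingIn ℤ, map_sum]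

theorem torsionFree_M (P : RootPairing ι R M N) : IsAddTorsionFree M :=
  have : Module.IsReflexive R M := .of_isPerfPair P.toLinearMap
  .of_isTorsionFree R M

theorem torsionFree_N (P : RootPairing ι R M N) : IsAddTorsionFree N :=
  torsionFree_M P.flip

theorem zsmul_cancel (P : RootPairing ι R M N) {n : ℤ} (hn : n ≠ 0) {x y : M}
    (h : n • x = n • y) : x = y :=
  have := torsionFree_M P
  zsmul_right_injective hn h

omit [P.IsCrystallographic] in
theorem root_zsmul_injective {n m : ℤ} {i : ι} (h : n • P.root i = m • P.root i) : n = m := by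
  have := torsionFree_M P
  exact smul_left_injective ℤ (P.ne_zero i) h

variable [Finite ι]

section simples

variable {S : Set ι}

theorem simples_subset : simples P S ⊆ S := fun _ h => h.1

theorem pairingIn_nonpos_of_mem_simples (hS : _root_.RootD.IsPosSys P S) {i j : ι}
    (hi : i ∈ simples P S) (hj : j ∈ simples P S) (hij : i ≠ j) : P.pairingIn ℤ i j ≤ 0 := by
  by_contra h
  obtain ⟨k, hk⟩ := exists_root_sub (not_le.1 h) hij
  rcases hS.cover k with hk' | hk'
  · exact hi.2 ⟨k, hk', j, hj.1, by rw [hk]; abel⟩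
  · exact hj.2 ⟨i, hi.1, _, hk', by rw [root_neg, hk]; abel⟩

/-- A strict order on a closed set of roots without opposite pairs. -/
theorem wellFounded_lt (hc : _root_.RootD.IsClosedSub P S) (hd : Disj P S) :
    WellFounded fun a b : S =>
      ∃ l : Multiset ι, l ≠ 0 ∧ (∀ x ∈ l, x ∈ S) ∧ P.root b = P.root a + rsum P l := by
  classical
  have hirr : Std.Irrefl fun a b : S =>
      ∃ l : Multiset ι, l ≠ 0 ∧ (∀ x ∈ l, x ∈ S) ∧ P.root b = P.root a + rsum P l := by
    refine ⟨fun a ⟨l, hl, hlS, h⟩ => hl (rsum_eq_zero hc hd l hlS ?_)⟩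
    simpa using h
  have htr : IsTrans S fun a b : S =>
      ∃ l : Multiset ι, l ≠ 0 ∧ (∀ x ∈ l, x ∈ S) ∧ P.root b = P.root a + rsum P l := by
    refine ⟨fun a b c ⟨l, hl, hlS, h⟩ ⟨m, hm, hmS, h'⟩ => ⟨l + m, by simp [hl], ?_, ?_⟩⟩
    · intro x hx
      rcases Multiset.mem_add.1 hx with hx | hx
      · exact hlS x hx
      · exact hmS x hx
    · simp [rsum, h', h, add_assoc]
  exact Finite.wellFounded_of_trans_of_irrefl _

/-- Induction along decompositions in a closed set of roots without opposite pairs. -/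
theorem closed_induction (hc : _root_.RootD.IsClosedSub P S) (hd : Disj P S) {p : ι → Prop}
    (h1 : ∀ k ∈ simples P S, p k)
    (h2 : ∀ i j k, i ∈ S → j ∈ S → k ∈ S → P.root k = P.root i + P.root j → p i → p j → p k)
    {k : ι} (hk : k ∈ S) : p k := by
  suffices ∀ a : S, p a from this ⟨k, hk⟩
  intro a
  induction a using (wellFounded_lt hc hd).induction with
  | _ a ih =>
    by_cases ha : (a : ι) ∈ simples P S
    · exact h1 _ ha
    · obtain ⟨i, hi, j, hj, h⟩ : ∃ i ∈ S, ∃ j ∈ S, P.root a = P.root i + P.root j := by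
        by_contra hh
        exact ha ⟨a.2, hh⟩
      refine h2 i j a hi hj a.2 h (ih ⟨i, hi⟩ ⟨{j}, by simp, by simp [hj], by simp [rsum, h]⟩)
        (ih ⟨j, hj⟩ ⟨{i}, by simp, by simp [hi], by simp [rsum, h, add_comm]⟩)

theorem mem_natSpan_simples (hc : _root_.RootD.IsClosedSub P S) (hd : Disj P S) {k : ι}
    (hk : k ∈ S) : P.root k ∈ _root_.RootD.natSpan P (simples P S) :=
  closed_induction (p := fun k => P.root k ∈ _root_.RootD.natSpan P (simples P S)) hc hd
    (fun _ h => root_mem_natSpan h) (fun _ _ _ _ _ _ h hi hj => h ▸ add_mem hi hj) hk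

theorem form_mem_span (P : RootPairing ι R M N) (c : ι →₀ ℤ) :
    comb P c ∈ span ℤ (Set.range P.root) := by
  rw [← Finsupp.range_linearCombination]
  exact LinearMap.mem_range_self _ c

theorem linearIndepOn_simples (hS : _root_.RootD.IsPosSys P S) :
    LinearIndepOn ℤ P.root (simples P S) := by
  classical
  have : Fintype ι := Fintype.ofFinite ι
  have hc := isClosedSub_of_isPosSys hS
  rw [linearIndepOn_iff]
  intro l hl h0
  rw [Finsupp.mem_supported] at hl
  set A := l.filter fun a => 0 < l a with hA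
  set B := -(l.filter fun a => ¬ 0 < l a) with hB
  have hAB : l = A - B := by rw [hA, hB, sub_neg_eq_add, Finsupp.filter_add_filter_not]
  have hA0 : 0 ≤ A := fun a => by
    rw [hA, Finsupp.filter_apply]
    split_ifs with h
    · exact h.le
    · simp
  have hB0 : 0 ≤ B := fun a => by
    rw [hB, Finsupp.neg_apply, Finsupp.filter_apply]
    split_ifs with h
    · simp
    · simp
      omega
  have hAs : ∀ a ∈ A.support, a ∈ simples P S ∧ 0 < l a := fun a ha => by
    rw [hA, Finsupp.support_filter, Finset.mem_filter] at ha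
    exact ⟨hl ha.1, ha.2⟩
  have hBs : ∀ a ∈ B.support, a ∈ simples P S ∧ ¬ 0 < l a := fun a ha => by
    rw [hB, Finsupp.support_neg, Finsupp.support_filter, Finset.mem_filter] at ha
    exact ⟨hl ha.1, ha.2⟩
  have heq : comb P A = comb P B := by
    rw [← sub_eq_zero, comb, comb, ← map_sub, ← hAB]
    exact h0
  let x : span ℤ (Set.range P.root) := ⟨comb P A, form_mem_span P A⟩
  have hx0 : x = 0 := by
    by_contra hx
    have hpos := P.posRootForm_posForm_pos_of_ne_zero ℤ hx
    have e1 : x = ∑ a ∈ A.support, A a • P.rootSpanMem ℤ a := by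
      ext
      simp [x, comb_def, Finsupp.sum]
    have e2 : x = ∑ b ∈ B.support, B b • P.rootSpanMem ℤ b := by
      ext
      simp [x, heq, comb_def, Finsupp.sum]
    have hle : (P.posRootForm ℤ).posForm x x ≤ 0 := by
      conv_lhs => arg 1; arg 2; rw [e1]
      conv_lhs => arg 2; rw [e2]
      simp only [map_sum, map_zsmul, LinearMap.coe_sum, Finset.sum_apply, LinearMap.smul_apply,
        smul_eq_mul]
      simp only [Finset.mul_sum]
      refine Finset.sum_nonpos fun b hb => Finset.sum_nonpos fun a ha => ?_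
      have hne : b ≠ a := fun e => (hBs b hb).2 (e ▸ (hAs a ha).2)
      have h1 : (P.posRootForm ℤ).posForm (P.rootSpanMem ℤ b) (P.rootSpanMem ℤ a) ≤ 0 := by
        rw [RootPositiveForm.posForm_apply_root_root_le_zero_iff]
        exact pairingIn_nonpos_of_mem_simples hS (hBs b hb).1 (hAs a ha).1 hne
      have h2 : (P.posRootForm ℤ).posForm (P.rootSpanMem ℤ a) (P.rootSpanMem ℤ b) ≤ 0 := by
        rw [RootPositiveForm.posForm_apply_root_root_le_zero_iff]
        exact pairingIn_nonpos_of_mem_simples hS (hAs a ha).1 (hBs b hb).1 hne.symm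
      first
        | exact mul_nonpos_of_nonneg_of_nonpos (hA0 a) (mul_nonpos_of_nonneg_of_nonpos (hB0 b) h2)
        | exact mul_nonpos_of_nonneg_of_nonpos (hB0 b) (mul_nonpos_of_nonneg_of_nonpos (hA0 a) h2)
    exact absurd hle (not_le.2 hpos)
  have key : ∀ C : ι →₀ ℤ, 0 ≤ C → (∀ a ∈ C.support, a ∈ S) → comb P C = 0 → C = 0 := by
    intro C hC hCS h
    have hmem := comb_mem_natSpan (P := P) (Δ := S) hCS hC
    by_contra hne
    obtain ⟨a, ha⟩ := Finsupp.support_nonempty_iff.2 hne
    have hrest : comb P (C - Finsupp.single a 1) ∈ _root_.RootD.natSpan P S := by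
      refine comb_mem_natSpan (fun b hb => ?_) (fun b => ?_)
      · rcases Finset.mem_union.1 (Finsupp.support_sub hb) with h' | h'
        · exact hCS b h'
        · have := Finsupp.support_single_subset h'
          rw [Finset.mem_singleton] at this
          exact this ▸ hCS a ha
      · have h1 := hC b
        have h2 := Finsupp.mem_support_iff.1 ha
        by_cases hb : a = b
        · subst hb
          simp at h1 ⊢
          omega
        · simpa [hb] using h1
    obtain ⟨t, htS, ht⟩ := mem_natSpan_iff.1 hrest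
    have hs : rsum P (a ::ₘ t) = 0 := by
      simp only [rsum] at ht
      simp [rsum, ht, map_sub, h]
    exact Multiset.cons_ne_zero (rsum_eq_zero hc hS.disjoint (a ::ₘ t) (by
      intro b hb
      rcases Multiset.mem_cons.1 hb with rfl | hb
      · exact hCS b ha
      · exact htS b hb) hs)
  have hA' : A = 0 := key A hA0 (fun a ha => (hAs a ha).1.1) (congrArg Subtype.val hx0)
  have hB' : B = 0 := key B hB0 (fun a ha => (hBs a ha).1.1)
    (heq ▸ congrArg Subtype.val hx0)
  rw [hAB, hA', hB', sub_zero]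

theorem isSimple_simples (hS : _root_.RootD.IsPosSys P S) : IsSimple P (simples P S) := by
  refine ⟨linearIndepOn_simples hS, fun i => ?_⟩
  rcases hS.cover i with h | h
  · exact Or.inl (mem_natSpan_simples (isClosedSub_of_isPosSys hS) hS.disjoint h)
  · right
    rw [← root_neg]
    exact mem_natSpan_simples (isClosedSub_of_isPosSys hS) hS.disjoint h

end simples

end Cryst

end Groth.L24.RootD
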