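import Groth.Agent.L24.RootD.Levi
import Groth.Agent.L24.RootD.Exists

/-!
Tits' decomposition of a Weyl group element sending a simple root to a simple root.
-/

set_option autoImplicit false
set_option linter.unusedSectionVars false

open Function Set RootPairing
open Submodule (span)

namespace Groth.L24.RootD

variable {ι R M N : Type*} [CommRing R] [CharZero R] [IsDomain R] [AddCommGroup M] [Module R M]
  [AddCommGroup N] [Module R N] {P : RootPairing ι R M N} [Finite ι] [P.IsCrystallographic] {Δ : Set ι}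

local notation "pos" => _root_.RootD.posOf

theorem comb_smul_sub (hΔ : IsSimple P Δ) {T : Set ι} (hT : T ⊆ Δ) {k : ι} :
    ∀ l : List ι, MinWord P T l → (∀ a ∈ T, 0 ≤ P.pairingIn ℤ k a) →
      ∃ c : ι →₀ ℤ, ↑c.support ⊆ Δ ∧ comb P c = P.root k - P.root (wd P l • k) ∧ 0 ≤ csum c ∧
        (∀ a ∈ l, 0 < P.pairingIn ℤ k a → 0 < csum c) := by
  classical
  intro l
  induction l using List.reverseRecOn with
  | nil =>
    intro _ _
    exact ⟨0, by simp, by rw [wd_nil, one_smul, comb, map_zero, sub_self], by simp, fun a ha => by simp at ha⟩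
  | append_singleton t a ih =>
    intro hl hk
    have hinit : MinWord P T t := by
      refine ⟨fun x hx => hl.1 x (List.mem_append_left _ hx), fun l' hl' e => ?_⟩
      have h2 := hl.2 (l' ++ [a]) (fun x hx => by
        rcases List.mem_append.1 hx with hx | hx
        · exact hl' x hx
        · exact hl.1 x (List.mem_append_right _ hx)) (by rw [wd_append, wd_append, e])
      simp only [List.length_append, List.length_singleton] at h2
      omega
    obtain ⟨c, hc, hck, hc0, hcp⟩ := ih hinit hk
    have ha : a ∈ T := hl.1 a (by simp)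
    have hpos : wd P t • a ∈ pos P Δ := hΔ.neg_last hT hl
    obtain ⟨d, hd, hdk, -⟩ := hΔ.exists_comb (wd P t • a)
    have hd1 : 0 < csum d := hΔ.csum_pos_of_pos hpos hd hdk
    refine ⟨c + P.pairingIn ℤ k a • d, ?_, ?_, ?_, ?_⟩
    · intro x hx
      rcases Finset.mem_union.1 (Finsupp.support_add hx) with h | h
      · exact hc h
      · exact hd (Finsupp.support_smul h)
    · rw [comb, map_add, map_zsmul, ← comb, ← comb, hck, hdk, wd_append, wd_singleton, mul_smul,
        reflection_smul_idx, root_smul, root_smul, root_smul, root_reflectionPerm_int, smul_sub, smul_zsmul_M]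
      abel
    · rw [csum, map_add, map_zsmul]
      exact add_nonneg hc0 (smul_nonneg (hk a ha) hd1.le)
    · intro x hx hxp
      rw [csum, map_add, map_zsmul]
      rcases List.mem_append.1 hx with hx | hx
      · exact add_pos_of_pos_of_nonneg (hcp x hx hxp) (smul_nonneg (hk a ha) hd1.le)
      · rw [List.mem_singleton] at hx; subst hx
        exact add_pos_of_nonneg_of_pos hc0 (smul_pos hxp hd1)

theorem exists_shorter (hΔ : IsSimple P Δ) {l : List ι} (hl : ∀ b ∈ l, b ∈ Δ) {a : ι} (ha : a ∈ Δ)
    (h : wd P l • a ∉ pos P Δ) :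
    ∃ l' : List ι, (∀ b ∈ l', b ∈ Δ) ∧ wd P l' = wd P l * Equiv.reflection P a ∧ l'.length < l.length := by
  obtain ⟨p, b, q, rfl, hq⟩ := hΔ.exists_flip (hΔ.subset_pos ha) (hΔ.indiv ha) l hl h
  refine ⟨p ++ q, fun x hx => hl x (by simp only [List.mem_append, List.mem_cons] at hx ⊢; tauto), ?_, by simp⟩
  rw [wd_append, wd_append, wd_cons, mul_assoc, mul_assoc, ← hq, ← conj_reflection]
  simp only [← mul_assoc]
  rw [inv_mul_cancel_right, mul_assoc (wd P p * wd P q), reflection_mul_self, mul_one]

theorem exists_coset_rep (hΔ : IsSimple P Δ) {a b : ι} (ha : a ∈ Δ) (hb : b ∈ Δ) :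
    ∀ (l : List ι), (∀ x ∈ l, x ∈ Δ) →
      ∃ (l' : List ι) (v : P.Aut), (∀ x ∈ l', x ∈ Δ) ∧ l'.length ≤ l.length ∧
        v ∈ Subgroup.closure {Equiv.reflection P a, Equiv.reflection P b} ∧ wd P l = wd P l' * v ∧
        wd P l' • a ∈ pos P Δ ∧ wd P l' • b ∈ pos P Δ := by
  intro l
  induction hn : l.length using Nat.strong_induction_on generalizing l with
  | _ n ih =>
    intro hl
    by_cases h : wd P l • a ∈ pos P Δ ∧ wd P l • b ∈ pos P Δ
    · exact ⟨l, 1, hl, by omega, one_mem _, (mul_one _).symm, h.1, h.2⟩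
    obtain ⟨c, hc, hcm, hneg⟩ : ∃ c ∈ Δ, Equiv.reflection P c ∈
        Subgroup.closure {Equiv.reflection P a, Equiv.reflection P b} ∧ wd P l • c ∉ pos P Δ := by
      rcases not_and_or.1 h with h | h
      · exact ⟨a, ha, Subgroup.subset_closure (by simp), h⟩
      · exact ⟨b, hb, Subgroup.subset_closure (by simp), h⟩
    obtain ⟨l₁, hl₁, he, hlt⟩ := exists_shorter hΔ hl hc hneg
    obtain ⟨l', v, h1, h2, h3, h4, h5⟩ := ih l₁.length (by omega) l₁ rfl hl₁
    refine ⟨l', v * Equiv.reflection P c, h1, by omega, mul_mem h3 hcm, ?_, h5⟩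
    rw [← mul_assoc, ← h4, he, mul_assoc, reflection_mul_self, mul_one]

theorem exists_chain (hΔ : IsSimple P Δ) {β : ι} (hβ : β ∈ Δ) :
    ∀ (n : ℕ) (l : List ι), l.length ≤ n → (∀ x ∈ l, x ∈ Δ) → ∀ α ∈ Δ, wd P l • α = β →
      ∃ (m : ℕ) (a : Fin (m + 1) → ι) (ws : Fin m → P.Aut),
        (∀ i, a i ∈ Δ) ∧ a 0 = α ∧ a (Fin.last m) = β ∧ (∀ i, ws i ∈ P.weylGroup) ∧
        wd P l = (List.ofFn fun i : Fin m => ws (Fin.rev i)).prod ∧
        (∀ i : Fin m, ws i • a (Fin.castSucc i) = a (Fin.succ i)) ∧
        ∀ i : Fin m, ∃ γ ∈ Δ, ws i ∈ Subgroup.closure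
            {Equiv.reflection P (a (Fin.castSucc i)), Equiv.reflection P γ} ∧
          (a (Fin.castSucc i) ≠ a (Fin.succ i) → γ = a (Fin.succ i)) := by
  intro n
  induction n with
  | zero =>
    intro l hn _ α hα hlα
    obtain rfl := List.eq_nil_of_length_eq_zero (Nat.le_zero.1 hn)
    rw [wd_nil, one_smul] at hlα
    subst hlα
    exact ⟨0, fun _ => α, Fin.elim0, fun _ => hα, rfl, rfl, fun i => i.elim0, by simp [wd_nil],
      fun i => i.elim0, fun i => i.elim0⟩
  | succ n ih =>
    intro l hn hl α hα hlα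
    classical
    by_cases hneg : ∀ γ ∈ Δ, wd P l • γ ∈ pos P Δ
    · have h1 : wd P l = 1 := by
        by_contra h
        obtain ⟨l₀, hmin, he⟩ := exists_minWord (P := P) (T := Δ) (g := wd P l) (wd_mem hl)
        rcases List.eq_nil_or_concat l₀ with rfl | ⟨t, c, rfl⟩
        · exact h (by rw [← he, wd_nil])
        rw [List.concat_eq_append] at hmin he
        have hp := hΔ.neg_last subset_rfl hmin
        have hp2 := hneg c (hmin.1 c (by simp))
        rw [← he, wd_append, wd_singleton, mul_smul, reflection_smul_idx, smul_neg_idx] at hp2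
        exact hΔ.disjoint_pos hp hp2
      obtain ⟨m, a, ws, h⟩ := ih [] (Nat.zero_le n) (fun x hx => absurd hx List.not_mem_nil) α hα
        (by rw [wd_nil, ← h1, hlα])
      exact ⟨m, a, ws, by rwa [h1, ← wd_nil (P := P)]⟩
    push Not at hneg
    obtain ⟨γ, hγ, hγn⟩ := hneg
    obtain ⟨l₁, hl₁, he₁, hlt⟩ := exists_shorter hΔ hl hγ hγn
    obtain ⟨l', v, hl', hle, hv, hvl, hpa, hpb⟩ := exists_coset_rep hΔ hα hγ l₁ hl₁
    have hw : wd P l = wd P l' * (v * Equiv.reflection P γ) := by
      rw [← mul_assoc, ← hvl, he₁, mul_assoc, reflection_mul_self, mul_one]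
    have hvc : v * Equiv.reflection P γ ∈ Subgroup.closure {Equiv.reflection P α, Equiv.reflection P γ} :=
      mul_mem hv (Subgroup.subset_closure (by simp))
    have hv' : v * Equiv.reflection P γ ∈
        Subgroup.closure ((fun i : ι => Equiv.reflection P i) '' {α, γ}) := by rwa [Set.image_pair]
    generalize hug : v * Equiv.reflection P γ = v' at hw hvc hv'
    have hor : v' • α = α ∨ v' • α = γ := by
      have hne : α ≠ γ := fun e => hγn (e ▸ hlα ▸ hΔ.subset_pos hβ)
      have hsub := smul_sub_mem_span hv' α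
      have hαs : P.root α ∈ span ℤ (P.root '' {α, γ}) := Submodule.subset_span ⟨α, by simp, rfl⟩
      obtain ⟨c, hc, hck⟩ := exists_comb_of_mem_span
        (by simpa using add_mem hsub hαs : P.root (v' • α) ∈ span ℤ (P.root '' {α, γ}))
      have hcΔ : ↑c.support ⊆ Δ := hc.trans (Set.pair_subset hα hγ)
      have hce : c = Finsupp.single α (c α) + Finsupp.single γ (c γ) := by
        ext x
        by_cases h1 : x = α
        · subst h1; simp [hne]
        by_cases h2 : x = γ
        · subst h2; simp [hne.symm]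
        have h0 : c x = 0 := by
          by_contra hx
          rcases hc (Finsupp.mem_support_iff.2 hx) with e | e
          · exact h1 e
          · exact h2 e
        simp [h0, h1, h2]
      have hroot : P.root (v' • α) = c α • P.root α + c γ • P.root γ := by
        rw [← hck]; conv_lhs => rw [hce]
        simp
      obtain ⟨c', hc', hck', hsign⟩ := hΔ.exists_comb (v' • α)
      have heq : c' = c := hΔ.comb_eq hc' hcΔ (hck'.trans hck.symm)
      rw [heq] at hsign
      have hβe : P.root β = c α • P.root (wd P l' • α) + c γ • P.root (wd P l' • γ) := by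
        rw [← hlα, hw, mul_smul, root_smul, hroot, smul_add, smul_zsmul_M, smul_zsmul_M, ← root_smul, ← root_smul]
      obtain ⟨d₁, hd₁, hd₁k, -⟩ := hΔ.exists_comb (wd P l' • α)
      obtain ⟨d₂, hd₂, hd₂k, -⟩ := hΔ.exists_comb (wd P l' • γ)
      have hd : Finsupp.single β (1 : ℤ) = c α • d₁ + c γ • d₂ := by
        refine hΔ.comb_eq (fun x hx => ?_) (fun x hx => ?_) ?_
        · rw [Finset.mem_coe, Finsupp.mem_support_single] at hx; exact hx.1 ▸ hβ
        · rcases Finset.mem_union.1 (Finsupp.support_add hx) with h | h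
          · exact hd₁ (Finsupp.support_smul h)
          · exact hd₂ (Finsupp.support_smul h)
        · simp only [comb, map_add, map_zsmul, Finsupp.linearCombination_single, one_smul]
          rw [show Finsupp.linearCombination ℤ P.root d₁ = P.root (wd P l' • α) from hd₁k,
            show Finsupp.linearCombination ℤ P.root d₂ = P.root (wd P l' • γ) from hd₂k]
          exact hβe
      have hsum : 1 = c α * csum d₁ + c γ * csum d₂ := by
        have := congrArg csum hd
        simpa using this
      have p1 := hΔ.csum_pos_of_pos hpa hd₁ hd₁k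
      have p2 := hΔ.csum_pos_of_pos hpb hd₂ hd₂k
      rcases hsign with hs | hs
      · have a0 : 0 ≤ c α := hs α
        have b0 : 0 ≤ c γ := hs γ
        have q1 := mul_nonneg a0 (show 0 ≤ csum d₁ - 1 by omega)
        have q2 := mul_nonneg b0 (show 0 ≤ csum d₂ - 1 by omega)
        have : c α + c γ ≤ 1 := by nlinarith
        have hsne : c α + c γ ≠ 0 := fun e => by
          have e1 : c α = 0 := by omega
          have e2 : c γ = 0 := by omega
          rw [e1, e2] at hsum; simp at hsum
        have : c α = 1 ∧ c γ = 0 ∨ c α = 0 ∧ c γ = 1 := by omega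
        rcases this with ⟨e1, e2⟩ | ⟨e1, e2⟩
        · left; exact P.root.injective (by rw [hroot, e1, e2]; simp)
        · right; exact P.root.injective (by rw [hroot, e1, e2]; simp)
      · exfalso
        have a0 : c α ≤ 0 := hs α
        have b0 : c γ ≤ 0 := hs γ
        nlinarith
    have hvΔ : v' • α ∈ Δ := by rcases hor with e | e <;> rw [e] <;> assumption
    have hvW : v' ∈ P.weylGroup := Subgroup.closure_mono (Set.image_subset_range _ _) hv'
    obtain ⟨m, a, ws, h1, h2, h3, h4, h5, h6, h7⟩ := ih l' (by omega) hl' (v' • α) hvΔ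
      (by rw [← mul_smul, ← hw]; exact hlα)
    refine ⟨m + 1, Fin.cons α a, Fin.cons v' ws, ?_, by simp, ?_, ?_, ?_, ?_, ?_⟩
    · intro i; refine Fin.cases ?_ ?_ i
      · simpa using hα
      · intro j; simpa using h1 j
    · rw [← Fin.succ_last, Fin.cons_succ]; exact h3
    · intro i; refine Fin.cases ?_ ?_ i
      · simpa using hvW
      · intro j; simpa using h4 j
    · rw [hw, List.ofFn_succ', List.concat_eq_append, List.prod_append, h5]
      simp [Fin.rev_castSucc, Fin.rev_last]
    · intro i; refine Fin.cases ?_ ?_ i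
      · simp [h2]
      · intro j; simpa [← Fin.succ_castSucc] using h6 j
    · intro i; refine Fin.cases ?_ ?_ i
      · refine ⟨γ, hγ, by simpa using hvc, fun hne => ?_⟩
        rcases hor with e | e
        · simp [h2, e] at hne
        · simp [h2, e]
      · intro j; simpa [← Fin.succ_castSucc] using h7 j

end Groth.L24.RootD
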